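import Mathlib
import Cfsg.Agent.Lib.FTCons.Basic
import Cfsg.Agent.Lib.Involutions.BaerSuzuki

/-!
Real elements of quotients: lifting, and the consequences of having no real element of odd order.
-/

set_option autoImplicit false

namespace CfsgLib.RealGraph81

universe u v

variable {G : Type u} [Group G]

/-- An element is real when some element conjugates it to its inverse. -/
def IsReal (x : G) : Prop := ∃ s : G, s * x * s⁻¹ = x⁻¹

theorem conj_pow_odd {s y : G} (h : s * y * s⁻¹ = y⁻¹) :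
    ∀ m : ℕ, Odd m → s ^ m * y * (s ^ m)⁻¹ = y⁻¹ := by
  have h' : s * y⁻¹ * s⁻¹ = y := by
    have := congrArg (fun z => z⁻¹) h
    simpa [mul_assoc] using this
  rintro m ⟨j, rfl⟩
  induction j with
  | zero => simpa using h
  | succ j ih =>
    have e : s ^ (2 * (j + 1) + 1) * y * (s ^ (2 * (j + 1) + 1))⁻¹ =
        s * (s * (s ^ (2 * j + 1) * y * (s ^ (2 * j + 1))⁻¹) * s⁻¹) * s⁻¹ := by
      rw [show 2 * (j + 1) + 1 = (2 * j + 1) + 1 + 1 by ring, pow_succ', pow_succ']
      group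
    rw [e, ih, h', h]

theorem exists_odd_pow_two [Finite G] (s : G) : ∃ m k : ℕ, Odd m ∧ (s ^ m) ^ (2 ^ k) = 1 := by
  obtain ⟨k, m, hm, he⟩ := Nat.exists_eq_two_pow_mul_odd (orderOf_pos s).ne'
  exact ⟨m, k, hm, by rw [← pow_mul, mul_comm, ← he, pow_orderOf_eq_one]⟩

/-- A real element can be inverted by a 2-element. -/
theorem IsReal.two_inverter [Finite G] {x : G} (h : IsReal x) :
    ∃ s : G, ∃ k : ℕ, s ^ (2 ^ k) = 1 ∧ s * x * s⁻¹ = x⁻¹ := by
  obtain ⟨s, hs⟩ := h
  obtain ⟨m, k, hm, hk⟩ := exists_odd_pow_two s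
  exact ⟨s ^ m, k, hk, conj_pow_odd hs m hm⟩

theorem IsReal.pow {x : G} (h : IsReal x) (n : ℕ) : IsReal (x ^ n) := by
  obtain ⟨s, hs⟩ := h
  exact ⟨s, by rw [← conj_pow, hs, inv_pow]⟩

theorem IsReal.map {Q : Type v} [Group Q] {x : G} (h : IsReal x) (f : G →* Q) : IsReal (f x) := by
  obtain ⟨s, hs⟩ := h
  exact ⟨f s, by rw [← map_inv f, ← map_mul, ← map_mul, hs, map_inv]⟩

/-- The fixed point lemma: a set of odd size stable under `g ↦ s g⁻¹ s⁻¹` contains an element
inverted by the 2-element `s`. -/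
theorem exists_inverted [Finite G] {s : G} {k : ℕ} (hs : s ^ (2 ^ k) = 1) (C : Set G)
    (hodd : Odd C.ncard) (hC : ∀ g ∈ C, s * g⁻¹ * s⁻¹ ∈ C) : ∃ g ∈ C, s * g * s⁻¹ = g⁻¹ := by
  classical
  have : Fintype C := Fintype.ofFinite C
  let f : C → C := fun g => ⟨s * (g : G)⁻¹ * s⁻¹, hC g g.2⟩
  have hf : Function.Injective f := fun a b h => by
    have h' : s * (a : G)⁻¹ * s⁻¹ = s * (b : G)⁻¹ * s⁻¹ := congrArg Subtype.val h
    exact Subtype.ext (inv_injective (mul_left_cancel (mul_right_cancel h')))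
  let σ : Equiv.Perm C := Equiv.ofBijective f (Finite.injective_iff_bijective.1 hf)
  have hσ : ∀ g : C, σ g = f g := fun g => rfl
  have h2 : ∀ (j : ℕ) (g : C), ((σ ^ (2 * j)) g : G) = s ^ (2 * j) * g * (s ^ (2 * j))⁻¹ := by
    intro j
    induction j with
    | zero => intro g; simp
    | succ j ih =>
      intro g
      rw [show 2 * (j + 1) = 1 + (1 + 2 * j) by ring, pow_add σ, pow_add σ, pow_one,
        Equiv.Perm.mul_apply, Equiv.Perm.mul_apply, hσ, hσ]
      show s * (s * ((σ ^ (2 * j)) g : G)⁻¹ * s⁻¹)⁻¹ * s⁻¹ = _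
      rw [ih, pow_add, pow_add, pow_one]
      group
  have hpow : σ ^ 2 ^ (k + 1) = 1 := by
    refine Equiv.ext fun g => Subtype.ext ?_
    rw [pow_succ', h2, pow_mul', hs, one_pow]
    simp
  have hnd : ¬ 2 ∣ Fintype.card C := by
    rw [← Nat.card_eq_fintype_card, Nat.card_coe_set_eq, ← even_iff_two_dvd, Nat.not_even_iff_odd]
    exact hodd
  obtain ⟨g, hg⟩ := Equiv.Perm.exists_fixed_point_of_prime hnd hpow
  refine ⟨g, g.2, ?_⟩
  have h' : s * (g : G)⁻¹ * s⁻¹ = g := congrArg Subtype.val hg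
  have := congrArg (fun z => z⁻¹) h'
  simpa [mul_assoc] using this

/-- Frattini: an element normalising `L` can be corrected by an element of `L` to normalise a given
Sylow subgroup of `L`. -/
theorem exists_mul_normalizes [Finite G] {r : ℕ} [Fact r.Prime] {L : Subgroup G} {s₀ : G}
    (hnorm : s₀ ∈ Subgroup.normalizer (L : Set G)) (R : Sylow r L) :
    ∃ l ∈ L, ∀ g, g ∈ (R : Subgroup L).map L.subtype ↔
      l * s₀ * g * (l * s₀)⁻¹ ∈ (R : Subgroup L).map L.subtype := by
    set R' : Subgroup G := (R : Subgroup L).map L.subtype with hR'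
    have hR'L : R' ≤ L := Subgroup.map_subtype_le _
    set T : Subgroup G := R'.map (MulAut.conj s₀).toMonoidHom with hT
    have hTL : T ≤ L := by
      rintro _ ⟨g, hg, rfl⟩
      exact (Subgroup.mem_normalizer_iff.1 hnorm g).1 (hR'L hg)
    have hTc : Nat.card (T.subgroupOf L) = r ^ (Nat.card L).factorization r := by
      rw [Nat.card_congr (Subgroup.subgroupOfEquivOfLe hTL).toEquiv, hT,
        Subgroup.card_map_of_injective (MulAut.conj s₀).injective, hR',
        Subgroup.card_map_of_injective L.subtype_injective]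
      exact R.card_eq_multiplicity
    obtain ⟨l, hl⟩ := MulAction.exists_smul_eq L (Sylow.ofCard (T.subgroupOf L) hTc) R
    refine ⟨l, l.2, fun g => ?_⟩
    have e : R' = T.map (MulAut.conj (l : G)).toMonoidHom := by
      have h1 : (R : Subgroup L) = (T.subgroupOf L).map (MulAut.conj l).toMonoidHom := by
        rw [← hl]; rfl
      rw [hR', h1, Subgroup.map_map]
      rw [show L.subtype.comp (MulAut.conj l).toMonoidHom =
          (MulAut.conj (l : G)).toMonoidHom.comp L.subtype from MonoidHom.ext fun x => rfl,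
        ← Subgroup.map_map, Subgroup.subgroupOf_map_subtype, inf_of_le_left hTL]
    conv_rhs => rw [e, hT, Subgroup.map_map]
    constructor
    · intro hg
      exact ⟨g, hg, by simp [mul_assoc]⟩
    · rintro ⟨g', hg', hgg⟩
      have : g' = g := by
        simp [mul_assoc] at hgg
        exact hgg
      exact this ▸ hg'

section Quotient

variable [Finite G] {Q : Type v} [Group Q] (f : G →* Q)

theorem ncard_fibre {y : Q} (hy : y ∈ f.range) : {g : G | f g = y}.ncard = Nat.card f.ker := by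
  obtain ⟨g₀, rfl⟩ := hy
  rw [← Nat.card_coe_set_eq]
  refine Nat.card_congr
    { toFun := fun g => ⟨g₀⁻¹ * g, by
        rw [MonoidHom.mem_ker, map_mul, map_inv, show f g = f g₀ from g.2, inv_mul_cancel]⟩
      invFun := fun n => ⟨g₀ * n, by
        show f (g₀ * n) = f g₀
        rw [map_mul, MonoidHom.mem_ker.1 n.2, mul_one]⟩
      left_inv := fun g => Subtype.ext (mul_inv_cancel_left _ _)
      right_inv := fun n => Subtype.ext (inv_mul_cancel_left _ _) }

/-- Real elements lift through a kernel of odd order. -/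
theorem lift_of_odd_ker (hf : Function.Surjective f) (hN : Odd (Nat.card f.ker)) {y : Q}
    (hy : IsReal y) : ∃ g : G, f g = y ∧ IsReal g := by
  obtain ⟨u, hu⟩ := hy
  obtain ⟨s₀, rfl⟩ := hf u
  obtain ⟨m, k, hm, hk⟩ := exists_odd_pow_two s₀
  have hu' : f (s₀ ^ m) * y * (f (s₀ ^ m))⁻¹ = y⁻¹ := by
    rw [map_pow]; exact conj_pow_odd hu m hm
  obtain ⟨g, hg, hgs⟩ := exists_inverted hk {g : G | f g = y}
    (by rw [ncard_fibre f (hf y)]; exact hN) (fun g hg => by
      show f _ = y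
      rw [map_mul, map_mul, map_inv, map_inv, show f g = y from hg]
      have := congrArg (fun z => z⁻¹) hu'
      simpa [mul_assoc] using this)
  exact ⟨g, hg, _, hgs⟩

/-- Elements of square one lift to elements of square one through a kernel of odd order. -/
theorem lift_sq_one (hN : Odd (Nat.card f.ker)) {y : Q} (hy : y ∈ f.range) (hy2 : y * y = 1) :
    ∃ g : G, f g = y ∧ g * g = 1 := by
  obtain ⟨g, hg, hgs⟩ := exists_inverted (s := (1 : G)) (k := 0) (by simp) {g : G | f g = y}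
    (by rw [ncard_fibre f hy]; exact hN) (fun g hg => by
      show f _ = y
      simp only [one_mul, inv_one, mul_one, map_inv, show f g = y from hg]
      exact (eq_inv_of_mul_eq_one_left hy2).symm)
  refine ⟨g, hg, ?_⟩
  rw [one_mul, inv_one, mul_one] at hgs
  exact mul_eq_one_iff_eq_inv.2 hgs

/-- Real elements of odd prime power order lift to real elements of odd order. -/
theorem lift_primePow (hf : Function.Surjective f) {y : Q} {r j : ℕ} (hr : r.Prime) (hr2 : r ≠ 2)
    (ho : orderOf y = r ^ j) (hy : IsReal y) : ∃ g : G, f g = y ∧ IsReal g ∧ Odd (orderOf g) := by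
  have : Fact r.Prime := ⟨hr⟩
  have : Finite Q := Finite.of_surjective f hf
  obtain ⟨u, hu⟩ := hy
  obtain ⟨s₀, rfl⟩ := hf u
  set L : Subgroup G := (Subgroup.zpowers y).comap f with hL
  let R : Sylow r L := default
  set R' : Subgroup G := (R : Subgroup L).map L.subtype with hR'
  -- `s₀` normalises `L`
  have hinv : ∀ i : ℤ, f s₀ * y ^ i * (f s₀)⁻¹ = (y ^ i)⁻¹ := fun i => by
    rw [← conj_zpow, hu, inv_zpow]
  have hinv2 : ∀ i : ℤ, (f s₀)⁻¹ * y ^ i * f s₀ = (y ^ i)⁻¹ := fun i => by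
    have h1 := hinv (-i)
    rw [zpow_neg, inv_inv] at h1
    calc (f s₀)⁻¹ * y ^ i * f s₀ = (f s₀)⁻¹ * (f s₀ * (y ^ i)⁻¹ * (f s₀)⁻¹) * f s₀ := by rw [h1]
      _ = (y ^ i)⁻¹ := by group
  have hnorm : s₀ ∈ Subgroup.normalizer (L : Set G) := by
    refine Subgroup.mem_normalizer_iff.2 fun g => ⟨fun hg => ?_, fun hg => ?_⟩
    · obtain ⟨i, hi⟩ := Subgroup.mem_zpowers_iff.1 (show f g ∈ Subgroup.zpowers y from hg)
      show f _ ∈ Subgroup.zpowers y
      rw [map_mul, map_mul, map_inv, ← hi, hinv]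
      exact Subgroup.inv_mem _ (Subgroup.zpow_mem _ (Subgroup.mem_zpowers y) i)
    · obtain ⟨i, hi⟩ := Subgroup.mem_zpowers_iff.1 (show f (s₀ * g * s₀⁻¹) ∈ Subgroup.zpowers y from hg)
      show f g ∈ Subgroup.zpowers y
      have : f g = (f s₀)⁻¹ * y ^ i * f s₀ := by rw [hi, map_mul, map_mul, map_inv]; group
      rw [this, hinv2]
      exact Subgroup.inv_mem _ (Subgroup.zpow_mem _ (Subgroup.mem_zpowers y) i)
  obtain ⟨l, hlL, hsR'⟩ := exists_mul_normalizes hnorm R
  obtain ⟨s, hsR, hs⟩ : ∃ s, (∀ g, g ∈ R' ↔ s * g * s⁻¹ ∈ R') ∧ s = l * s₀ := ⟨_, hsR', rfl⟩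
  -- the image of `s` still inverts `y`
  have hfs : f s * y * (f s)⁻¹ = y⁻¹ := by
    obtain ⟨i, hi⟩ := Subgroup.mem_zpowers_iff.1 (show f l ∈ Subgroup.zpowers y from hlL)
    rw [hs, map_mul, ← hi,
      show y ^ i * f s₀ * y * (y ^ i * f s₀)⁻¹ = y ^ i * (f s₀ * y * (f s₀)⁻¹) * (y ^ i)⁻¹ by group, hu]
    group
  obtain ⟨m, k, hm, hk⟩ := exists_odd_pow_two s
  have hsm : ∀ n : ℕ, ∀ g ∈ R', s ^ n * g * (s ^ n)⁻¹ ∈ R' := by
    intro n
    induction n with
    | zero => intro g hg; simpa using hg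
    | succ n ih =>
      intro g hg
      have h1 := (hsR _).1 (ih g hg)
      rw [pow_succ']
      simpa [mul_assoc] using h1
  have hfm : f (s ^ m) * y * (f (s ^ m))⁻¹ = y⁻¹ := by rw [map_pow]; exact conj_pow_odd hfs m hm
  -- `R'` maps onto `⟨y⟩`
  let fL : L →* Subgroup.zpowers y :=
    { toFun := fun g => ⟨f (g : G), g.2⟩, map_one' := Subtype.ext (map_one f)
      map_mul' := fun a b => Subtype.ext (map_mul f (a : G) b) }
  have hfL : Function.Surjective fL := fun z => by
    obtain ⟨g, hg⟩ := hf (z : Q)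
    exact ⟨⟨g, by show f g ∈ Subgroup.zpowers y; rw [hg]; exact z.2⟩, Subtype.ext hg⟩
  have htop : ((R.mapSurjective hfL : Sylow r (Subgroup.zpowers y)) : Subgroup (Subgroup.zpowers y)) = ⊤ := by
    have hp : IsPGroup r (Subgroup.zpowers y) := IsPGroup.of_card (by rw [Nat.card_zpowers, ho])
    exact ((R.mapSurjective hfL).3 (hp.to_subgroup ⊤) le_top).symm
  have hyR : ∃ g₀ ∈ R', f g₀ = y := by
    have : (⟨y, Subgroup.mem_zpowers y⟩ : Subgroup.zpowers y) ∈ (R : Subgroup L).map fL := by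
      have := htop
      rw [Sylow.coe_mapSurjective] at this
      rw [this]; exact Subgroup.mem_top _
    obtain ⟨a, ha, hay⟩ := this
    exact ⟨a, ⟨a, ha, rfl⟩, congrArg Subtype.val hay⟩
  have hR'p : IsPGroup r R' := R.2.map _
  let C : Set G := {g | g ∈ R' ∧ f g = y}
  have hoddC : Odd C.ncard := by
    let fR : R' →* Q := f.comp R'.subtype
    have h1 : C.ncard = {a : R' | fR a = y}.ncard := by
      rw [← Set.ncard_image_of_injective {a : R' | fR a = y} R'.subtype_injective]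
      congr 1
      ext g
      exact ⟨fun hg => ⟨⟨g, hg.1⟩, hg.2, rfl⟩, by rintro ⟨a, ha, rfl⟩; exact ⟨a.2, ha⟩⟩
    obtain ⟨g₀, hg₀, hg₀y⟩ := hyR
    rw [h1, ncard_fibre fR ⟨⟨g₀, hg₀⟩, hg₀y⟩]
    obtain ⟨n, hn⟩ := IsPGroup.iff_card.1 (hR'p.to_subgroup fR.ker)
    rw [hn]
    exact (hr.odd_of_ne_two hr2).pow
  obtain ⟨g, ⟨hgR, hgy⟩, hgs⟩ := exists_inverted hk C hoddC (fun g hg => by
    refine ⟨hsm m _ (R'.inv_mem hg.1), ?_⟩
    rw [map_mul, map_mul, map_inv, map_inv, hg.2]
    have := congrArg (fun z => z⁻¹) hfm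
    simpa [mul_assoc] using this)
  refine ⟨g, hgy, ⟨_, hgs⟩, ?_⟩
  obtain ⟨n, hn⟩ := IsPGroup.iff_orderOf.1 hR'p ⟨g, hgR⟩
  rw [Subgroup.orderOf_mk] at hn
  rw [hn]
  exact (hr.odd_of_ne_two hr2).pow

end Quotient

/-- Two elements of square one whose product is a 2-element generate a 2-group. -/
theorem isPGroup_pair [Finite G] {a b : G} (ha : a * a = 1) (hb : b * b = 1) {n : ℕ}
    (hn : orderOf (a * b) = 2 ^ n) : IsPGroup 2 (Subgroup.closure ({a, b} : Set G)) := by
  have : Fact (Nat.Prime 2) := ⟨Nat.prime_two⟩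
  set P := Subgroup.zpowers (a * b)
  have hP : IsPGroup 2 P := IsPGroup.of_card (by rw [Nat.card_zpowers, hn])
  have hai : a⁻¹ = a := inv_eq_of_mul_eq_one_right ha
  have hbi : b⁻¹ = b := inv_eq_of_mul_eq_one_right hb
  have hA : IsPGroup 2 (Subgroup.zpowers a) := by
    have : a ^ (2 ^ 1) = 1 := by rw [pow_one, pow_two, ha]
    obtain ⟨i, -, hi⟩ := (Nat.dvd_prime_pow Nat.prime_two).1 (orderOf_dvd_of_pow_eq_one this)
    exact IsPGroup.of_card (by rw [Nat.card_zpowers, hi])
  have hinv : a * (a * b) * a⁻¹ = (a * b)⁻¹ := by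
    rw [mul_inv_rev, hai, hbi, ← mul_assoc, ha, one_mul]
  have hle : Subgroup.zpowers a ≤ Subgroup.normalizer (P : Set G) := by
    rw [Subgroup.zpowers_le, Subgroup.mem_normalizer_iff]
    intro g
    constructor
    · intro hg
      obtain ⟨i, rfl⟩ := Subgroup.mem_zpowers_iff.1 hg
      rw [← conj_zpow, hinv]
      exact Subgroup.zpow_mem _ (Subgroup.inv_mem _ (Subgroup.mem_zpowers _)) _
    · intro hg
      obtain ⟨i, hi⟩ := Subgroup.mem_zpowers_iff.1 hg
      have h2 : a * (a * b) ^ i * a⁻¹ = g := by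
        rw [hi, hai]
        simp [mul_assoc, ha]
        rw [← mul_assoc a a, ha, one_mul]
      rw [← h2, ← conj_zpow, hinv]
      exact Subgroup.zpow_mem _ (Subgroup.inv_mem _ (Subgroup.mem_zpowers _)) _
  have hs := hA.to_sup_of_normal_right' hP hle
  refine hs.to_le ((Subgroup.closure_le _).2 ?_)
  rintro x (rfl | rfl)
  · exact Subgroup.mem_sup_left (Subgroup.mem_zpowers _)
  · have h1 : (x : G) = a * (a * x) := by rw [← mul_assoc, ha, one_mul]
    rw [SetLike.mem_coe, h1]
    exact Subgroup.mul_mem _ (Subgroup.mem_sup_left (Subgroup.mem_zpowers _))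
      (Subgroup.mem_sup_right (Subgroup.mem_zpowers _))

/-- A product of two elements of square one that is not a 2-element has a power of odd prime order
inverted by both. -/
theorem exists_prime_inverted_of_pair [Finite G] {a b : G} (ha : a * a = 1) (hb : b * b = 1)
    (h : ∀ n : ℕ, orderOf (a * b) ≠ 2 ^ n) :
    ∃ m r : ℕ, r.Prime ∧ r ≠ 2 ∧ orderOf ((a * b) ^ m) = r ∧
      a * (a * b) ^ m * a⁻¹ = ((a * b) ^ m)⁻¹ := by
  obtain ⟨r, hr, hrd, hr2⟩ : ∃ r, r.Prime ∧ r ∣ orderOf (a * b) ∧ r ≠ 2 := by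
    rcases Nat.eq_two_pow_or_exists_odd_prime_and_dvd (orderOf (a * b)) with ⟨n, hn⟩ | ⟨r, hr, hd, ho⟩
    · exact absurd hn (h n)
    · exact ⟨r, hr, hd, fun e => by rw [e] at ho; exact absurd ho (by decide)⟩
  refine ⟨orderOf (a * b) / r, r, hr, hr2, orderOf_pow_orderOf_div (orderOf_pos _).ne' hrd, ?_⟩
  have hinv : a * (a * b) * a⁻¹ = (a * b)⁻¹ := by
    rw [mul_inv_rev, inv_eq_of_mul_eq_one_right ha, inv_eq_of_mul_eq_one_right hb, ← mul_assoc, ha,
      one_mul]
  rw [← conj_pow, hinv, inv_pow]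

/-- An involution outside every normal 2-subgroup inverts an element of odd prime order. -/
theorem exists_inverted_prime [Finite G] {a : G} (ha : a * a = 1)
    (ha2 : ∀ N : Subgroup G, N.Normal → IsPGroup 2 N → a ∉ N) :
    ∃ (y : G) (r : ℕ), r.Prime ∧ r ≠ 2 ∧ orderOf y = r ∧ a * y * a⁻¹ = y⁻¹ := by
  have : Fact (Nat.Prime 2) := ⟨Nat.prime_two⟩
  by_contra hno
  obtain ⟨N, hN, hNp, haN⟩ := CfsgLib.Involutions.exists_normal_isPGroup_of_mem (p := 2) (x := a)
    fun g => by
      have hb : g * a * g⁻¹ * (g * a * g⁻¹) = 1 := by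
        rw [show g * a * g⁻¹ * (g * a * g⁻¹) = g * (a * a) * g⁻¹ by group, ha, mul_one,
          mul_inv_cancel]
      by_cases h : ∃ n : ℕ, orderOf (a * (g * a * g⁻¹)) = 2 ^ n
      · obtain ⟨n, hn⟩ := h
        exact isPGroup_pair ha hb hn
      · push Not at h
        obtain ⟨m, r, hr, hr2, ho, hi⟩ := exists_prime_inverted_of_pair ha hb h
        exact absurd ⟨_, r, hr, hr2, ho, hi⟩ hno
  exact ha2 N hN hNp haN

/-- Without real elements of odd order a finite group is solvable. -/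
theorem solvable_of_no_real_odd (hFT : CfsgLib.FTCons.OddSolvable.{u}) [Finite G]
    (h : ∀ x : G, IsReal x → Odd (orderOf x) → x = 1) : Group.IsSolvable G := by
  suffices H : ∀ (n : ℕ) (G : Type u) [Group G] [Finite G], Nat.card G = n →
      (∀ x : G, IsReal x → Odd (orderOf x) → x = 1) → Group.IsSolvable G from H _ G rfl h
  intro n
  induction n using Nat.strong_induction_on with
  | _ n ih =>
    intro G _ _ hn h
    have : Fact (Nat.Prime 2) := ⟨Nat.prime_two⟩
    by_cases hodd : Odd (Nat.card G)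
    · exact hFT G hodd
    by_cases hN : ∃ N : Subgroup G, N.Normal ∧ IsPGroup 2 N ∧ N ≠ ⊥
    · obtain ⟨N, hNn, hN2, hN1⟩ := hN
      have hlt : Nat.card (G ⧸ N) < n := by
        rw [← hn, Subgroup.card_eq_card_quotient_mul_card_subgroup N]
        exact lt_mul_of_one_lt_right Nat.card_pos ((Subgroup.one_lt_card_iff_ne_bot N).2 hN1)
      have hQ : Group.IsSolvable (G ⧸ N) := ih _ hlt _ rfl fun y hy hyo => by
        by_contra hy1
        obtain ⟨r, hr, hrd⟩ := Nat.exists_prime_and_dvd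
          (show orderOf y ≠ 1 from fun e => hy1 (orderOf_eq_one_iff.1 e))
        have hr2 : r ≠ 2 := fun e => by
          rw [e] at hrd
          exact (Nat.not_even_iff_odd.2 hyo) (even_iff_two_dvd.2 hrd)
        have ho := orderOf_pow_orderOf_div (orderOf_pos y).ne' hrd
        obtain ⟨g, hg, hgr, hgo⟩ := lift_primePow (QuotientGroup.mk' N)
          (QuotientGroup.mk'_surjective N) hr hr2 (j := 1) (by rw [pow_one]; exact ho)
          (hy.pow (orderOf y / r))
        rw [h g hgr hgo, map_one] at hg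
        rw [← hg, orderOf_one] at ho
        exact hr.one_lt.ne ho
      have := hQ
      have := hN2.isNilpotent
      have : Group.IsSolvable N := inferInstance
      exact Group.isSolvable_of_ker_le_range N.subtype (QuotientGroup.mk' N)
        (by rw [QuotientGroup.ker_mk', Subgroup.range_subtype])
    · exfalso
      push Not at hN
      obtain ⟨a, ha⟩ := exists_prime_orderOf_dvd_card' 2
        (even_iff_two_dvd.1 (Nat.not_odd_iff_even.1 hodd))
      have ha' : a * a = 1 := by rw [← pow_two, ← ha, pow_orderOf_eq_one]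
      obtain ⟨y, r, hr, hr2, ho, hi⟩ := exists_inverted_prime ha' fun N hNn hNp haN => by
        rw [hN N hNn hNp, Subgroup.mem_bot] at haN
        rw [haN, orderOf_one] at ha
        exact absurd ha (by decide)
      have hy := h y ⟨a, hi⟩ (by rw [ho]; exact hr.odd_of_ne_two hr2)
      rw [hy, orderOf_one] at ho
      exact hr.one_lt.ne ho

end CfsgLib.RealGraph81
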