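import Mathlib

/-!
Groups acting on an elementary abelian 2-group: fixed points of involutions, and the centraliser of
an irreducible element.
-/

set_option autoImplicit false

namespace CfsgLib.RealGraph81

universe u v

variable {X : Type u} [Group X] {V : Type v} [AddCommGroup V] [DistribMulAction X V]

/-- The fixed vectors of a set of group elements. -/
def fixedVecs (V : Type v) [AddCommGroup V] [DistribMulAction X V] (S : Set X) : AddSubgroup V where
  carrier := {v | ∀ s ∈ S, s • v = v}
  zero_mem' := fun s _ => smul_zero s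
  add_mem' := fun ha hb s hs => by rw [smul_add, ha s hs, hb s hs]
  neg_mem' := fun ha s hs => by rw [smul_neg, ha s hs]

theorem mem_fixedVecs {S : Set X} {v : V} : v ∈ fixedVecs V S ↔ ∀ s ∈ S, s • v = v := Iff.rfl

theorem mem_fixedVecs_singleton {g : X} {v : V} : v ∈ fixedVecs V {g} ↔ g • v = v := by
  rw [mem_fixedVecs]; simp

theorem smul_mem_fixedVecs {S : Set X} {g : X} (hg : ∀ s ∈ S, g⁻¹ * s * g ∈ S) {v : V}
    (hv : v ∈ fixedVecs V S) : g • v ∈ fixedVecs V S := fun s hs => by
  rw [← mul_smul, show s * g = g * (g⁻¹ * s * g) by group, mul_smul, hv _ (hg s hs)]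

/-- The action of an element as an endomorphism. -/
def endOf (V : Type v) [AddCommGroup V] [DistribMulAction X V] (g : X) : AddMonoid.End V :=
  DistribSMul.toAddMonoidHom V g

theorem endOf_apply (g : X) (v : V) : endOf V g v = g • v := rfl

/-- `g` has no invariant subgroup besides the two trivial ones. -/
def IrredElt (V : Type v) [AddCommGroup V] [DistribMulAction X V] (g : X) : Prop :=
  ∀ W : AddSubgroup V, (∀ w ∈ W, g • w ∈ W) → W = ⊥ ∨ W = ⊤

theorem card_eq_two_pow [Finite V] (h2 : ∀ v : V, v + v = 0) : ∃ d, Nat.card V = 2 ^ d := by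
  letI : Module (ZMod 2) V := AddCommGroup.zmodModule (fun v => by rw [two_nsmul]; exact h2 v)
  exact ⟨_, by rw [Module.natCard_eq_pow_finrank (K := ZMod 2) (V := V), Nat.card_zmod]⟩

theorem card_addSubgroup [Finite V] {d : ℕ} (hd : Nat.card V = 2 ^ d) (W : AddSubgroup V) :
    ∃ e ≤ d, Nat.card W = 2 ^ e :=
  (Nat.dvd_prime_pow Nat.prime_two).1 (hd ▸ W.card_addSubgroup_dvd_card)

theorem fixed_ne_bot [Finite V] (h2 : ∀ v : V, v + v = 0) [Nontrivial V] {u : X} (hu : u * u = 1) :
    fixedVecs V {u} ≠ ⊥ := by
  obtain ⟨v, hv⟩ := exists_ne (0 : V)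
  intro h
  by_cases huv : u • v = v
  · exact hv ((AddSubgroup.mem_bot).1 (h ▸ mem_fixedVecs_singleton.2 huv))
  · have h1 : v + u • v ∈ fixedVecs V {u} := mem_fixedVecs_singleton.2 (by
      rw [smul_add, ← mul_smul, hu, one_smul, add_comm])
    rw [h, AddSubgroup.mem_bot] at h1
    exact huv (add_left_cancel (h1.trans (h2 v).symm))

/-- An involution inverting a fixed-point-free element of odd order fixes exactly a half. -/
theorem card_fixed_sq [Finite V] (h2 : ∀ v : V, v + v = 0) {u y : X} (hu : u * u = 1)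
    (hy : u * y * u⁻¹ = y⁻¹) (hodd : Odd (orderOf y)) (hfpf : ∀ v : V, y • v = v → v = 0) :
    Nat.card (fixedVecs V {u}) * Nat.card (fixedVecs V {u}) = Nat.card V := by
  set A := fixedVecs V {u} with hA
  refine le_antisymm ?_ ?_
  · rw [← Nat.card_prod]
    refine Nat.card_le_card_of_injective (fun p : A × A => (p.1 : V) + y • (p.2 : V)) ?_
    rintro ⟨a, b⟩ ⟨a', b'⟩ h
    simp only at h
    have h' : (a : V) - a' = y • ((b' : V) - b) := by
      rw [smul_sub, sub_eq_sub_iff_add_eq_add, h, add_comm]
    set c : V := (b' : V) - b with hc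
    have hcA : c ∈ A := A.sub_mem b'.2 b.2
    have hdA : y • c ∈ A := h' ▸ A.sub_mem a.2 a'.2
    rw [hA, mem_fixedVecs_singleton] at hcA hdA
    have huy : u * y = y⁻¹ * u := by rw [← hy]; group
    have h3 : y • y • c = c := by
      have := hdA
      rw [← mul_smul, huy, mul_smul, hcA, inv_smul_eq_iff] at this
      exact this.symm
    have hc0 : c = 0 := hfpf c (by
      obtain ⟨j, hj⟩ := hodd
      have h4 : ∀ i : ℕ, y ^ (2 * i) • c = c := by
        intro i
        induction i with
        | zero => simp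
        | succ i ih => rw [mul_add, mul_one, pow_add, mul_smul, pow_two, mul_smul, h3, ih]
      calc y • c = y • y ^ (2 * j) • c := by rw [h4]
        _ = c := by rw [← mul_smul, ← pow_succ', ← hj, pow_orderOf_eq_one, one_smul])
    refine Prod.ext (Subtype.ext ?_) (Subtype.ext (sub_eq_zero.1 hc0).symm)
    rw [hc0, smul_zero, sub_eq_zero] at h'
    exact h'
  · let F : V →+ V :=
      { toFun := fun v => v + u • v
        map_zero' := by simp
        map_add' := fun a b => by rw [smul_add]; abel }
    have hker : F.ker = A := by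
      ext v
      rw [AddMonoidHom.mem_ker, hA, mem_fixedVecs_singleton]
      exact ⟨fun h => add_left_cancel (h.trans (h2 v).symm), fun h => by
        show v + u • v = 0
        rw [h, h2]⟩
    have hrange : F.range ≤ A := by
      rintro _ ⟨v, rfl⟩
      rw [hA, mem_fixedVecs_singleton]
      show u • (v + u • v) = v + u • v
      rw [smul_add, ← mul_smul, hu, one_smul, add_comm]
    calc Nat.card V = Nat.card (V ⧸ F.ker) * Nat.card F.ker :=
          AddSubgroup.card_eq_card_quotient_mul_card_addSubgroup _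
      _ = Nat.card F.range * Nat.card A := by
          rw [Nat.card_congr (QuotientAddGroup.quotientKerEquivRange F).toEquiv, hker]
      _ ≤ Nat.card A * Nat.card A :=
          Nat.mul_le_mul_right _ (Nat.card_le_card_of_injective _ (AddSubgroup.inclusion_injective hrange))

/-- An element acting without fixed points, whose powers do so too, and whose order divides no
`2 ^ e - 1` with `0 < e < d` is irreducible. -/
theorem irredElt_of_free [Finite X] [Finite V] {d : ℕ} (hd : Nat.card V = 2 ^ d) {g : X}
    (hfree : ∀ z ∈ Subgroup.zpowers g, z ≠ 1 → ∀ v : V, z • v = v → v = 0)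
    (hN : ∀ e, 0 < e → e < d → ¬ orderOf g ∣ 2 ^ e - 1) : IrredElt V g := by
  intro W hW
  obtain ⟨e, hed, he⟩ := card_addSubgroup hd W
  rcases Nat.eq_zero_or_pos e with rfl | hepos
  · exact Or.inl (AddSubgroup.card_eq_one.1 (by simpa using he))
  rcases hed.lt_or_eq with hlt | rfl
  swap
  · exact Or.inr (AddSubgroup.eq_top_of_card_eq W (he.trans hd.symm))
  exfalso
  have hWz : ∀ z : X, z ∈ Subgroup.zpowers g → ∀ w ∈ W, z • w ∈ W := by
    intro z hz w hw
    obtain ⟨n, rfl⟩ : ∃ n : ℕ, g ^ n = z :=
      mem_powers_iff_mem_zpowers.2 hz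
    induction n with
    | zero => simpa using hw
    | succ n ih =>
      rw [pow_succ', mul_smul]
      exact hW _ (ih (Subgroup.pow_mem _ (Subgroup.mem_zpowers g) _))
  let Ω := {w : W // w ≠ 0}
  letI : MulAction (Subgroup.zpowers g) Ω :=
    { smul := fun z w => ⟨⟨(z : X) • ((w : W) : V), hWz _ z.2 _ (w : W).2⟩, fun h => w.2 (by
        have h' := congrArg (fun t : W => (z : X)⁻¹ • (t : V)) h
        simp only [inv_smul_smul, AddSubgroup.coe_zero, smul_zero] at h'
        exact Subtype.ext h')⟩
      one_smul := fun w => Subtype.ext (Subtype.ext (one_smul X _))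
      mul_smul := fun a b w => Subtype.ext (Subtype.ext (mul_smul (a : X) (b : X) _)) }
  have hstab : ∀ b : Ω, MulAction.stabilizer (Subgroup.zpowers g) b = ⊥ := fun b => by
    rw [eq_bot_iff]
    intro z hz
    rw [Subgroup.mem_bot]
    by_contra hz1
    exact b.2 (Subtype.ext (hfree z z.2 (fun h => hz1 (Subtype.ext h)) _
      (congrArg (fun t : Ω => ((t : W) : V)) hz)))
  have hcard := Nat.card_congr (MulAction.selfEquivOrbitsQuotientProd hstab)
  rw [Nat.card_prod, Nat.card_zpowers] at hcard
  refine hN e hepos hlt (Dvd.intro_left _ (hcard.symm.trans ?_))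
  classical
  have : Fintype W := Fintype.ofFinite W
  rw [Nat.card_eq_fintype_card, Fintype.card_subtype_compl, Fintype.card_subtype_eq,
    ← Nat.card_eq_fintype_card, he]

section Irred

variable {g : X} (hg : IrredElt V g)
include hg

theorem closure_orbit_eq_top {v : V} (hv : v ≠ 0) (W : AddSubgroup V) (hvW : v ∈ W)
    (hW : ∀ w ∈ W, g • w ∈ W) : W = ⊤ :=
  (hg W hW).resolve_left fun h => hv ((AddSubgroup.mem_bot).1 (h ▸ hvW))

theorem eq_zero_of_commute {T : V →+ V} (hT : ∀ v, T (g • v) = g • T v) {v : V} (hv : v ≠ 0)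
    (h : T v = 0) : T = 0 := by
  have := closure_orbit_eq_top hg hv T.ker h fun w hw => by
    rw [AddMonoidHom.mem_ker] at hw ⊢
    rw [hT, hw, smul_zero]
  exact AddMonoidHom.ext fun w => (this ▸ AddSubgroup.mem_top w : w ∈ T.ker)

/-- The endomorphisms commuting with `g`. -/
theorem exists_commuting_apply {v : V} (hv : v ≠ 0) (v' : V) :
    ∃ T : AddMonoid.End V, T ∈ Subring.closure {endOf V g} ∧ T v = v' := by
  let W : AddSubgroup V :=
    { carrier := {w | ∃ T ∈ Subring.closure ({endOf V g} : Set (AddMonoid.End V)), T v = w}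
      zero_mem' := ⟨0, Subring.zero_mem _, rfl⟩
      add_mem' := by
        rintro _ _ ⟨T, hT, rfl⟩ ⟨S, hS, rfl⟩
        exact ⟨T + S, Subring.add_mem _ hT hS, rfl⟩
      neg_mem' := by
        rintro _ ⟨T, hT, rfl⟩
        exact ⟨-T, Subring.neg_mem _ hT, rfl⟩ }
  have hW : W = ⊤ := closure_orbit_eq_top hg hv W ⟨1, Subring.one_mem _, rfl⟩ (by
    rintro _ ⟨T, hT, rfl⟩
    exact ⟨_, Subring.mul_mem _ (Subring.subset_closure (Set.mem_singleton _)) hT, rfl⟩)
  exact (hW ▸ AddSubgroup.mem_top v' : v' ∈ W)

theorem commuting_mem_closure {T : AddMonoid.End V} (hT : ∀ v, T (g • v) = g • T v) {v : V}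
    (hv : v ≠ 0) : T ∈ Subring.closure ({endOf V g} : Set (AddMonoid.End V)) := by
  obtain ⟨S, hS, hSv⟩ := exists_commuting_apply hg hv (T v)
  have hS' : S * endOf V g = endOf V g * S := by
    have hle : Subring.closure ({endOf V g} : Set (AddMonoid.End V)) ≤
        Subring.centralizer {endOf V g} := Subring.closure_le.2 (by
      rintro _ rfl
      exact Subring.mem_centralizer_iff.2 (by rintro _ rfl; rfl))
    exact ((Subring.mem_centralizer_iff.1 (hle hS)) _ rfl).symm
  have hd : (T : V →+ V) - (S : V →+ V) = 0 := eq_zero_of_commute hg (fun w => by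
    show T (g • w) - S (g • w) = g • (T w - S w)
    rw [smul_sub, hT]
    congr 1
    exact DFunLike.congr_fun hS' w) hv (by
    show T v - S v = 0
    rw [hSv, sub_self])
  rw [sub_eq_zero] at hd
  exact hd ▸ hS

theorem commuting_comm [Nontrivial V] {T S : AddMonoid.End V} (hT : ∀ v, T (g • v) = g • T v)
    (hS : ∀ v, S (g • v) = g • S v) : T * S = S * T := by
  obtain ⟨v, hv⟩ := exists_ne (0 : V)
  set R0 := Subring.closure ({endOf V g} : Set (AddMonoid.End V))
  have hle : R0 ≤ Subring.centralizer (R0 : Set (AddMonoid.End V)) := by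
    refine Subring.closure_le.2 ?_
    rintro _ rfl
    refine Subring.mem_centralizer_iff.2 fun z hz => ?_
    have hle' : R0 ≤ Subring.centralizer {endOf V g} := Subring.closure_le.2 (by
      rintro _ rfl
      exact Subring.mem_centralizer_iff.2 (by rintro _ rfl; rfl))
    exact ((Subring.mem_centralizer_iff.1 (hle' hz)) _ rfl).symm
  exact (Subring.mem_centralizer_iff.1 (hle (commuting_mem_closure hg hS hv))) T
    (commuting_mem_closure hg hT hv)

theorem centralizer_comm [FaithfulSMul X V] [Nontrivial V] {a b : X} (ha : a * g = g * a)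
    (hb : b * g = g * b) : a * b = b * a :=
  eq_of_smul_eq_smul fun v : V => by
    rw [mul_smul, mul_smul]
    exact DFunLike.congr_fun (commuting_comm hg (T := endOf V a)
      (S := endOf V b)
      (fun w => by show a • g • w = g • a • w; rw [← mul_smul, ha, mul_smul])
      (fun w => by show b • g • w = g • b • w; rw [← mul_smul, hb, mul_smul])) v

theorem centralizer_free [FaithfulSMul X V] {c : X} (hc : c * g = g * c) {v : V} (hv : v ≠ 0)
    (hcv : c • v = v) : c = 1 :=
  eq_of_smul_eq_smul fun w : V => by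
    have h : (DistribSMul.toAddMonoidHom V c - AddMonoidHom.id V) = 0 :=
      eq_zero_of_commute hg (fun x => by
        show c • g • x - g • x = g • (c • x - x)
        rw [smul_sub, ← mul_smul, hc, mul_smul]) hv (by show c • v - v = 0; rw [hcv, sub_self])
    rw [one_smul]
    exact sub_eq_zero.1 (DFunLike.congr_fun h w)

theorem centralizer_odd [FaithfulSMul X V] [Finite V] [Nontrivial V] [Finite X]
    (h2 : ∀ v : V, v + v = 0) : Odd (Nat.card (Subgroup.centralizer ({g} : Set X))) := by
  rw [← Nat.not_even_iff_odd, even_iff_two_dvd]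
  intro hdvd
  obtain ⟨c, hc⟩ := exists_prime_orderOf_dvd_card' 2 hdvd
  have hc2 : (c : X) * c = 1 := by
    have := congrArg Subtype.val (pow_orderOf_eq_one c)
    rwa [hc, pow_two] at this
  obtain ⟨v, hv, hv0⟩ := (AddSubgroup.ne_bot_iff_exists_ne_zero.1 (fixed_ne_bot (V := V) h2 hc2)) |>
    fun ⟨v, hv⟩ => (⟨(v : V), v.2, fun h => hv (Subtype.ext h)⟩ : ∃ v, v ∈ fixedVecs V {(c : X)} ∧ v ≠ 0)
  have h1 : (c : X) = 1 :=
    centralizer_free hg (Subgroup.mem_centralizer_singleton_iff.1 c.2) hv0
      (mem_fixedVecs_singleton.1 hv)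
  rw [show c = 1 from Subtype.ext h1, orderOf_one] at hc
  exact absurd hc (by decide)

theorem centralizer_isCyclic [FaithfulSMul X V] [Finite V] [Nontrivial V] [Finite X] :
    IsCyclic (Subgroup.centralizer ({g} : Set X)) := by
  classical
  let C := Subring.centralizer ({endOf V g} : Set (AddMonoid.End V))
  have hmem : ∀ T : C, ∀ v, (T : AddMonoid.End V) (g • v) = g • (T : AddMonoid.End V) v := fun T v =>
    (DFunLike.congr_fun (Subring.mem_centralizer_iff.1 T.2 _ rfl) v).symm
  letI : CommRing C :=
    { (inferInstance : Ring C) with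
      mul_comm := fun a b => Subtype.ext (commuting_comm hg (hmem a) (hmem b)) }
  haveI : Nontrivial C := ⟨⟨1, 0, fun h => by
    obtain ⟨v, hv⟩ := exists_ne (0 : V)
    exact hv (DFunLike.congr_fun (congrArg Subtype.val h) v)⟩⟩
  haveI : NoZeroDivisors C := ⟨fun {a b} h => by
    by_contra hne
    push Not at hne
    refine hne.1 ?_
    obtain ⟨v, hv⟩ := not_forall.1 fun hall => hne.2 (Subtype.ext (AddMonoidHom.ext hall))
    exact Subtype.ext (eq_zero_of_commute hg (hmem a) hv
      (DFunLike.congr_fun (congrArg Subtype.val h) v))⟩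
  haveI : IsDomain C := NoZeroDivisors.to_isDomain C
  refine isCyclic_of_injective_ringHom (R := C)
    ({ toFun := fun c => ⟨endOf V (c : X), Subring.mem_centralizer_iff.2 (by
        rintro _ rfl
        refine AddMonoidHom.ext fun v => ?_
        show g • (c : X) • v = (c : X) • g • v
        rw [← mul_smul, ← mul_smul, Subgroup.mem_centralizer_singleton_iff.1 c.2])⟩
       map_one' := Subtype.ext (AddMonoidHom.ext fun v => one_smul X v)
       map_mul' := fun a b => Subtype.ext (AddMonoidHom.ext fun v => mul_smul (a : X) (b : X) v) } :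
      Subgroup.centralizer ({g} : Set X) →* C) ?_
  intro a b h
  exact Subtype.ext (eq_of_smul_eq_smul fun v : V => DFunLike.congr_fun (congrArg Subtype.val h) v)

/-- A bijection commuting with the centraliser of `g` and moving `v` to `v'`. -/
theorem exists_intertwiner [Finite V] [Nontrivial V] {v v' : V} (hv : v ≠ 0) (hv' : v' ≠ 0) :
    ∃ T : V →+ V, Function.Bijective T ∧ T v = v' ∧
      ∀ c : X, c * g = g * c → ∀ w, T (c • w) = c • T w := by
  obtain ⟨T, hT, hTv⟩ := exists_commuting_apply hg hv v'
  have hTg : ∀ w, T (g • w) = g • T w := by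
    have hle : Subring.closure ({endOf V g} : Set (AddMonoid.End V)) ≤
        Subring.centralizer {endOf V g} := Subring.closure_le.2 (by
      rintro _ rfl
      exact Subring.mem_centralizer_iff.2 (by rintro _ rfl; rfl))
    exact fun w => (DFunLike.congr_fun (Subring.mem_centralizer_iff.1 (hle hT) _ rfl) w).symm
  refine ⟨T, Finite.injective_iff_bijective.1 ?_, hTv, fun c hc w => ?_⟩
  · refine (injective_iff_map_eq_zero _).2 fun w hw => ?_
    by_contra hw0
    have h0 := eq_zero_of_commute hg (T := T) hTg hw0 hw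
    rw [h0] at hTv
    exact hv' hTv.symm
  · exact DFunLike.congr_fun (commuting_comm hg (T := T) (S := endOf V c) hTg
      (fun z => by show c • g • z = g • c • z; rw [← mul_smul, hc, mul_smul])) w

end Irred

end CfsgLib.RealGraph81
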