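import Mathlib
import Cfsg.Agent.Lib.RealGraph81.Lift
import Cfsg.Agent.Lib.RealGraph81.Singer

/-!
The hypotheses on a linear group over the field with two elements used for the real class graph, and
their first consequences.
-/

set_option autoImplicit false

namespace CfsgLib.RealGraph81

open MulAction

universe u v

theorem relIndex_dvd_index {X : Type u} [Group X] [Finite X] (C N : Subgroup X) [N.Normal] :
    C.relIndex N ∣ C.index := by
  obtain ⟨k, hk⟩ := Subgroup.relIndex_dvd_index_of_normal (H := N) (K := C)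
  refine ⟨k, Nat.eq_of_mul_eq_mul_left
    (Nat.pos_of_ne_zero (Subgroup.FiniteIndex.index_ne_zero (H := N.subgroupOf C))) ?_⟩
  change N.relIndex C * C.index = N.relIndex C * (C.relIndex N * k)
  have h1 : (C ⊓ N).relIndex C * C.index = (C ⊓ N).relIndex N * N.index := by
    rw [Subgroup.relIndex_mul_index inf_le_left, Subgroup.relIndex_mul_index inf_le_right]
  rw [Subgroup.inf_relIndex_left, Subgroup.inf_relIndex_right, hk] at h1
  rw [h1]; ring

theorem card_orbit {X : Type u} [Group X] [Finite X] {Ω : Type v} [MulAction X Ω] (a : Ω) :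
    Nat.card (orbit X a) = (stabilizer X a).index := by
  rw [index_stabilizer, Nat.card_coe_set_eq]

theorem card_orbit_subgroup {X : Type u} [Group X] [Finite X] {Ω : Type v} [MulAction X Ω]
    (B : Subgroup X) (a : Ω) : Nat.card (orbit B a) = (stabilizer X a).relIndex B := by
  rw [card_orbit, Subgroup.relIndex]
  congr 1

/-- A subgroup of index coprime to an orbit is transitive on it. -/
theorem exists_mem_smul_eq {X : Type u} [Group X] [Finite X] {Ω : Type v} [MulAction X Ω]
    {B : Subgroup X} {a : Ω} (h : B.index.Coprime (Nat.card (orbit X a))) {b : Ω}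
    (hb : b ∈ orbit X a) : ∃ c ∈ B, c • a = b := by
  have hsub : orbit B a ⊆ orbit X a := by
    rintro _ ⟨c, rfl⟩
    exact ⟨(c : X), rfl⟩
  have hdvd : Nat.card (orbit X a) ∣ Nat.card (orbit B a) := by
    refine h.symm.dvd_of_dvd_mul_right ?_
    rw [card_orbit, card_orbit_subgroup]
    have h1 : (stabilizer X a ⊓ B).relIndex B * B.index = (stabilizer X a ⊓ B).index :=
      Subgroup.relIndex_mul_index inf_le_right
    rw [Subgroup.inf_relIndex_right] at h1
    rw [h1]
    exact Subgroup.index_dvd_of_le inf_le_left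
  have hfin : (orbit X a).Finite := Set.finite_range _
  have hne : 0 < Nat.card (orbit B a) := by
    rw [card_orbit]
    exact Nat.pos_of_ne_zero Subgroup.FiniteIndex.index_ne_zero
  have heq : orbit B a = orbit X a := by
    refine Set.eq_of_subset_of_ncard_le hsub ?_ hfin
    rw [← Nat.card_coe_set_eq, ← Nat.card_coe_set_eq]
    exact Nat.le_of_dvd hne hdvd
  rw [← heq] at hb
  obtain ⟨c, hc⟩ := hb
  exact ⟨(c : X), c.2, hc⟩

/-- Factorisation by subgroups of coprime index. -/
theorem exists_mul_of_coprime {X : Type u} [Group X] [Finite X] {A B : Subgroup X}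
    (h : A.index.Coprime B.index) (g : X) : ∃ a ∈ A, ∃ b ∈ B, g = a * b := by
  have h1 : A.index.Coprime (Nat.card (orbit X ((1 : X) : X ⧸ B))) := by
    rw [card_orbit]
    have e : stabilizer X ((1 : X) : X ⧸ B) = B := MulAction.stabilizer_quotient B
    rwa [e]
  obtain ⟨a, ha, hag⟩ := exists_mem_smul_eq h1 (b := (g : X ⧸ B)) ⟨g, by
    show ((g * 1 : X) : X ⧸ B) = g
    rw [mul_one]⟩
  have h2 : ((a * 1 : X) : X ⧸ B) = g := hag
  rw [mul_one] at h2
  exact ⟨a, ha, a⁻¹ * g, QuotientGroup.eq.1 h2, by group⟩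

theorem stabilizer_of_prime {X : Type u} [Group X] {Ω : Type v} [MulAction X Ω] {g z : X} {r : ℕ}
    [Fact r.Prime] (hg : orderOf g = r) (hz : z ∈ Subgroup.zpowers g) (hz1 : z ≠ 1) {v : Ω}
    (hv : z • v = v) : g • v = v := by
  have h : g ∈ Subgroup.zpowers z := by
    obtain ⟨i, rfl⟩ := Subgroup.mem_zpowers_iff.1 hz
    have hcard : Nat.card (Subgroup.zpowers g) = r := by rw [Nat.card_zpowers, hg]
    have : Finite (Subgroup.zpowers g) := Nat.finite_of_card_ne_zero (by
      rw [hcard]; exact (Fact.out : r.Prime).ne_zero)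
    have := Subgroup.eq_top_of_le_card (H := (Subgroup.zpowers (g ^ i)).subgroupOf (Subgroup.zpowers g)) ?_
    · exact (Subgroup.subgroupOf_eq_top.1 this) (Subgroup.mem_zpowers g)
    · rw [Nat.card_congr (Subgroup.subgroupOfEquivOfLe (Subgroup.zpowers_le.2 hz)).toEquiv, hcard,
        Nat.card_zpowers]
      have hdvd : orderOf (g ^ i) ∣ r := hg ▸ (Nat.card_zpowers g ▸ Subgroup.orderOf_dvd_natCard _ hz)
      rcases (Nat.dvd_prime Fact.out).1 hdvd with e | e
      · exact absurd (orderOf_eq_one_iff.1 e) hz1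
      · rw [e]
  exact (Subgroup.zpowers_le (H := stabilizer X v)).2 hv h

/-- The hypotheses on the linear group. -/
structure LinHyp (X : Type u) [Group X] (V : Type v) [AddCommGroup V] [DistribMulAction X V] :
    Prop where
  char2 : ∀ x : V, x + x = 0
  real : ∀ y : X, IsReal y → ∀ r j : ℕ, r.Prime → r ≠ 2 → orderOf y = r ^ j → y ≠ 1 →
    (∀ x : V, y • x = x → x = 0) ∧
      ∀ x : V, x ≠ 0 → (Subgroup.centralizer ({y} : Set X)).index.Coprime (Nat.card (orbit X x))
  odd : ∀ x : V, x ≠ 0 → Odd (Nat.card (orbit X x))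

variable {X : Type u} [Group X] [Finite X] {V : Type v} [AddCommGroup V] [DistribMulAction X V]

theorem LinHyp.subgroup (h : LinHyp X V) (N : Subgroup X) [N.Normal] : LinHyp N V := by
  have horb : ∀ x : V, Nat.card (orbit N x) ∣ Nat.card (orbit X x) := fun x => by
    rw [card_orbit_subgroup, card_orbit]
    exact relIndex_dvd_index _ _
  refine ⟨h.char2, fun y hy r j hr hr2 ho hy1 => ?_, fun x hx => (h.odd x hx).of_dvd_nat (horb x)⟩
  obtain ⟨h1, h2⟩ := h.real (y : X) (hy.map N.subtype) r j hr hr2 (by rw [Subgroup.orderOf_coe, ho])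
    fun e => hy1 (Subtype.ext e)
  refine ⟨h1, fun x hx => ?_⟩
  refine Nat.Coprime.coprime_dvd_left ?_ ((h2 x hx).coprime_dvd_right (horb x))
  have e : Subgroup.centralizer ({y} : Set N) = (Subgroup.centralizer ({(y : X)} : Set X)).subgroupOf N := by
    ext z
    rw [Subgroup.mem_subgroupOf, Subgroup.mem_centralizer_singleton_iff,
      Subgroup.mem_centralizer_singleton_iff]
    exact ⟨fun hz => congrArg Subtype.val hz, fun hz => Subtype.ext hz⟩
  rw [e]
  exact relIndex_dvd_index _ _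

theorem LinHyp.free (h : LinHyp X V) {y : X} (hy : IsReal y) {r : ℕ} (hr : r.Prime) (hr2 : r ≠ 2)
    (ho : orderOf y = r) : ∀ z ∈ Subgroup.zpowers y, z ≠ 1 → ∀ x : V, z • x = x → x = 0 := by
  intro z hz hz1 x hx
  have := Fact.mk hr
  have hy1 : y ≠ 1 := fun e => hr.one_lt.ne (by rw [← ho, e, orderOf_one])
  exact (h.real y hy r 1 hr hr2 (by rw [pow_one, ho]) hy1).1 x (stabilizer_of_prime ho hz hz1 hx)

theorem LinHyp.trans (h : LinHyp X V) {y : X} (hy : IsReal y) {r j : ℕ} (hr : r.Prime) (hr2 : r ≠ 2)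
    (ho : orderOf y = r ^ j) (hy1 : y ≠ 1) {x x' : V} (hx : x ≠ 0) (hx' : x' ∈ orbit X x) :
    ∃ c, c * y = y * c ∧ c • x = x' := by
  obtain ⟨c, hc, e⟩ := exists_mem_smul_eq ((h.real y hy r j hr hr2 ho hy1).2 x hx) hx'
  exact ⟨c, Subgroup.mem_centralizer_singleton_iff.1 hc, e⟩

theorem LinHyp.orbit_dvd (h : LinHyp X V) {y : X} (hy : IsReal y) {r j : ℕ} (hr : r.Prime)
    (hr2 : r ≠ 2) (ho : orderOf y = r ^ j) (hy1 : y ≠ 1) {x : V} (hx : x ≠ 0) :
    Nat.card (orbit X x) ∣ Nat.card (Subgroup.centralizer ({y} : Set X)) := by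
  have heq : orbit (Subgroup.centralizer ({y} : Set X)) x = orbit X x := by
    refine Set.Subset.antisymm ?_ fun x' hx' => ?_
    · rintro _ ⟨c, rfl⟩
      exact ⟨(c : X), rfl⟩
    · obtain ⟨c, hc, e⟩ := h.trans hy hr hr2 ho hy1 hx hx'
      exact ⟨⟨c, Subgroup.mem_centralizer_singleton_iff.2 hc⟩, e⟩
  rw [← heq, card_orbit_subgroup]
  exact Subgroup.relIndex_dvd_card _ _

variable [FaithfulSMul X V]

theorem LinHyp.two_core (h : LinHyp X V) (P : Subgroup X) [P.Normal] (hP : IsPGroup 2 P) :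
    P = ⊥ := by
  have : Fact (Nat.Prime 2) := ⟨Nat.prime_two⟩
  refine eq_bot_iff.2 fun p hp => Subgroup.mem_bot.2 (eq_of_smul_eq_smul fun x : V => ?_)
  rw [one_smul]
  rcases eq_or_ne x 0 with rfl | hx
  · exact smul_zero p
  have : Finite (orbit P x) := (Set.finite_range _).to_subtype
  obtain ⟨n, hn⟩ := hP.card_orbit x
  have hodd : Odd (Nat.card (orbit P x)) := (h.odd x hx).of_dvd_nat (by
    rw [card_orbit_subgroup, card_orbit]; exact relIndex_dvd_index _ _)
  rw [hn] at hodd
  rcases Nat.eq_zero_or_pos n with rfl | hn0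
  · rw [pow_zero, Nat.card_eq_one_iff_unique] at hn
    obtain ⟨hs, -⟩ := hn
    exact congrArg Subtype.val
      (@Subsingleton.elim _ hs ⟨p • x, ⟨⟨p, hp⟩, rfl⟩⟩ ⟨x, mem_orbit_self x⟩)
  · exact absurd hodd (Nat.not_odd_iff_even.2 ((Nat.even_pow).2 ⟨even_two, hn0.ne'⟩))

theorem LinHyp.inverted (h : LinHyp X V) {w : X} (hw : w * w = 1) (hw1 : w ≠ 1) :
    ∃ (y : X) (r : ℕ), r.Prime ∧ r ≠ 2 ∧ orderOf y = r ∧ w * y * w⁻¹ = y⁻¹ :=
  exists_inverted_prime hw fun N hN hNp hwN => hw1 (by
    have := hN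
    rw [h.two_core N hNp, Subgroup.mem_bot] at hwN
    exact hwN)

theorem LinHyp.half [Finite V] (h : LinHyp X V) {w : X} (hw : w * w = 1) (hw1 : w ≠ 1) :
    Nat.card (fixedVecs V {w}) * Nat.card (fixedVecs V {w}) = Nat.card V := by
  obtain ⟨y, r, hr, hr2, ho, hi⟩ := h.inverted hw hw1
  refine card_fixed_sq h.char2 hw hi (by rw [ho]; exact hr.odd_of_ne_two hr2) fun x hx => ?_
  exact h.free ⟨w, hi⟩ hr hr2 ho y (Subgroup.mem_zpowers y)
    (fun e => hr.one_lt.ne (by rw [← ho, e, orderOf_one])) x hx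

end CfsgLib.RealGraph81
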