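import Mathlib
import Cfsg.Agent.Lib.RealGraph81.Base

/-!
The 2-subgroups generated by the involutions of the vector stabilisers and the partition of the
vectors that they define.
-/

set_option autoImplicit false

namespace CfsgLib.RealGraph81

open MulAction

universe u v

variable {X : Type u} [Group X] [Finite X] {V : Type v} [AddCommGroup V] [DistribMulAction X V]

/-- The subgroup generated by the involutions fixing a vector. -/
def invGroup (X : Type u) [Group X] {V : Type v} [AddCommGroup V] [DistribMulAction X V] (x : V) :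
    Subgroup X := Subgroup.closure {w : X | w * w = 1 ∧ w • x = x}

omit [Finite X] in
theorem invGroup_le (x : V) : invGroup X x ≤ stabilizer X x :=
  (Subgroup.closure_le _).2 fun _ hw => hw.2

omit [Finite X] in
theorem invGroup_smul (g : X) (x : V) :
    invGroup X (g • x) = (invGroup X x).map (MulAut.conj g).toMonoidHom := by
  rw [invGroup, invGroup, MonoidHom.map_closure]
  congr 1
  ext w
  constructor
  · rintro ⟨hw, hwx⟩
    refine ⟨g⁻¹ * w * g, ⟨?_, ?_⟩, by simp [mul_assoc]⟩
    · rw [show g⁻¹ * w * g * (g⁻¹ * w * g) = g⁻¹ * (w * w) * g by group, hw, mul_one, inv_mul_cancel]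
    · rw [mul_smul, mul_smul, hwx, inv_smul_smul]
  · rintro ⟨w', ⟨hw, hwx⟩, rfl⟩
    refine ⟨?_, ?_⟩
    · show g * w' * g⁻¹ * (g * w' * g⁻¹) = 1
      rw [show g * w' * g⁻¹ * (g * w' * g⁻¹) = g * (w' * w') * g⁻¹ by group, hw, mul_one,
        mul_inv_cancel]
    · show (g * w' * g⁻¹) • g • x = g • x
      rw [mul_smul, inv_smul_smul, mul_smul, hwx]

omit [Finite X] in
theorem invGroup_conj {x : V} {g : X} (hg : g • x = x) {w : X} (hw : w ∈ invGroup X x) :
    g * w * g⁻¹ ∈ invGroup X x := by
  have h := invGroup_smul g x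
  rw [hg] at h
  rw [h]
  exact ⟨w, hw, rfl⟩

theorem invGroup_isPGroup (h : LinHyp X V) {x : V} (hx : x ≠ 0) : IsPGroup 2 (invGroup X x) := by
  have : Fact (Nat.Prime 2) := ⟨Nat.prime_two⟩
  let D : Set (stabilizer X x) := {w | w * w = 1}
  have hD : IsPGroup 2 (Subgroup.closure D) := by
    refine CfsgLib.Involutions.isPGroup_closure_of_pairwise (fun g w hw => ?_) fun a ha b hb => ?_
    · show g * w * g⁻¹ * (g * w * g⁻¹) = 1
      rw [show g * w * g⁻¹ * (g * w * g⁻¹) = g * (w * w) * g⁻¹ by group,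
        show w * w = 1 from hw, mul_one, mul_inv_cancel]
    · by_cases hp : ∃ n : ℕ, orderOf (a * b) = 2 ^ n
      · obtain ⟨n, hn⟩ := hp
        exact isPGroup_pair ha hb hn
      · exfalso
        push Not at hp
        obtain ⟨m, r, hr, hr2, ho, hi⟩ := exists_prime_inverted_of_pair ha hb hp
        set y := (a * b) ^ m with hy
        have hy1 : (y : X) ≠ 1 := fun e => hr.one_lt.ne (by
          rw [← ho, ← Subgroup.orderOf_coe, e, orderOf_one])
        have hreal : IsReal y := ⟨a, hi⟩
        exact hx ((h.real (y : X) (hreal.map (stabilizer X x).subtype) r 1 hr hr2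
          (by rw [Subgroup.orderOf_coe, pow_one, ho]) hy1).1 x y.2)
  refine (hD.map (stabilizer X x).subtype).to_le ((Subgroup.closure_le _).2 fun w hw => ?_)
  exact ⟨⟨w, hw.2⟩, Subgroup.subset_closure (Subtype.ext hw.1), rfl⟩

/-- A Sylow subgroup of the group inside a vector stabiliser. -/
theorem exists_sylow_stabilizer (h : LinHyp X V) {x : V} (hx : x ≠ 0) :
    ∃ S : Sylow 2 X, (S : Subgroup X) ≤ stabilizer X x ∧
      invGroup X x = Subgroup.closure {w : X | w ∈ (S : Subgroup X) ∧ w * w = 1} := by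
  have : Fact (Nat.Prime 2) := ⟨Nat.prime_two⟩
  let P : Sylow 2 (stabilizer X x) := default
  have hle : (P : Subgroup (stabilizer X x)).map (stabilizer X x).subtype ≤ stabilizer X x :=
    Subgroup.map_subtype_le _
  have hindex : ¬ 2 ∣ ((P : Subgroup (stabilizer X x)).map (stabilizer X x).subtype).index := by
    rw [Subgroup.index_map_subtype]
    refine Nat.prime_two.not_dvd_mul P.not_dvd_index ?_
    rw [← card_orbit, ← even_iff_two_dvd, Nat.not_even_iff_odd]
    exact h.odd x hx
  refine ⟨(P.2.map _).toSylow hindex, hle, ?_⟩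
  set U : Subgroup (stabilizer X x) := (invGroup X x).subgroupOf (stabilizer X x)
  have hUn : U.Normal := ⟨fun w hw g => invGroup_conj g.2 hw⟩
  have hUp : IsPGroup 2 U :=
    (invGroup_isPGroup h hx).comap_of_injective _ (stabilizer X x).subtype_injective
  have hUP : U ≤ (P : Subgroup (stabilizer X x)) := by
    have := hUp.to_sup_of_normal_left P.2
    exact le_sup_left.trans (le_of_eq (P.3 this le_sup_right))
  refine le_antisymm ((Subgroup.closure_le _).2 fun w hw => Subgroup.subset_closure ⟨?_, hw.1⟩)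
    ((Subgroup.closure_le _).2 fun w hw => Subgroup.subset_closure ⟨hw.2, hle hw.1⟩)
  exact ⟨⟨w, hw.2⟩, hUP (Subgroup.subset_closure hw), rfl⟩

theorem invGroup_isConj (h : LinHyp X V) {x x' : V} (hx : x ≠ 0) (hx' : x' ≠ 0) :
    ∃ g : X, invGroup X x' = invGroup X (g • x) := by
  have : Fact (Nat.Prime 2) := ⟨Nat.prime_two⟩
  obtain ⟨S, -, hS⟩ := exists_sylow_stabilizer h hx
  obtain ⟨S', -, hS'⟩ := exists_sylow_stabilizer h hx'
  obtain ⟨g, hg⟩ := MulAction.exists_smul_eq X S S'
  refine ⟨g, ?_⟩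
  rw [invGroup_smul, hS, hS', MonoidHom.map_closure]
  congr 1
  have e : (S' : Subgroup X) = (S : Subgroup X).map (MulAut.conj g).toMonoidHom := by
    rw [← hg]; rfl
  ext w
  constructor
  · rintro ⟨hw, hw2⟩
    rw [e] at hw
    obtain ⟨z, hz, rfl⟩ := hw
    exact ⟨z, ⟨hz, (MulAut.conj g).injective (by rw [map_mul, map_one]; exact hw2)⟩, rfl⟩
  · rintro ⟨z, ⟨hz, hz2⟩, rfl⟩
    refine ⟨?_, ?_⟩
    · rw [e]; exact ⟨z, hz, rfl⟩
    · rw [← map_mul, hz2, map_one]

theorem invGroup_ne_bot (h : LinHyp X V) {x : V} (hx : x ≠ 0) {w : X} (hw : w * w = 1)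
    (hw1 : w ≠ 1) : invGroup X x ≠ ⊥ := by
  have : Fact (Nat.Prime 2) := ⟨Nat.prime_two⟩
  have h2 : 2 ∣ Nat.card (stabilizer X x) := by
    have hX : 2 ∣ Nat.card X := orderOf_eq_prime (by rw [pow_two]; exact hw) hw1 ▸ orderOf_dvd_natCard w
    rw [← (stabilizer X x).index_mul_card] at hX
    refine (Nat.prime_two.dvd_mul.1 hX).resolve_left ?_
    rw [← card_orbit, ← even_iff_two_dvd, Nat.not_even_iff_odd]
    exact h.odd x hx
  obtain ⟨z, hz⟩ := exists_prime_orderOf_dvd_card' 2 h2
  intro e
  have hz2 : (z : X) * z = 1 := by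
    have := congrArg Subtype.val (pow_orderOf_eq_one z)
    rwa [hz, pow_two] at this
  have : (z : X) ∈ invGroup X x := Subgroup.subset_closure ⟨hz2, z.2⟩
  rw [e, Subgroup.mem_bot] at this
  rw [show z = 1 from Subtype.ext this, orderOf_one] at hz
  exact absurd hz (by decide)

theorem invGroup_eq_iff (h : LinHyp X V) {x x' : V} (hx : x ≠ 0) (hx' : x' ≠ 0) :
    invGroup X x' = invGroup X x ↔ x' ∈ fixedVecs V (invGroup X x : Set X) := by
  refine ⟨fun e w hw => invGroup_le (X := X) x' (e.symm ▸ hw : w ∈ invGroup X x'), fun hfix => ?_⟩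
  have hle : invGroup X x ≤ invGroup X x' := (Subgroup.closure_le _).2 fun w hw =>
    Subgroup.subset_closure ⟨hw.1, hfix w (Subgroup.subset_closure hw)⟩
  obtain ⟨g, hg⟩ := invGroup_isConj h hx hx'
  refine (Subgroup.eq_of_le_of_card_ge hle (le_of_eq ?_)).symm
  rw [hg, invGroup_smul, Subgroup.card_map_of_injective (MulAut.conj g).injective]

variable [Finite V] [FaithfulSMul X V]

theorem exists_blockCount (h : LinHyp X V) [Nontrivial V] {d a : ℕ} (hd : Nat.card V = 2 ^ d)
    (ha : ∀ w : X, w * w = 1 → w ≠ 1 → Nat.card (fixedVecs V {w}) = 2 ^ a) {w : X} (hw : w * w = 1)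
    (hw1 : w ≠ 1) :
    ∃ f n : ℕ, 0 < f ∧ f ≤ a ∧ n * (2 ^ f - 1) = 2 ^ d - 1 ∧
      ∀ x : V, x ≠ 0 → n ∣ Nat.card (orbit X x) := by
  classical
  have : Fintype V := Fintype.ofFinite V
  obtain ⟨x₀, hx₀⟩ := exists_ne (0 : V)
  set F := fixedVecs V (invGroup X x₀ : Set X) with hF
  obtain ⟨f, -, hf⟩ := card_addSubgroup hd F
  have hx₀F : x₀ ∈ F := fun z hz => invGroup_le (X := X) x₀ hz
  have hf0 : 0 < f := by
    rcases Nat.eq_zero_or_pos f with rfl | hpos
    · rw [pow_zero, AddSubgroup.card_eq_one] at hf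
      exact absurd ((AddSubgroup.mem_bot).1 (hf ▸ hx₀F)) hx₀
    · exact hpos
  obtain ⟨z, hzU, hz2, hz1⟩ : ∃ z ∈ invGroup X x₀, z * z = 1 ∧ z ≠ 1 := by
    by_contra hne
    push Not at hne
    refine invGroup_ne_bot h hx₀ hw hw1 ((Subgroup.closure_eq_bot_iff).2 fun z hz => ?_)
    exact hne z (Subgroup.subset_closure hz) hz.1
  have hfa : f ≤ a := by
    have hle : F ≤ fixedVecs V {z} := fun v hv =>
      mem_fixedVecs_singleton.2 (hv z hzU)
    have h1 := Nat.card_le_card_of_injective _ (AddSubgroup.inclusion_injective hle)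
    rw [hf, ha z hz2 hz1] at h1
    exact (Nat.pow_le_pow_iff_right (by norm_num)).1 h1
  let S : Finset V := Finset.univ.erase 0
  let β : V → Subgroup X := invGroup X
  -- all fibres have the size of `F` minus one
  have hfib : ∀ x ∈ S, (S.filter fun y => β y = β x).card = 2 ^ f - 1 := by
    intro x hx
    have hx0 : x ≠ 0 := (Finset.mem_erase.1 hx).1
    obtain ⟨g, hg⟩ := invGroup_isConj h hx₀ hx0
    have e : (S.filter fun y => β y = β x) =
        ((Finset.univ.filter fun y => y ∈ F).erase 0).image (g • ·) := by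
      ext y
      simp only [Finset.mem_filter, Finset.mem_image, Finset.mem_erase, Finset.mem_univ, true_and, S, β,
        ne_eq, and_true]
      constructor
      · rintro ⟨hy, hyx⟩
        have hy' : g⁻¹ • y ≠ 0 := fun e0 => hy (by simpa using congrArg (g • ·) e0)
        refine ⟨g⁻¹ • y, ⟨hy', (invGroup_eq_iff h hx₀ hy').1 ?_⟩, smul_inv_smul g y⟩
        apply Subgroup.map_injective (f := (MulAut.conj g).toMonoidHom) (MulAut.conj g).injective
        rw [← invGroup_smul, ← invGroup_smul, smul_inv_smul, hyx, hg]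
      · rintro ⟨z, ⟨hz, hzF⟩, rfl⟩
        refine ⟨fun e0 => hz (by simpa using congrArg (g⁻¹ • ·) e0), ?_⟩
        rw [hg, invGroup_smul, (invGroup_eq_iff h hx₀ hz).2 hzF, ← invGroup_smul]
    rw [e, Finset.card_image_of_injective _ (MulAction.injective g), Finset.card_erase_of_mem]
    · congr 1
      rw [← hf, Nat.card_eq_fintype_card, Fintype.card_subtype]
    · simp [F.zero_mem]
  refine ⟨f, (S.image β).card, hf0, hfa, ?_, fun x hx => ?_⟩
  · have h1 := Finset.card_eq_sum_card_image β S
    rw [Finset.sum_congr rfl (g := fun _ => 2 ^ f - 1) (fun b hb => by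
      obtain ⟨x, hx, rfl⟩ := Finset.mem_image.1 hb
      exact hfib x hx), Finset.sum_const, smul_eq_mul] at h1
    rw [← h1, Finset.card_erase_of_mem (Finset.mem_univ _), Finset.card_univ, ← Nat.card_eq_fintype_card,
      hd]
  · let O : Finset V := Finset.univ.filter (· ∈ orbit X x)
    have hO : Nat.card (orbit X x) = O.card := by
      rw [Nat.card_eq_fintype_card, Fintype.card_subtype]
    have himg : O.image β = S.image β := by
      refine Finset.Subset.antisymm (fun b hb => ?_) fun b hb => ?_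
      · obtain ⟨y, hy, rfl⟩ := Finset.mem_image.1 hb
        obtain ⟨g, rfl⟩ := (Finset.mem_filter.1 hy).2
        exact Finset.mem_image_of_mem _ (Finset.mem_erase.2
          ⟨fun e => hx (by simpa using congrArg (g⁻¹ • ·) e), Finset.mem_univ _⟩)
      · obtain ⟨y, hy, rfl⟩ := Finset.mem_image.1 hb
        obtain ⟨g, hg⟩ := invGroup_isConj h hx (Finset.mem_erase.1 hy).1
        exact Finset.mem_image.2 ⟨g • x, Finset.mem_filter.2 ⟨Finset.mem_univ _, g, rfl⟩, hg.symm⟩
    have h1 := Finset.card_eq_sum_card_image β O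
    rw [Finset.sum_congr rfl (g := fun _ => (O.filter fun y => β y = β x).card) (fun b hb => by
      obtain ⟨y, hy, rfl⟩ := Finset.mem_image.1 hb
      obtain ⟨g, rfl⟩ := (Finset.mem_filter.1 hy).2
      symm
      refine Finset.card_bij (fun z _ => g • z) ?_ (fun _ _ _ _ e => MulAction.injective g e) ?_
      · intro z hz
        rw [Finset.mem_filter] at hz ⊢
        refine ⟨Finset.mem_filter.2 ⟨Finset.mem_univ _, mem_orbit_of_mem_orbit g
          (Finset.mem_filter.1 hz.1).2⟩, ?_⟩
        show invGroup X (g • z) = invGroup X (g • x)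
        rw [invGroup_smul, invGroup_smul, show invGroup X z = invGroup X x from hz.2]
      · intro z hz
        rw [Finset.mem_filter] at hz
        refine ⟨g⁻¹ • z, Finset.mem_filter.2 ⟨Finset.mem_filter.2 ⟨Finset.mem_univ _,
          mem_orbit_of_mem_orbit g⁻¹ (Finset.mem_filter.1 hz.1).2⟩, ?_⟩, smul_inv_smul g z⟩
        show invGroup X (g⁻¹ • z) = invGroup X x
        rw [invGroup_smul, show invGroup X z = invGroup X (g • x) from hz.2, ← invGroup_smul,
          inv_smul_smul]), Finset.sum_const, smul_eq_mul, himg] at h1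
    exact ⟨_, hO.trans h1⟩

end CfsgLib.RealGraph81
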