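import Mathlib
import Cfsg.Agent.Lib.RealGraph81.Blocks
import Cfsg.Agent.Lib.NumberTheory.Zsigmondy

/-!
A real element acting irreducibly: of primitive prime divisor order, or of order nine in dimension
six.
-/

set_option autoImplicit false

namespace CfsgLib.RealGraph81

open MulAction CfsgLib.NumberTheory

universe u v

variable {X : Type u} [Group X] [Finite X] {V : Type v} [AddCommGroup V] [DistribMulAction X V]
  [Finite V]

/-- The order of an element without fixed points on an invariant subgroup divides its size minus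
one. -/
theorem orderOf_dvd_card_sub_one {g : X} (W : AddSubgroup V) (hW : ∀ w ∈ W, g • w ∈ W)
    (hfree : ∀ z ∈ Subgroup.zpowers g, z ≠ 1 → ∀ w ∈ W, z • w = w → w = 0) :
    orderOf g ∣ Nat.card W - 1 := by
  have hWz : ∀ z : X, z ∈ Subgroup.zpowers g → ∀ w ∈ W, z • w ∈ W := by
    intro z hz w hw
    obtain ⟨n, rfl⟩ : ∃ n : ℕ, g ^ n = z := mem_powers_iff_mem_zpowers.2 hz
    induction n with
    | zero => simpa using hw
    | succ n ih =>
      rw [pow_succ', mul_smul]
      exact hW _ (ih (Subgroup.pow_mem _ (Subgroup.mem_zpowers g) _))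
  let Ω := {w : W // w ≠ 0}
  let act : MulAction (Subgroup.zpowers g) Ω :=
    { smul := fun z w => ⟨⟨(z : X) • ((w : W) : V), hWz _ z.2 _ (w : W).2⟩, fun h => w.2 (by
        have h' := congrArg (fun t : W => (z : X)⁻¹ • (t : V)) h
        simp only [inv_smul_smul, AddSubgroup.coe_zero, smul_zero] at h'
        exact Subtype.ext h')⟩
      one_smul := fun w => Subtype.ext (Subtype.ext (one_smul X _))
      mul_smul := fun a b w => Subtype.ext (Subtype.ext (mul_smul (a : X) (b : X) _)) }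
  have hstab : ∀ b : Ω, MulAction.stabilizer (Subgroup.zpowers g) b = ⊥ := fun b => by
    rw [eq_bot_iff]
    intro z hz
    rw [Subgroup.mem_bot]
    by_contra hz1
    exact b.2 (Subtype.ext (hfree z z.2 (fun h => hz1 (Subtype.ext h)) _ (b : W).2
      (congrArg (fun t : Ω => ((t : W) : V)) hz)))
  have hcard := Nat.card_congr (MulAction.selfEquivOrbitsQuotientProd hstab)
  rw [Nat.card_prod, Nat.card_zpowers] at hcard
  refine Dvd.intro_left _ (hcard.symm.trans ?_)
  classical
  have : Fintype W := Fintype.ofFinite W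
  rw [Nat.card_eq_fintype_card, Fintype.card_subtype_compl, Fintype.card_subtype_eq,
    ← Nat.card_eq_fintype_card]

/-- An element whose prime order divides no smaller `2 ^ e - 1` has no fixed point. -/
theorem free_of_ppd [FaithfulSMul X V] {d : ℕ} (h2 : ∀ v : V, v + v = 0) (hd : Nat.card V = 2 ^ d)
    {g : X} {q : ℕ} [Fact q.Prime] (hq2 : q ≠ 2) (hg : orderOf g = q)
    (hq : ∀ e, 0 < e → e < d → ¬ q ∣ 2 ^ e - 1) :
    ∀ z ∈ Subgroup.zpowers g, z ≠ 1 → ∀ v : V, z • v = v → v = 0 := by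
  intro z hz hz1 v hv
  have hgv := stabilizer_of_prime hg hz hz1 hv
  let F : V →+ V := DistribSMul.toAddMonoidHom V g + AddMonoidHom.id V
  have hFdef : ∀ x, F x = g • x + x := fun x => rfl
  have hWinv : ∀ w ∈ F.range, g • w ∈ F.range := by
    rintro _ ⟨x, rfl⟩
    exact ⟨g • x, by rw [hFdef, hFdef, smul_add]⟩
  have hfree : ∀ z ∈ Subgroup.zpowers g, z ≠ 1 → ∀ w ∈ F.range, z • w = w → w = 0 := by
    rintro z hz hz1 _ ⟨x, rfl⟩ hzx
    have hw := stabilizer_of_prime hg hz hz1 hzx
    set w := F x with hwdef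
    have hgx : g • x = x + w := by
      rw [hwdef, hFdef]
      calc g • x = g • x + (x + x) := by rw [h2, add_zero]
        _ = x + (g • x + x) := by abel
    have hn : ∀ n : ℕ, g ^ n • x = x + n • w := by
      intro n
      induction n with
      | zero => simp
      | succ n ih =>
        rw [pow_succ', mul_smul, ih, smul_add, hgx,
          show g • (n • w) = n • w by rw [← DistribSMul.toAddMonoidHom_apply, map_nsmul,
            DistribSMul.toAddMonoidHom_apply, hw], succ_nsmul]
        abel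
    have h1 := hn q
    rw [← hg, pow_orderOf_eq_one, one_smul, hg] at h1
    have h3 : q • w = 0 := add_left_cancel (h1.symm.trans (add_zero x).symm)
    obtain ⟨j, hj⟩ := ((Fact.out : q.Prime).odd_of_ne_two hq2)
    rw [hj, succ_nsmul, mul_nsmul, two_nsmul, h2, nsmul_zero, zero_add] at h3
    exact h3
  obtain ⟨e, hed, he⟩ := card_addSubgroup hd F.range
  rcases Nat.eq_zero_or_pos e with rfl | hepos
  · exfalso
    rw [pow_zero, AddSubgroup.card_eq_one] at he
    have hg1 : g = 1 := eq_of_smul_eq_smul fun x : V => by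
      have hx : F x = 0 := (AddSubgroup.mem_bot).1 (he ▸ (⟨x, rfl⟩ : F x ∈ F.range))
      rw [one_smul]
      exact add_right_cancel (hx.trans (h2 x).symm)
    rw [hg1, orderOf_one] at hg
    exact (Fact.out : q.Prime).one_lt.ne hg
  · have hdvd := orderOf_dvd_card_sub_one F.range hWinv hfree
    rw [hg, he] at hdvd
    have hlt : ¬ e < d := fun hlt => hq e hepos hlt hdvd
    have htop : F.range = ⊤ := AddSubgroup.eq_top_of_card_eq _ (by
      rw [he, hd, show e = d by omega])
    exact hfree g (Subgroup.mem_zpowers g) (fun e1 => hz1 (by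
      rw [e1, Subgroup.zpowers_one_eq_bot, Subgroup.mem_bot] at hz
      exact hz)) v (htop ▸ AddSubgroup.mem_top v) hgv

theorem mem_zpowers_of_isCyclic {Q : Subgroup X} [IsCyclic Q] {g : X} (hgQ : g ∈ Q) {q : ℕ}
    [Fact q.Prime] (hg : orderOf g = q) {z : X} (hz : z ∈ Q) (hzq : z ^ q = 1) :
    z ∈ Subgroup.zpowers g := by
  classical
  have : Fintype Q := Fintype.ofFinite Q
  let A : Subgroup Q := Subgroup.zpowers ⟨g, hgQ⟩
  have hA : Nat.card A = q := by
    rw [Nat.card_zpowers, Subgroup.orderOf_mk, hg]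
  let S := (Finset.univ : Finset Q).filter fun a => a ^ q = 1
  have hsub : (Finset.univ.filter fun a : Q => a ∈ A) ⊆ S := by
    intro a ha
    obtain ⟨i, hi⟩ := Subgroup.mem_zpowers_iff.1 (Finset.mem_filter.1 ha).2
    refine Finset.mem_filter.2 ⟨Finset.mem_univ _, ?_⟩
    have h1 : (⟨g, hgQ⟩ : Q) ^ q = 1 := Subtype.ext (by
      rw [← hg]; simp [pow_orderOf_eq_one])
    rw [← hi, ← zpow_natCast, ← zpow_mul, mul_comm, zpow_mul, zpow_natCast, h1, one_zpow]
  have heq := Finset.eq_of_subset_of_card_le hsub (by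
    refine le_trans (IsCyclic.card_pow_eq_one_le (α := Q) (Fact.out : q.Prime).pos) (le_of_eq ?_)
    rw [← Fintype.card_subtype]
    exact hA.symm.trans (Nat.card_eq_fintype_card))
  have hzS : (⟨z, hz⟩ : Q) ∈ S := Finset.mem_filter.2 ⟨Finset.mem_univ _, Subtype.ext hzq⟩
  rw [← heq, Finset.mem_filter] at hzS
  obtain ⟨i, hi⟩ := Subgroup.mem_zpowers_iff.1 hzS.2
  exact ⟨i, congrArg Subtype.val hi⟩

/-- A 2-element normalising a subgroup of odd prime order without centralising it has a power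
inverting that subgroup. -/
theorem isReal_of_normalized {g s : X} {q k : ℕ} [Fact q.Prime] (hg : orderOf g = q)
    (hs : s ^ (2 ^ k) = 1) (hnorm : ∀ z ∈ Subgroup.zpowers g, s * z * s⁻¹ ∈ Subgroup.zpowers g)
    (hne : s * g ≠ g * s) : IsReal g := by
  induction k generalizing s with
  | zero =>
    rw [pow_zero, pow_one] at hs
    rw [hs, one_mul, mul_one] at hne
    exact absurd rfl hne
  | succ k ih =>
    obtain ⟨i, hi⟩ : ∃ i : ℕ, g ^ i = s * g * s⁻¹ :=
      mem_powers_iff_mem_zpowers.2 (hnorm g (Subgroup.mem_zpowers g))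
    by_cases h : s ^ 2 * g = g * s ^ 2
    · refine ⟨s, ?_⟩
      have h1 : g ^ (i * i) = g := by
        rw [pow_mul, hi, conj_pow, hi]
        calc s * (s * g * s⁻¹) * s⁻¹ = s ^ 2 * g * (s ^ 2)⁻¹ := by rw [pow_two]; group
          _ = g := by rw [h, mul_inv_cancel_right]
      have h2 : ((i * i : ℕ) : ZMod q) = ((1 : ℕ) : ZMod q) := by
        rw [ZMod.natCast_eq_natCast_iff, ← hg]
        exact pow_eq_pow_iff_modEq.1 (by rw [h1, pow_one])
      rw [Nat.cast_mul, Nat.cast_one] at h2
      rcases mul_self_eq_one_iff.1 h2 with e | e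
      · refine absurd ?_ hne
        have h3 : g ^ i = g ^ 1 := by
          rw [pow_eq_pow_iff_modEq, hg, ← ZMod.natCast_eq_natCast_iff, Nat.cast_one]
          exact e
        rw [pow_one, hi, mul_inv_eq_iff_eq_mul] at h3
        exact h3
      · rw [← hi]
        refine eq_inv_of_mul_eq_one_left ?_
        rw [← pow_succ, ← orderOf_dvd_iff_pow_eq_one, hg, ← ZMod.natCast_eq_zero_iff,
          Nat.cast_succ, e, neg_add_cancel]
    · refine ih (s := s ^ 2) (by rw [← pow_mul, ← pow_succ', hs]) (fun z hz => ?_) h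
      have := hnorm _ (hnorm z hz)
      rw [show s ^ 2 * z * (s ^ 2)⁻¹ = s * (s * z * s⁻¹) * s⁻¹ by rw [pow_two]; group]
      exact this

variable [FaithfulSMul X V]

theorem exists_real_ppd (h : LinHyp X V) [Nontrivial V] {d q : ℕ} (hd : Nat.card V = 2 ^ d)
    [Fact q.Prime] (hq2 : q ≠ 2) (hq : ∀ e, 0 < e → e < d → ¬ q ∣ 2 ^ e - 1)
    (hqorb : ∀ x : V, x ≠ 0 → q ∣ Nat.card (orbit X x)) {y : X} (hy : IsReal y) {r : ℕ}
    (hr : r.Prime) (hr2 : r ≠ 2) (hy1 : orderOf y = r) :
    ∃ g : X, IsReal g ∧ orderOf g = q ∧ IrredElt V g := by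
  obtain ⟨s₀, hs₀⟩ := hy
  set L := Subgroup.centralizer ({y} : Set X) with hL
  have hyne : y ≠ 1 := fun e => hr.one_lt.ne (by rw [← hy1, e, orderOf_one])
  obtain ⟨x, hx⟩ := exists_ne (0 : V)
  have hqL : q ∣ Nat.card L := (hqorb x hx).trans
    (h.orbit_dvd ⟨s₀, hs₀⟩ hr hr2 (j := 1) (by rw [pow_one, hy1]) hyne hx)
  let Q : Sylow q L := default
  set Q' : Subgroup X := (Q : Subgroup L).map L.subtype with hQ'
  have hQp : IsPGroup q Q' := Q.2.map _
  have hQnt : Nontrivial Q' := by
    rw [← Finite.one_lt_card_iff_nontrivial, hQ', Subgroup.card_map_of_injective L.subtype_injective]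
    exact lt_of_lt_of_le (Fact.out : q.Prime).one_lt
      (Nat.le_of_dvd Nat.card_pos (Q.dvd_card_of_dvd_card hqL))
  obtain ⟨m, hm⟩ := IsPGroup.iff_card.1 (hQp.to_subgroup (Subgroup.center Q'))
  have : Nontrivial (Subgroup.center Q') := hQp.center_nontrivial
  have hqZ : q ∣ Nat.card (Subgroup.center Q') := by
    rw [hm]
    exact dvd_pow_self q fun e => by
      rw [e, pow_zero] at hm
      exact (Finite.one_lt_card (α := Subgroup.center Q')).ne' hm
  obtain ⟨c, hc⟩ := exists_prime_orderOf_dvd_card' q hqZ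
  set g : X := ((c : Q') : X) with hg
  have hgo : orderOf g = q := by rw [hg, Subgroup.orderOf_coe, Subgroup.orderOf_coe, hc]
  have hfree := free_of_ppd h.char2 hd hq2 hgo hq
  have hirr : IrredElt V g := irredElt_of_free hd hfree (fun e he hed => by rw [hgo]; exact hq e he hed)
  refine ⟨g, ?_, hgo, hirr⟩
  have hQC : Q' ≤ Subgroup.centralizer ({g} : Set X) := fun z hz =>
    Subgroup.mem_centralizer_singleton_iff.2
      (congrArg Subtype.val (Subgroup.mem_center_iff.1 c.2 ⟨z, hz⟩))
  have := centralizer_isCyclic (V := V) hirr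
  have : IsCyclic Q' := isCyclic_of_injective (Subgroup.inclusion hQC) (Subgroup.inclusion_injective hQC)
  have hnormL : s₀ ∈ Subgroup.normalizer (L : Set X) := by
    refine Subgroup.mem_normalizer_iff.2 fun z => ?_
    rw [hL, Subgroup.mem_centralizer_singleton_iff, Subgroup.mem_centralizer_singleton_iff]
    have e1 : s₀ * z * s₀⁻¹ * y⁻¹ = s₀ * (z * y) * s₀⁻¹ := by rw [← hs₀]; group
    have e2 : y⁻¹ * (s₀ * z * s₀⁻¹) = s₀ * (y * z) * s₀⁻¹ := by rw [← hs₀]; group
    constructor
    · intro hz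
      have hz' : Commute (s₀ * z * s₀⁻¹) y⁻¹ := by
        show _ = _
        rw [e1, e2, hz]
      exact Commute.inv_right_iff.1 hz'
    · intro hz
      have hz' : s₀ * z * s₀⁻¹ * y⁻¹ = y⁻¹ * (s₀ * z * s₀⁻¹) := (Commute.inv_right hz).eq
      rw [e1, e2] at hz'
      exact mul_left_cancel (mul_right_cancel hz')
  obtain ⟨l, hl, hs⟩ := exists_mul_normalizes hnormL Q
  obtain ⟨n, k, hn, hk⟩ := exists_odd_pow_two (l * s₀)
  have hiny : l * s₀ * y * (l * s₀)⁻¹ = y⁻¹ := by
    rw [show l * s₀ * y * (l * s₀)⁻¹ = l * (s₀ * y * s₀⁻¹) * l⁻¹ by group, hs₀]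
    have : Commute l y⁻¹ := Commute.inv_right (Subgroup.mem_centralizer_singleton_iff.1 hl)
    rw [this.eq, mul_inv_cancel_right]
  have hny := conj_pow_odd hiny n hn
  set s := (l * s₀) ^ n with hsdef
  have hnQ : ∀ i : ℕ, ∀ z ∈ Q', (l * s₀) ^ i * z * ((l * s₀) ^ i)⁻¹ ∈ Q' := by
    intro i
    induction i with
    | zero => intro z hz; simpa using hz
    | succ i ih =>
      intro z hz
      have h1 := (hs _).1 (ih z hz)
      rw [show l * s₀ * ((l * s₀) ^ i * z * ((l * s₀) ^ i)⁻¹) * (l * s₀)⁻¹ =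
        l * s₀ * (l * s₀) ^ i * z * (l * s₀ * (l * s₀) ^ i)⁻¹ by simp only [mul_inv_rev, mul_assoc], ← pow_succ'] at h1
      exact h1
  refine isReal_of_normalized hgo hk (fun z hz => mem_zpowers_of_isCyclic (c : Q').2 hgo
    (hnQ n z (Subgroup.zpowers_le.2 (c : Q').2 hz)) ?_) fun hcomm => ?_
  · rw [conj_pow]
    obtain ⟨i, rfl⟩ := Subgroup.mem_zpowers_iff.1 hz
    rw [← zpow_natCast, ← zpow_mul, mul_comm, zpow_mul, zpow_natCast, ← hgo, pow_orderOf_eq_one,
      one_zpow, mul_one, mul_inv_cancel]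
  · have hsC : s ∈ Subgroup.centralizer ({g} : Set X) := Subgroup.mem_centralizer_singleton_iff.2 hcomm
    have hodd : Odd (orderOf s) := (centralizer_odd hirr h.char2).of_dvd_nat
      (Subgroup.orderOf_dvd_natCard _ hsC)
    have hs1 : s = 1 := by
      have h1 := orderOf_dvd_of_pow_eq_one hk
      have h2 : orderOf s = 1 := Nat.eq_one_of_dvd_coprimes
        ((Nat.coprime_two_left.2 hodd).pow_left k) h1 dvd_rfl
      exact orderOf_eq_one_iff.1 h2
    rw [hs1, one_mul, inv_one, mul_one] at hny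
    have h2 : y ^ 2 = 1 := by
      rw [pow_two]
      nth_rewrite 2 [hny]
      rw [mul_inv_cancel]
    have := orderOf_dvd_of_pow_eq_one h2
    rw [hy1] at this
    exact hr2 ((Nat.prime_dvd_prime_iff_eq hr Nat.prime_two).1 this)

end CfsgLib.RealGraph81
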