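import Mathlib
import Cfsg.Agent.Lib.RealGraph81.Element

/-!
Dimension six: there is a real element of order nine acting irreducibly.
-/

set_option autoImplicit false

namespace CfsgLib.RealGraph81

open MulAction CfsgLib.NumberTheory

universe u v

variable {X : Type u} [Group X] [Finite X] {V : Type v} [AddCommGroup V] [DistribMulAction X V]
  [Finite V] [FaithfulSMul X V]

section Six

variable (h : LinHyp X V) [Nontrivial V] (hd : Nat.card V = 2 ^ 6)
  (h3 : ∀ x : V, x ≠ 0 → 3 ∣ Nat.card (orbit X x))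
include h hd h3

theorem order_three_of_six {y : X} (hy : IsReal y) {r : ℕ} (hr : r.Prime) (hr2 : r ≠ 2)
    (ho : orderOf y = r) : r = 3 := by
  have hyne : y ≠ 1 := fun e => hr.one_lt.ne (by rw [← ho, e, orderOf_one])
  have hfree := h.free hy hr hr2 ho
  have hdvd : r ∣ 63 := by
    have := orderOf_dvd_card_sub_one (g := y) (⊤ : AddSubgroup V) (fun _ _ => AddSubgroup.mem_top _)
      fun z hz hz1 w _ => hfree z hz hz1 w
    rwa [AddSubgroup.card_top, hd, ho] at this
  have hr' : r = 3 ∨ r = 7 := by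
    have hle : r ≤ 63 := Nat.le_of_dvd (by norm_num) hdvd
    interval_cases r <;> first | omega | (exfalso; revert hr hdvd; norm_num)
  refine hr'.resolve_right fun h7 => ?_
  subst h7
  obtain ⟨x, hx⟩ := exists_ne (0 : V)
  have : Fact (Nat.Prime 3) := ⟨Nat.prime_three⟩
  obtain ⟨e, he⟩ := exists_prime_orderOf_dvd_card' 3
    ((h3 x hx).trans (h.orbit_dvd hy hr hr2 (j := 1) (by rw [pow_one, ho]) hyne hx))
  set e' : X := (e : X) with he'
  have heo : orderOf e' = 3 := by rw [he', Subgroup.orderOf_coe, he]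
  have hey : e' * y = y * e' := Subgroup.mem_centralizer_singleton_iff.1 e.2
  have hye : y⁻¹ * e' = e' * y⁻¹ := (Commute.inv_left (Commute.symm hey)).eq
  -- the fixed space of `e'` is invariant under `y`
  let A := fixedVecs V {e'}
  have hAy : ∀ w ∈ A, y • w ∈ A := fun w hw => by
    rw [mem_fixedVecs_singleton] at hw ⊢
    rw [← mul_smul, hey, mul_smul, hw]
  obtain ⟨k, hk6, hk⟩ := card_addSubgroup hd A
  have h7k : 7 ∣ 2 ^ k - 1 := by
    have := orderOf_dvd_card_sub_one (g := y) A hAy fun z hz hz1 w _ => hfree z hz hz1 w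
    rwa [hk, ho] at this
  -- so does `e'`, with the moved part
  have hA0 : ∀ v : V, e' • v = v → v = 0 := by
    let F : V →+ V := DistribSMul.toAddMonoidHom V e' + AddMonoidHom.id V
    have hFdef : ∀ v, F v = e' • v + v := fun v => rfl
    have hker : F.ker = A := by
      ext v
      rw [AddMonoidHom.mem_ker, mem_fixedVecs_singleton, hFdef]
      exact ⟨fun h0 => add_right_cancel (h0.trans (h.char2 v).symm), fun h0 => by rw [h0, h.char2]⟩
    have hFy : ∀ w ∈ F.range, y • w ∈ F.range := by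
      rintro _ ⟨v, rfl⟩
      exact ⟨y • v, by rw [hFdef, hFdef, smul_add, ← mul_smul e', hey, mul_smul]⟩
    have hFe : ∀ w ∈ F.range, e' • w ∈ F.range := by
      rintro _ ⟨v, rfl⟩
      exact ⟨e' • v, by rw [hFdef, hFdef, smul_add]⟩
    have hFfree : ∀ w ∈ F.range, e' • w = w → w = 0 := by
      rintro _ ⟨v, rfl⟩ hw
      set w := F v with hwdef
      have hev : e' • v = v + w := by
        rw [hwdef, hFdef]
        calc e' • v = e' • v + (v + v) := by rw [h.char2, add_zero]
          _ = v + (e' • v + v) := by abel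
      have h1 : e' ^ 3 • v = v + w + w + w := by
        rw [show e' ^ 3 = e' * (e' * e') by rw [pow_succ', pow_two], mul_smul, mul_smul, hev,
          smul_add, hev, hw, smul_add, smul_add, hev, hw]
      rw [← heo, pow_orderOf_eq_one, one_smul, add_assoc (v + w), h.char2, add_zero] at h1
      exact add_left_cancel (h1.symm.trans (add_zero v).symm)
    obtain ⟨l, hl6, hl⟩ := card_addSubgroup hd F.range
    have h3l : 3 ∣ 2 ^ l - 1 := by
      have := orderOf_dvd_card_sub_one (g := e') F.range hFe fun z hz hz1 w hw hzw =>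
        hFfree w hw (stabilizer_of_prime heo hz hz1 hzw)
      rwa [hl, heo] at this
    have hkl : l + k = 6 := by
      have h1 := AddSubgroup.card_eq_card_quotient_mul_card_addSubgroup F.ker
      rw [Nat.card_congr (QuotientAddGroup.quotientKerEquivRange F).toEquiv, hker, hd, hl, hk,
        ← pow_add] at h1
      exact ((Nat.pow_right_injective le_rfl) h1).symm
    have hk0 : k = 0 := by
      by_contra hne
      have hl0 : l ≠ 0 := by
        intro hl0
        have hk' : k = 6 := by omega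
        have htop : A = ⊤ := AddSubgroup.eq_top_of_card_eq _ (by rw [hk, hk', hd])
        have he1 : e' = 1 := eq_of_smul_eq_smul fun v : V => by
          rw [one_smul]
          exact mem_fixedVecs_singleton.1 (htop ▸ AddSubgroup.mem_top v : v ∈ A)
        rw [he1, orderOf_one] at heo
        exact absurd heo (by decide)
      have hk6' : k < 6 := by omega
      have hlk : l = 6 - k := by omega
      rw [hlk] at h3l
      clear hkl hlk hl hk hfree hFfree hFy hFe hker
      interval_cases k <;> omega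
    intro v hv
    rw [hk0, pow_zero, AddSubgroup.card_eq_one] at hk
    exact (AddSubgroup.mem_bot).1 (hk ▸ (mem_fixedVecs_singleton.2 hv : v ∈ A))
  set z := y * e' with hz
  have hzo : orderOf z = 21 := by
    rw [hz, (Commute.symm hey).orderOf_mul_eq_mul_orderOf_of_coprime (by rw [ho, heo]; decide),
      ho, heo]
  have hzfree : ∀ t ∈ Subgroup.zpowers z, t ≠ 1 → ∀ v : V, t • v = v → v = 0 := by
    intro t ht ht1 v hv
    have hcomm : ∀ i : ℕ, z ^ i = y ^ i * e' ^ i := fun i => by
      rw [hz, (Commute.symm hey).mul_pow]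
    obtain ⟨i, rfl⟩ : ∃ i : ℕ, z ^ i = t := mem_powers_iff_mem_zpowers.2 ht
    by_cases h7 : y ^ i = 1
    · have : e' ^ i ≠ 1 := fun e0 => ht1 (by rw [hcomm, h7, e0, one_mul])
      rw [hcomm, h7, one_mul] at hv
      exact hA0 v (stabilizer_of_prime heo (Subgroup.pow_mem _ (Subgroup.mem_zpowers e') i) this hv)
    · have h3' : (z ^ i) ^ 3 • v = v := by rw [pow_succ, pow_two, mul_smul, mul_smul, hv, hv, hv]
      rw [hcomm, ((Commute.symm hey).pow_pow i i).mul_pow, ← pow_mul e', mul_comm i 3, pow_mul e',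
        show e' ^ 3 = 1 by rw [← heo, pow_orderOf_eq_one], one_pow, mul_one, ← pow_mul] at h3'
      refine hfree _ (Subgroup.pow_mem _ (Subgroup.mem_zpowers y) _) (fun e0 => h7 ?_) v h3'
      rw [← orderOf_dvd_iff_pow_eq_one, ho] at e0 ⊢
      exact (Nat.Coprime.dvd_mul_right (by decide)).1 e0
  have hirr : IrredElt V z := irredElt_of_free hd hzfree fun f hf0 hf6 => by
    rw [hzo]
    interval_cases f <;> decide
  let a : V →+ V := DistribSMul.toAddMonoidHom V (y ^ 3) + DistribSMul.toAddMonoidHom V y + AddMonoidHom.id V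
  let b : V →+ V := DistribSMul.toAddMonoidHom V (y ^ 3) + DistribSMul.toAddMonoidHom V (y ^ 2) + AddMonoidHom.id V
  have ha : ∀ v, a v = y ^ 3 • v + y • v + v := fun v => rfl
  have hb : ∀ v, b v = y ^ 3 • v + y ^ 2 • v + v := fun v => rfl
  have hzy : ∀ i : ℕ, ∀ v : V, y ^ i • z • v = z • y ^ i • v := fun i v => by
    rw [← mul_smul, ← mul_smul]
    congr 1
    exact ((Commute.refl y).mul_right (Commute.symm hey)).pow_left i
  have hsum : ∀ v : V, a (b v) = 0 := fun v => by
    obtain ⟨S, hS⟩ : ∃ S : V,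
        S = v + y • v + y ^ 2 • v + y ^ 3 • v + y ^ 4 • v + y ^ 5 • v + y ^ 6 • v := ⟨_, rfl⟩
    have hstep : ∀ i j k : ℕ, i + j = k → y ^ i • y ^ j • v = y ^ k • v := fun i j k e => by
      rw [← mul_smul, ← pow_add, e]
    have hone : ∀ j k : ℕ, j + 1 = k → y • y ^ j • v = y ^ k • v := fun j k e => by
      rw [← mul_smul, ← pow_succ', e]
    have h7y : y ^ 7 = 1 := by rw [← ho, pow_orderOf_eq_one]
    have hone0 : y • y • v = y ^ 2 • v := by rw [← mul_smul, ← pow_two]
    have hyS : y • S = S := by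
      rw [hS, smul_add, smul_add, smul_add, smul_add, smul_add, smul_add, hone0, hone 2 3 rfl,
        hone 3 4 rfl, hone 4 5 rfl, hone 5 6 rfl, hone 6 7 rfl, h7y, one_smul]
      abel
    have hS0 : S = 0 := hfree y (Subgroup.mem_zpowers y) hyne S hyS
    have key : a (b v) = S + (y ^ 3 • v + y ^ 3 • v) := by
      rw [ha, hb, hS, smul_add, smul_add, smul_add, smul_add, hstep 3 3 6 rfl, hstep 3 2 5 rfl,
        hone 3 4 rfl, hone 2 3 rfl]
      abel
    rw [key, hS0, h.char2, add_zero]
  -- `u` exchanges the two factors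
  obtain ⟨u, hu⟩ := hy
  have hswap : ∀ v, u • a v = y⁻¹ ^ 3 • b (u • v) := by
    intro v
    have e1 : ∀ i : ℕ, u • y ^ i • v = y⁻¹ ^ i • u • v := fun i => by
      rw [← mul_smul, ← mul_smul]
      congr 1
      rw [← hu, conj_pow, inv_mul_cancel_right]
    have e2 : u • y • v = y⁻¹ • u • v := by simpa using e1 1
    have e3 : y⁻¹ ^ 3 * y ^ 3 = 1 := by rw [inv_pow, inv_mul_cancel]
    have e4 : y⁻¹ ^ 3 * y ^ 2 = y⁻¹ := by group
    simp only [ha, hb, smul_add, e1, e2, ← mul_smul (y⁻¹ ^ 3), e3, e4, one_smul]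
    abel
  obtain ⟨v₀, hv₀⟩ := exists_ne (0 : V)
  have hab : (∀ v, a v = 0) ∧ ∀ v, b v = 0 := by
    have hba : (∀ v, a v = 0) ∨ ∀ v, b v = 0 := by
      by_cases hb0 : b v₀ = 0
      · exact Or.inr fun v => DFunLike.congr_fun (eq_zero_of_commute hirr (T := b) (fun w => by
          simp only [hb, smul_add, hzy]) hv₀ hb0) v
      · exact Or.inl fun v => DFunLike.congr_fun (eq_zero_of_commute hirr (T := a) (fun w => by
          have := hzy 1
          simp only [pow_one] at this
          simp only [ha, smul_add, hzy, this]) hb0 (hsum v₀)) v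
    have h33 : ∀ w : V, y⁻¹ ^ 3 • w = 0 → w = 0 := fun w hw => by
      have := congrArg (fun t : V => (y⁻¹ ^ 3)⁻¹ • t) hw
      simpa using this
    rcases hba with ha0 | hb0
    · refine ⟨ha0, fun v => h33 _ ?_⟩
      have := hswap (u⁻¹ • v)
      rw [ha0, smul_zero, smul_inv_smul] at this
      exact this.symm
    · refine ⟨fun v => ?_, hb0⟩
      have := hswap v
      rw [hb0, smul_zero] at this
      exact (smul_eq_zero_iff_eq u).1 this
  have hy2 : y • v₀ = y ^ 2 • v₀ := by
    have h1 := hab.1 v₀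
    have h2 := hab.2 v₀
    rw [ha] at h1
    rw [hb] at h2
    exact add_left_cancel (add_right_cancel (h1.trans h2.symm))
  rw [pow_two, mul_smul] at hy2
  have := MulAction.injective y hy2
  exact hv₀ (hfree y (Subgroup.mem_zpowers y) hyne v₀ this.symm)

theorem exists_real_nine (hns : ∃ (y : X) (r : ℕ), r.Prime ∧ r ≠ 2 ∧ IsReal y ∧ orderOf y = r)
    (ha : ∀ w : X, w * w = 1 → w ≠ 1 → Nat.card (fixedVecs V {w}) = 2 ^ 3) :
    ∃ g : X, IsReal g ∧ orderOf g = 3 ^ 2 ∧ IrredElt V g := by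
  classical
  have : Fintype V := Fintype.ofFinite V
  have : Fact (Nat.Prime 2) := ⟨Nat.prime_two⟩
  obtain ⟨y, r, hr, hr2, hy, ho⟩ := hns
  obtain rfl := order_three_of_six h hd h3 hy hr hr2 ho
  have hyne : y ≠ 1 := fun e => absurd (by rw [← ho, e, orderOf_one] : (1 : ℕ) = 3) (by decide)
  have hfree := h.free hy hr hr2 ho
  -- the centraliser of `y` has no involution
  have hC : ∀ c : X, c * y = y * c → c * c = 1 → c = 1 := by
    intro c hc hc2
    by_contra hc1
    have := orderOf_dvd_card_sub_one (g := y) (fixedVecs V {c})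
      (fun w hw => by
        rw [mem_fixedVecs_singleton] at hw ⊢
        rw [← mul_smul, hc, mul_smul, hw])
      fun z hz hz1 w _ => hfree z hz hz1 w
    rw [ha c hc2 hc1, ho] at this
    exact absurd this (by decide)
  have hodd : ∀ c : X, c * y = y * c → Odd (orderOf c) := by
    intro c hc
    rw [← Nat.not_even_iff_odd, even_iff_two_dvd]
    intro hdvd
    have h1 := orderOf_pow_orderOf_div (orderOf_pos c).ne' hdvd
    have h2 := hC (c ^ (orderOf c / 2)) ((Commute.pow_left hc _).eq) (by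
      rw [← pow_two]
      have := pow_orderOf_eq_one (c ^ (orderOf c / 2))
      rwa [h1] at this)
    rw [h2, orderOf_one] at h1
    exact absurd h1 (by decide)
  -- an inverting involution
  obtain ⟨s, k, hs, hsy⟩ := hy.two_inverter
  obtain ⟨i0, hi02, hi0y⟩ : ∃ i : X, i * i = 1 ∧ i * y * i⁻¹ = y⁻¹ := by
    refine ⟨s, ?_, hsy⟩
    have hsc : Commute (s ^ 2) y := by
      show _ = _
      calc s ^ 2 * y = s * (s * y * s⁻¹) * s⁻¹ * s ^ 2 := by rw [pow_two]; group
        _ = s * y⁻¹ * s⁻¹ * s ^ 2 := by rw [hsy]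
        _ = (s * y * s⁻¹)⁻¹ * s ^ 2 := by group
        _ = y * s ^ 2 := by rw [hsy, inv_inv]
    have h2 : orderOf (s ^ 2) = 1 := Nat.eq_one_of_dvd_coprimes
      ((Nat.coprime_two_left.2 (hodd _ hsc)).pow_left k)
      (orderOf_dvd_of_pow_eq_one (by rw [← pow_mul, mul_comm, pow_mul, hs, one_pow])) dvd_rfl
    rw [orderOf_eq_one_iff, pow_two] at h2
    exact h2
  let I : Finset X := (Set.toFinite {i : X | i * i = 1 ∧ i * y * i⁻¹ = y⁻¹}).toFinset
  have hI : ∀ {i}, i ∈ I ↔ i * i = 1 ∧ i * y * i⁻¹ = y⁻¹ := fun {i} => Set.Finite.mem_toFinset _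
  have hIinv : ∀ i ∈ I, i⁻¹ = i := fun i hi => inv_eq_of_mul_eq_one_right (hI.1 hi).1
  have hprodC : ∀ i ∈ I, ∀ j ∈ I, i * j * y = y * (i * j) := by
    intro i hi j hj
    have h1 : j * y = y⁻¹ * j := by rw [← (hI.1 hj).2]; group
    have h2 : i * y⁻¹ = y * i := by
      have e : i * y⁻¹ = (i * y * i⁻¹)⁻¹ * i := by group
      rw [e, (hI.1 hi).2, inv_inv]
    rw [mul_assoc, h1, ← mul_assoc, h2, mul_assoc]
  -- every vector is fixed by exactly one inverter
  have huniq : ∀ v : V, v ≠ 0 → ∀ i ∈ I, ∀ j ∈ I, i • v = v → j • v = v → i = j := by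
    intro v hv i hi j hj hiv hjv
    by_contra hne
    have hp1 : i * j ≠ 1 := fun e => hne (by
      rw [mul_eq_one_iff_eq_inv, hIinv j hj] at e
      exact e)
    obtain ⟨r', hr', hrd⟩ := Nat.exists_prime_and_dvd
      (show orderOf (i * j) ≠ 1 from fun e => hp1 (orderOf_eq_one_iff.1 e))
    have hr'2 : r' ≠ 2 := fun e => by
      rw [e] at hrd
      exact (Nat.not_even_iff_odd.2 (hodd _ (hprodC i hi j hj))) (even_iff_two_dvd.2 hrd)
    have ho' := orderOf_pow_orderOf_div (orderOf_pos (i * j)).ne' hrd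
    set p := (i * j) ^ (orderOf (i * j) / r') with hp
    have hreal : IsReal p := (show IsReal (i * j) from ⟨i, by
      rw [mul_inv_rev, hIinv i hi, hIinv j hj, ← mul_assoc, (hI.1 hi).1, one_mul]⟩).pow _
    have hpv : p • v = v := by
      rw [hp]
      exact (stabilizer X v).pow_mem
        (show (i * j) • v = v by rw [mul_smul, hjv, hiv]) _
    exact hv (h.free hreal hr' hr'2 ho' p (Subgroup.mem_zpowers p)
      (fun e => hr'.one_lt.ne (by rw [← ho', e, orderOf_one])) v hpv)
  have hex : ∀ v : V, v ≠ 0 → ∃ i ∈ I, i • v = v := by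
    intro v hv
    have : Fintype (orbit X v) := Fintype.ofFinite _
    obtain ⟨w, hw⟩ := Equiv.Perm.exists_fixed_point_of_prime (p := 2) (n := 1)
      (α := orbit X v) (σ := MulAction.toPerm i0) (by
        rw [← Nat.card_eq_fintype_card, ← even_iff_two_dvd, Nat.not_even_iff_odd]
        exact h.odd v hv) (by
        refine Equiv.ext fun t => Subtype.ext ?_
        rw [pow_one, pow_two]
        show i0 • i0 • (t : V) = t
        rw [← mul_smul, hi02, one_smul])
    have hw' : i0 • (w : V) = w := congrArg Subtype.val hw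
    have hw0 : (w : V) ≠ 0 := by
      obtain ⟨g, hg⟩ := w.2
      rw [← hg]
      exact fun e => hv (by simpa using congrArg (g⁻¹ • ·) e)
    obtain ⟨c, hc, hcw⟩ := h.trans hy hr hr2 (j := 1) (by rw [pow_one, ho]) hyne (x' := v) hw0
      (mem_orbit_symm.1 w.2)
    refine ⟨c * i0 * c⁻¹, hI.2 ⟨?_, ?_⟩, ?_⟩
    · rw [show c * i0 * c⁻¹ * (c * i0 * c⁻¹) = c * (i0 * i0) * c⁻¹ by group, hi02, mul_one,
        mul_inv_cancel]
    · have hcy : Commute c y := hc
      rw [show c * i0 * c⁻¹ * y * (c * i0 * c⁻¹)⁻¹ = c * (i0 * (c⁻¹ * y * c) * i0⁻¹) * c⁻¹ by group,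
        show c⁻¹ * y * c = y by rw [mul_assoc, ← hcy.eq, inv_mul_cancel_left], hi0y,
        hcy.inv_right.eq, mul_inv_cancel_right]
    · rw [← hcw, mul_smul, inv_smul_smul, mul_smul, hw']
  choose! ι hιI hιfix using hex
  have hcount : 63 = I.card * 7 := by
    have h1 := Finset.card_eq_sum_card_fiberwise (f := ι) (s := (Finset.univ : Finset V).erase 0)
      (t := I) (fun v hv => hιI v (Finset.mem_erase.1 hv).1)
    rw [Finset.card_erase_of_mem (Finset.mem_univ _), Finset.card_univ, ← Nat.card_eq_fintype_card, hd,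
      Finset.sum_congr rfl (g := fun _ => 7) (fun i hi => ?_), Finset.sum_const, smul_eq_mul] at h1
    · simpa using h1
    · have hi1 : i ≠ 1 := fun e => by
        have := (hI.1 hi).2
        rw [e, one_mul, inv_one, mul_one] at this
        have h2 : orderOf y ∣ 2 := orderOf_dvd_of_pow_eq_one (by
          rw [pow_two]; nth_rewrite 2 [this]; rw [mul_inv_cancel])
        rw [ho] at h2
        exact absurd h2 (by decide)
      have e : (((Finset.univ : Finset V).erase 0).filter fun v => ι v = i) =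
          ((Finset.univ : Finset V).filter fun v => v ∈ fixedVecs V {i}).erase 0 := by
        ext v
        simp only [Finset.mem_filter, Finset.mem_erase, Finset.mem_univ, true_and, and_true,
          mem_fixedVecs_singleton]
        exact ⟨fun ⟨hv, hvi⟩ => ⟨hv, hvi ▸ hιfix v hv⟩,
          fun ⟨hv, hvi⟩ => ⟨hv, huniq v hv _ (hιI v hv) _ hi (hιfix v hv) hvi⟩⟩
      rw [e, Finset.card_erase_of_mem (by simp), ← Fintype.card_subtype,
        ← Nat.card_eq_fintype_card]
      show Nat.card (fixedVecs V {i}) - 1 = 7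
      rw [ha i (hI.1 hi).1 hi1]
      norm_num
  have hI9 : I.card = 9 := by omega
  -- the products with `i0`
  have hi0 : i0 ∈ I := hI.2 ⟨hi02, hi0y⟩
  let J : Finset X := I.image fun i => i * i0
  have hJ : J.card = 9 := by
    rw [Finset.card_image_of_injective _ (mul_left_injective i0), hI9]
  have hJreal : ∀ p ∈ J, IsReal p ∧ p * y = y * p ∧ i0 * p * i0⁻¹ = p⁻¹ := by
    intro p hp
    obtain ⟨i, hi, rfl⟩ := Finset.mem_image.1 hp
    have e : i0 * (i * i0) * i0⁻¹ = (i * i0)⁻¹ := by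
      rw [mul_inv_rev, hIinv i hi, hIinv i0 hi0, mul_assoc, mul_assoc i, hi02, mul_one]
    exact ⟨⟨i0, e⟩, hprodC i hi i0 hi0, e⟩
  have horder : ∀ p ∈ J, ∀ r' : ℕ, r'.Prime → r' ∣ orderOf p → r' = 3 := by
    intro p hp r' hr' hrd
    have hr'2 : r' ≠ 2 := fun e => by
      rw [e] at hrd
      exact (Nat.not_even_iff_odd.2 (hodd _ (hJreal p hp).2.1)) (even_iff_two_dvd.2 hrd)
    exact order_three_of_six h hd h3 ((hJreal p hp).1.pow _) hr' hr'2
      (orderOf_pow_orderOf_div (orderOf_pos p).ne' hrd)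
  obtain ⟨p, hpJ, hp9⟩ : ∃ p ∈ J, p ^ 3 ≠ 1 := by
    by_contra hall
    push Not at hall
    obtain ⟨p, hpJ, hpy⟩ : ∃ p ∈ J, p ∉ Subgroup.zpowers y := by
      by_contra hall'
      push Not at hall'
      have := Finset.card_le_card (s := J) (t := (Subgroup.zpowers y : Set X).toFinite.toFinset)
        fun p hp => (Set.Finite.mem_toFinset _).2 (hall' p hp)
      rw [hJ, ← Set.ncard_eq_toFinset_card, ← Nat.card_coe_set_eq] at this
      change 9 ≤ Nat.card (Subgroup.zpowers y) at this
      rw [Nat.card_zpowers, ho] at this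
      omega
    obtain ⟨hpreal, hpyc, hpinv⟩ := hJreal p hpJ
    have hp1 : p ≠ 1 := fun e => hpy (e ▸ one_mem _)
    have hpo : orderOf p = 3 := orderOf_eq_prime (hall p hpJ) hp1
    have hpfree := h.free hpreal Nat.prime_three (by decide) hpo
    have hquad : ∀ (t : X), orderOf t = 3 → (∀ v : V, t • v = v → v = 0) → ∀ v : V, t ^ 2 • v + t • v + v = 0 := by
      intro t ht htf v
      refine htf _ ?_
      rw [smul_add, smul_add, ← mul_smul, ← mul_smul, ← pow_succ', ← pow_two,
        show t ^ (2 + 1) = 1 by rw [show 2 + 1 = orderOf t by rw [ht], pow_orderOf_eq_one], one_smul]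
      abel
    have hy3 : y ^ 3 = 1 := by rw [← ho, pow_orderOf_eq_one]
    -- `p + y` and `p + y⁻¹` are injective
    have hinj : ∀ t : X, t ∈ Subgroup.zpowers y → Commute p t → i0 * t * i0⁻¹ = t⁻¹ → t ^ 3 = 1 →
        ∀ v : V, p • v + t • v = 0 → v = 0 := by
      intro t ht hpt htinv ht3 v hv
      have hpv : p • v = t • v := add_right_cancel (hv.trans (h.char2 _).symm)
      set m := t⁻¹ * p with hm
      have hmv : m • v = v := by rw [hm, mul_smul, hpv, inv_smul_smul]
      have hm1 : m ≠ 1 := fun e => hpy (by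
        rw [hm, inv_mul_eq_one] at e
        rwa [← e])
      have hmreal : IsReal m := ⟨i0, by
        rw [hm, show i0 * (t⁻¹ * p) * i0⁻¹ = (i0 * t * i0⁻¹)⁻¹ * (i0 * p * i0⁻¹) by group, htinv,
          hpinv, inv_inv, mul_inv_rev, inv_inv]
        exact (hpt.inv_left.eq).symm⟩
      have hm3 : m ^ 3 = 1 := by
        rw [hm, hpt.symm.inv_left.mul_pow, inv_pow, ht3, hall p hpJ, inv_one, one_mul]
      have hmo : orderOf m = 3 := orderOf_eq_prime hm3 hm1
      exact h.free hmreal Nat.prime_three (by decide) hmo m (Subgroup.mem_zpowers m) hm1 v hmv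
    obtain ⟨v, hv⟩ := exists_ne (0 : V)
    have hcomp : p • (p • v + y • v) + y⁻¹ • (p • v + y • v) = 0 := by
      have e1 : y⁻¹ = y ^ 2 := inv_eq_of_mul_eq_one_right (by rw [← pow_succ']; exact hy3)
      rw [smul_add, smul_add, ← mul_smul, ← mul_smul, ← mul_smul, inv_smul_smul, ← pow_two,
        show y⁻¹ * p = p * y⁻¹ from ((Commute.inv_left (Commute.symm hpyc)).eq)]
      have h1 := hquad y ho (fun w hw => hfree y (Subgroup.mem_zpowers y) hyne w hw) v
      have h2 := hquad p hpo (fun w hw => hpfree p (Subgroup.mem_zpowers p) hp1 w hw) v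
      rw [mul_smul, mul_smul, e1]
      have h3' : y • v + y ^ 2 • v = v := by
        calc y • v + y ^ 2 • v = (y ^ 2 • v + y • v + v) + v := by
              rw [add_assoc (y ^ 2 • v + y • v), h.char2, add_zero, add_comm]
          _ = v := by rw [h1, zero_add]
      calc p ^ 2 • v + p • y • v + (p • y ^ 2 • v + v)
          = p ^ 2 • v + p • (y • v + y ^ 2 • v) + v := by rw [smul_add]; abel
        _ = 0 := by rw [h3', h2]
    have hw := hinj y⁻¹ (Subgroup.inv_mem _ (Subgroup.mem_zpowers y)) (Commute.inv_right hpyc)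
      (by rw [show i0 * y⁻¹ * i0⁻¹ = (i0 * y * i0⁻¹)⁻¹ by group, hi0y])
      (by rw [inv_pow, hy3, inv_one]) _ hcomp
    exact hv (hinj y (Subgroup.mem_zpowers y) hpyc hi0y hy3 v hw)
  obtain ⟨j, hj⟩ : ∃ j, orderOf p = 3 ^ j :=
    ⟨_, Nat.eq_prime_pow_of_unique_prime_dvd (orderOf_pos p).ne' (fun {q} hq hqd => horder p hpJ q hq hqd)⟩
  have hj2 : 2 ≤ j := by
    by_contra hlt
    refine hp9 (orderOf_dvd_iff_pow_eq_one.1 ?_)
    rw [hj]
    exact (pow_dvd_pow 3 (show j ≤ 1 by omega)).trans (by norm_num)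
  set g := p ^ (3 ^ (j - 2)) with hg
  have hgo : orderOf g = 3 ^ 2 := by
    rw [hg, orderOf_pow_of_dvd (by positivity) (hj ▸ pow_dvd_pow 3 (by omega)), hj,
      Nat.pow_div (by omega) (by norm_num)]
    congr 1
    omega
  have hgreal : IsReal g := (hJreal p hpJ).1.pow _
  refine ⟨g, hgreal, hgo, irredElt_of_free hd (fun z hz hz1 v hv => ?_) fun e he he6 => ?_⟩
  · have h3g : orderOf (g ^ 3) = 3 := by
      rw [orderOf_pow_of_dvd (by norm_num) (by rw [hgo]; norm_num), hgo]
      norm_num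
    have hg3 : g ^ 3 ≠ 1 := fun e => by rw [e, orderOf_one] at h3g; omega
    refine h.free (hgreal.pow 3) Nat.prime_three (by decide) h3g (g ^ 3) (Subgroup.mem_zpowers _) hg3 v ?_
    obtain ⟨i, rfl⟩ : ∃ i : ℕ, g ^ i = z := mem_powers_iff_mem_zpowers.2 hz
    have hmem : g ^ 3 ∈ Subgroup.zpowers (g ^ i) := by
      by_cases h3i : 3 ∣ i
      · obtain ⟨l, rfl⟩ := h3i
        have hl : l.Coprime 3 := ((Nat.Prime.coprime_iff_not_dvd Nat.prime_three).2 fun hl => hz1 (by
          rw [← orderOf_dvd_iff_pow_eq_one, hgo]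
          exact Nat.mul_dvd_mul_left 3 hl)).symm
        have : g ^ 3 ∈ Subgroup.zpowers ((g ^ 3) ^ l) := by
          obtain ⟨t, ht⟩ := exists_pow_eq_self_of_coprime (show l.Coprime (orderOf (g ^ 3)) by rw [h3g]; exact hl)
          exact Eq.mp (congrArg (· ∈ Subgroup.zpowers ((g ^ 3) ^ l)) ht) (Subgroup.pow_mem _ (Subgroup.mem_zpowers _) t)
        rwa [← pow_mul] at this
      · have hl : i.Coprime (orderOf g) := by
          rw [hgo]
          exact (((Nat.Prime.coprime_iff_not_dvd Nat.prime_three).2 h3i).symm).pow_right 2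
        obtain ⟨t, ht⟩ := exists_pow_eq_self_of_coprime hl
        have : g ∈ Subgroup.zpowers (g ^ i) := Eq.mp (congrArg (· ∈ Subgroup.zpowers (g ^ i)) ht) (Subgroup.pow_mem _ (Subgroup.mem_zpowers _) t)
        exact Subgroup.pow_mem _ this 3
    exact (Subgroup.zpowers_le (H := stabilizer X v)).2 hv hmem
  · rw [hgo]
    interval_cases e <;> decide

end Six

theorem exists_real_irred [Nontrivial V] (h : LinHyp X V)
    (hns : ∃ (y : X) (r : ℕ), r.Prime ∧ r ≠ 2 ∧ IsReal y ∧ orderOf y = r) {d : ℕ}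
    (hd : Nat.card V = 2 ^ d) :
    ∃ (g : X) (r j : ℕ), r.Prime ∧ r ≠ 2 ∧ IsReal g ∧ orderOf g = r ^ j ∧ g ≠ 1 ∧ IrredElt V g ∧
      ((orderOf g).Prime ∧ d < orderOf g ∨ d = 6) := by
  obtain ⟨y, r, hr, hr2, hy, ho⟩ := hns
  obtain ⟨s, k, hs, hsy⟩ := hy.two_inverter
  -- an involution
  obtain ⟨w, hw, hw1⟩ : ∃ w : X, w * w = 1 ∧ w ≠ 1 := by
    have hs1 : s ≠ 1 := fun e => by
      rw [e, one_mul, inv_one, mul_one] at hsy
      have h2 : orderOf y ∣ 2 := orderOf_dvd_of_pow_eq_one (by
        rw [pow_two]; nth_rewrite 2 [hsy]; rw [mul_inv_cancel])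
      rw [ho] at h2
      exact hr2 ((Nat.prime_dvd_prime_iff_eq hr Nat.prime_two).1 h2)
    have : Fact (Nat.Prime 2) := ⟨Nat.prime_two⟩
    obtain ⟨i, -, hi⟩ := (Nat.dvd_prime_pow Nat.prime_two).1 (orderOf_dvd_of_pow_eq_one hs)
    have hi0 : i ≠ 0 := fun e => hs1 (orderOf_eq_one_iff.1 (by rw [hi, e, pow_zero]))
    refine ⟨s ^ (orderOf s / 2), ?_, fun e => ?_⟩
    · have h1 := orderOf_pow_orderOf_div (orderOf_pos s).ne' (hi ▸ dvd_pow_self 2 hi0)
      rw [← pow_two]
      have h2 := pow_orderOf_eq_one (s ^ (orderOf s / 2))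
      rwa [h1] at h2
    · have h1 := orderOf_pow_orderOf_div (orderOf_pos s).ne' (hi ▸ dvd_pow_self 2 hi0)
      rw [e, orderOf_one] at h1
      exact absurd h1 (by decide)
  obtain ⟨a, -, hca⟩ := card_addSubgroup hd (fixedVecs V {w})
  have hda : d = a + a := by
    have := h.half hw hw1
    rw [hca, hd, ← pow_add] at this
    exact ((Nat.pow_right_injective le_rfl) this).symm
  have ha : ∀ w : X, w * w = 1 → w ≠ 1 → Nat.card (fixedVecs V {w}) = 2 ^ a := by
    intro w' hw' hw'1
    obtain ⟨a', -, hca'⟩ := card_addSubgroup hd (fixedVecs V {w'})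
    have := h.half hw' hw'1
    rw [hca', hd, ← pow_add] at this
    have := (Nat.pow_right_injective le_rfl) this
    rw [hca', show a' = a by omega]
  have ha0 : 0 < a := by
    rcases Nat.eq_zero_or_pos a with e | e
    · have := fixed_ne_bot (V := V) h.char2 hw
      rw [e, pow_zero, AddSubgroup.card_eq_one] at hca
      exact absurd hca this
    · exact e
  obtain ⟨f, n, hf0, hfa, hn, hnorb⟩ := exists_blockCount h hd ha hw hw1
  by_cases h6 : d = 6
  · subst h6
    have ha3 : a = 3 := by omega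
    have h3n : 3 ∣ n := by
      subst ha3
      interval_cases f
      · exact ⟨21, by omega⟩
      · exact ⟨7, by omega⟩
      · exact ⟨3, by omega⟩
    obtain ⟨g, hg, hgo, hirr⟩ := exists_real_nine h hd (fun x hx => h3n.trans (hnorb x hx))
      ⟨y, r, hr, hr2, hy, ho⟩ (ha3 ▸ ha)
    exact ⟨g, 3, 2, Nat.prime_three, by decide, hg, hgo, fun e => by rw [e, orderOf_one] at hgo; norm_num at hgo,
      hirr, Or.inr rfl⟩
  · obtain ⟨q, hq⟩ := exists_isPPD (a := 2) (n := d) (by norm_num) (by omega) (fun e => h6 e.2)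
      (fun ⟨_, m, hm⟩ => by
        rcases m with _ | _ | m
        · norm_num at hm
        · norm_num at hm
        · have : 4 ≤ 2 ^ (m + 1 + 1) := le_trans (by norm_num) (Nat.pow_le_pow_right two_pos (show 2 ≤ m + 1 + 1 by omega))
          omega)
    have hqp : q.Prime := hq.1
    have := Fact.mk hqp
    have hq2 : q ≠ 2 := fun e => hq.not_dvd_base (by norm_num) (by omega) (e ▸ dvd_rfl)
    have hqn : q ∣ n := by
      have h1 : q ∣ n * (2 ^ f - 1) := hn ▸ hq.2.1
      exact (hqp.dvd_mul.1 h1).resolve_right (hq.2.2 f hf0 (by omega))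
    obtain ⟨g, hg, hgo, hirr⟩ := exists_real_ppd h hd hq2 hq.2.2
      (fun x hx => hqn.trans (hnorb x hx)) hy hr hr2 ho
    exact ⟨g, q, 1, hqp, hq2, hg, by rw [pow_one, hgo], fun e => by
      rw [e, orderOf_one] at hgo; exact hqp.one_lt.ne hgo, hirr,
      Or.inl ⟨by rw [hgo]; exact hqp, by rw [hgo]; exact hq.lt (by norm_num) (by omega)⟩⟩

end CfsgLib.RealGraph81
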