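import Mathlib
import Cfsg.Agent.Lib.RealGraph81.Six

/-!
A perfect group with an irreducible real element as above has no normal elementary abelian subgroup
of odd exponent other than the trivial one.
-/

set_option autoImplicit false

namespace CfsgLib.RealGraph81

open MulAction

universe u v

variable {X : Type u} [Group X] [Finite X] {V : Type v} [AddCommGroup V] [DistribMulAction X V]
  [Finite V] [FaithfulSMul X V]

/-- A perfect group has trivial image in an abelian group. -/
theorem map_eq_one_of_perfect {X : Type u} [Group X] (hperf : commutator X = ⊤) {M : Type v}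
    [CommGroup M] (f : X →* M) (x : X) : f x = 1 :=
  MonoidHom.mem_ker.1 ((hperf ▸ Abelianization.commutator_subset_ker f : (⊤ : Subgroup X) ≤ f.ker)
    (Subgroup.mem_top x))

/-- A perfect group has trivial image in a solvable group. -/
theorem map_eq_one_of_solvable {X : Type u} [Group X] (hperf : commutator X = ⊤) {M : Type v}
    [Group M] [Group.IsSolvable M] (f : X →* M) (x : X) : f x = 1 := by
  obtain ⟨n, hn⟩ := (Group.isSolvable_def M).1 inferInstance
  have htop : ∀ k, derivedSeries X k = ⊤ := by
    intro k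
    induction k with
    | zero => rfl
    | succ k ih => rw [derivedSeries_succ, ih]; exact hperf
  have h1 := map_derivedSeries_le_derivedSeries f n
    (Subgroup.mem_map_of_mem f ((htop n).symm ▸ Subgroup.mem_top x))
  rwa [hn, Subgroup.mem_bot] at h1

theorem perm_solvable_of_card_le_three {α : Type v} [Finite α] (h : Nat.card α ≤ 3) :
    Group.IsSolvable (Equiv.Perm α) := by
  classical
  have : Fintype α := Fintype.ofFinite α
  rw [Nat.card_eq_fintype_card] at h
  have hs4 : Group.IsSolvable (Equiv.Perm (Fin (Fintype.card α))) := by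
    rw [Group.isSolvable_def]
    refine ⟨2, ?_⟩
    have h1 : derivedSeries (Equiv.Perm (Fin (Fintype.card α))) 1 ≤
        (Equiv.Perm.sign : Equiv.Perm (Fin (Fintype.card α)) →* ℤˣ).ker := by
      rw [derivedSeries_one]
      exact Abelianization.commutator_subset_ker _
    rw [derivedSeries_succ, eq_bot_iff]
    refine Subgroup.commutator_le.2 fun a ha b hb => Subgroup.mem_bot.2 ?_
    rw [commutatorElement_eq_one_iff_mul_comm]
    have key : ∀ (n : ℕ), n ≤ 3 → ∀ a b : Equiv.Perm (Fin n),
        Equiv.Perm.sign a = 1 → Equiv.Perm.sign b = 1 → a * b = b * a := by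
      intro n hn
      interval_cases n <;> decide
    exact key _ h a b (h1 ha) (h1 hb)
  exact Group.isSolvable_of_surjective (f := (Fintype.equivFin α).symm.permCongrHom.toMonoidHom)
    (Fintype.equivFin α).symm.permCongrHom.surjective

theorem elemAbelian_le_center (h2 : ∀ v : V, v + v = 0) [Nontrivial V] (hperf : commutator X = ⊤)
    {d : ℕ} (hd : Nat.card V = 2 ^ d) {g : X} (hirr : IrredElt V g)
    (hg : (orderOf g).Prime ∧ d < orderOf g ∨ d = 6) {A : Subgroup X} (hAn : A.Normal)
    (hAc : ∀ a ∈ A, ∀ b ∈ A, a * b = b * a) {r : ℕ} (hr : r.Prime) (hr2 : r ≠ 2)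
    (hAr : ∀ a ∈ A, a ^ r = 1) : A ≤ Subgroup.center X := by
  classical
  by_cases hA1 : A = ⊥
  · rw [hA1]; exact bot_le
  have : Fintype V := Fintype.ofFinite V
  -- no vector is fixed by the whole of `A`
  have hFA : fixedVecs V (A : Set X) = ⊥ := by
    refine (hirr _ fun w hw => smul_mem_fixedVecs (fun a ha => ?_) hw).resolve_right fun htop => hA1 ?_
    · simpa using hAn.conj_mem a ha g⁻¹
    · refine eq_bot_iff.2 fun a ha => Subgroup.mem_bot.2 (eq_of_smul_eq_smul fun v : V => ?_)
      rw [one_smul]
      exact (htop ▸ AddSubgroup.mem_top v : v ∈ fixedVecs V (A : Set X)) a ha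
  let P : Subgroup X → Prop := fun E => E ≤ A ∧ fixedVecs V (E : Set X) ≠ ⊥
  have hfixmono : ∀ {E E' : Subgroup X}, E ≤ E' → fixedVecs V (E' : Set X) ≤ fixedVecs V (E : Set X) :=
    fun hle v hv s hs => hv s (hle hs)
  -- at a maximal member the quotient is cyclic
  have hcyc : ∀ E, Maximal P E → ∀ b ∈ A, b ∉ E → A ≤ E ⊔ Subgroup.zpowers b := by
    intro E hE b hb hbE a ha
    by_contra haE
    obtain ⟨v, hv, hv0⟩ : ∃ v, v ∈ fixedVecs V (E : Set X) ∧ v ≠ 0 := by
      by_contra hcon
      push Not at hcon
      exact hE.1.2 (eq_bot_iff.2 fun v hv => (AddSubgroup.mem_bot).2 (hcon v hv))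
    -- elements of `A` outside `E` have no fixed vectors in the fixed space of `E`
    have hfree : ∀ c ∈ A, c ∉ E → ∀ w ∈ fixedVecs V (E : Set X), c • w = w → w = 0 := by
      intro c hc hcE w hw hcw
      by_contra hw0
      have hP : P (E ⊔ Subgroup.zpowers c) := by
        refine ⟨sup_le hE.1.1 (Subgroup.zpowers_le.2 hc), fun h0 => hw0 ((AddSubgroup.mem_bot).1 (h0 ▸ ?_))⟩
        intro s hs
        have hle : E ⊔ Subgroup.zpowers c ≤ stabilizer X w :=
          sup_le (fun e he => hw e he) (Subgroup.zpowers_le.2 hcw)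
        exact hle hs
      have := hE.le_of_ge hP le_sup_left
      exact hcE (this (Subgroup.mem_sup_right (Subgroup.mem_zpowers c)))
    have hAE : ∀ c ∈ A, ∀ w ∈ fixedVecs V (E : Set X), c • w ∈ fixedVecs V (E : Set X) := fun c hc w hw =>
      smul_mem_fixedVecs (fun e he => by
        have := hAc c hc e (hE.1.1 he)
        show c⁻¹ * e * c ∈ (E : Set X)
        rw [mul_assoc, ← this, inv_mul_cancel_left]
        exact he) hw
    let S : X → V := fun c => ∑ i ∈ Finset.range r, c ^ i • v
    have hS0 : ∀ c ∈ A, c ∉ E → S c = 0 := by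
      intro c hc hcE
      have hSmem : S c ∈ fixedVecs V (E : Set X) :=
        AddSubgroup.sum_mem _ fun i _ => hAE _ (Subgroup.pow_mem _ hc i) v hv
      refine hfree c hc hcE _ hSmem ?_
      show c • ∑ i ∈ Finset.range r, c ^ i • v = ∑ i ∈ Finset.range r, c ^ i • v
      rw [Finset.smul_sum]
      simp only [← mul_smul, ← pow_succ']
      have e1 := Finset.sum_range_succ' (fun i => c ^ i • v) r
      rw [Finset.sum_range_succ, hAr c hc, pow_zero] at e1
      exact (add_right_cancel e1).symm
    have hbj : ∀ j ∈ Finset.range r, a * b ^ j ∉ E := by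
      intro j _ hmem
      refine haE ?_
      have := Subgroup.mul_mem _ (Subgroup.mem_sup_left (T := Subgroup.zpowers b) hmem)
        (Subgroup.inv_mem _ (Subgroup.mem_sup_right (S := E) (Subgroup.pow_mem _ (Subgroup.mem_zpowers b) j)))
      rwa [mul_inv_cancel_right] at this
    have htot : ∑ j ∈ Finset.range r, S (a * b ^ j) = 0 :=
      Finset.sum_eq_zero fun j hj => hS0 _ (Subgroup.mul_mem _ ha (Subgroup.pow_mem _ hb j)) (hbj j hj)
    have hcalc : ∑ j ∈ Finset.range r, S (a * b ^ j) = r • v := by
      rw [Finset.sum_comm]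
      rw [Finset.sum_eq_single_of_mem 0 (Finset.mem_range.2 hr.pos)]
      · simp
      · intro i hi hi0
        have hri : ¬ r ∣ i := fun hd => hi0 (Nat.eq_zero_of_dvd_of_lt hd (Finset.mem_range.1 hi))
        have hbi : b ^ i ∉ E := by
          intro hmem
          refine hbE ?_
          have : Fact r.Prime := ⟨hr⟩
          have hb1 : b ≠ 1 := fun e => hbE (e ▸ E.one_mem)
          obtain ⟨t, ht⟩ := exists_pow_eq_self_of_coprime (show i.Coprime (orderOf b) by
            rw [orderOf_eq_prime (hAr b hb) hb1]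
            exact ((Nat.Prime.coprime_iff_not_dvd hr).2 hri).symm)
          rw [← ht]
          exact E.pow_mem hmem t
        have e : ∀ j : ℕ, (a * b ^ j) ^ i • v = a ^ i • (b ^ i) ^ j • v := fun j => by
          rw [← mul_smul, (show Commute a (b ^ j) from hAc a ha _ (Subgroup.pow_mem _ hb j)).mul_pow,
            ← pow_mul, ← pow_mul, mul_comm i j]
        simp only [e]
        rw [← Finset.smul_sum, show ∑ j ∈ Finset.range r, (b ^ i) ^ j • v = S (b ^ i) from rfl,
          hS0 _ (Subgroup.pow_mem _ hb i) hbi, smul_zero]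
    rw [hcalc] at htot
    obtain ⟨k, hk⟩ := hr.odd_of_ne_two hr2
    rw [hk, succ_nsmul, mul_nsmul, two_nsmul, h2, nsmul_zero, zero_add] at htot
    exact hv0 htot
  -- the finite set of maximal members
  let ℰ := {E : Subgroup X // Maximal P E}
  obtain ⟨E₀, -, hE₀⟩ := Finite.exists_le_maximal (p := P) (a := (⊥ : Subgroup X)) ⟨bot_le, by
    intro h0
    obtain ⟨v, hv⟩ := exists_ne (0 : V)
    refine hv ((AddSubgroup.mem_bot).1 (h0 ▸ ?_))
    intro s hs
    rw [SetLike.mem_coe, Subgroup.mem_bot] at hs
    rw [hs, one_smul]⟩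
  have hconj : ∀ (x : X) (E : Subgroup X), P E → P (E.map (MulAut.conj x).toMonoidHom) := by
    intro x E hE
    refine ⟨?_, fun h0 => hE.2 (eq_bot_iff.2 fun v hv => ?_)⟩
    · rintro _ ⟨e, he, rfl⟩
      exact hAn.conj_mem e (hE.1 he) x
    · have h1 : x • v ∈ fixedVecs V ((E.map (MulAut.conj x).toMonoidHom : Subgroup X) : Set X) := by
        rintro _ ⟨e, he, rfl⟩
        show (x * e * x⁻¹) • x • v = x • v
        rw [mul_smul, inv_smul_smul, mul_smul, hv e he]
      rw [h0, AddSubgroup.mem_bot, smul_eq_zero_iff_eq] at h1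
      exact (AddSubgroup.mem_bot).2 h1
  have hcj : ∀ (x : X) (E : Subgroup X),
      (E.map (MulAut.conj x⁻¹).toMonoidHom).map (MulAut.conj x).toMonoidHom = E := fun x E => by
    rw [Subgroup.map_map]
    convert Subgroup.map_id E using 2
    exact MonoidHom.ext fun e => by simp [mul_assoc]
  have hmaxconj : ∀ (x : X) (E : Subgroup X), Maximal P E → Maximal P (E.map (MulAut.conj x).toMonoidHom) := by
    intro x E hE
    refine ⟨hconj x E hE.1, fun F hF hle => ?_⟩
    have h1 : E ≤ F.map (MulAut.conj x⁻¹).toMonoidHom := by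
      refine le_trans (le_of_eq ?_) (Subgroup.map_mono hle)
      have := hcj x⁻¹ E
      rw [inv_inv] at this
      exact this.symm
    have h2' := Subgroup.map_mono (f := (MulAut.conj x).toMonoidHom) (hE.le_of_ge (hconj x⁻¹ F hF) h1)
    rwa [hcj] at h2'
  let φ : X →* Equiv.Perm ℰ :=
    MonoidHom.mk' (fun x =>
      { toFun := fun E => ⟨E.1.map (MulAut.conj x).toMonoidHom, hmaxconj x _ E.2⟩
        invFun := fun E => ⟨E.1.map (MulAut.conj x⁻¹).toMonoidHom, hmaxconj x⁻¹ _ E.2⟩
        left_inv := fun E => Subtype.ext (by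
          have := hcj x⁻¹ E.1
          rw [inv_inv] at this
          exact this)
        right_inv := fun E => Subtype.ext (hcj x E.1) })
      fun x y => Equiv.ext fun E => Subtype.ext (by
        show E.1.map _ = (E.1.map _).map _
        rw [Subgroup.map_map]
        congr 1
        exact MonoidHom.ext fun e => by simp [mul_assoc])
  -- the fixed spaces are independent
  have hdisj : ∀ E E' : ℰ, E ≠ E' →
      fixedVecs V (E.1 : Set X) ⊓ fixedVecs V (E'.1 : Set X) = ⊥ := by
    intro E E' hne
    by_contra h0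
    have hP : P (E.1 ⊔ E'.1) := by
      refine ⟨sup_le E.2.1.1 E'.2.1.1, fun h1 => h0 (eq_bot_iff.2 fun v hv => h1 ▸ ?_)⟩
      intro s hs
      have hle : E.1 ⊔ E'.1 ≤ stabilizer X v :=
        sup_le (fun e he => hv.1 e he) (fun e he => hv.2 e he)
      exact hle hs
    exact hne (Subtype.ext ((le_antisymm le_sup_left (E.2.le_of_ge hP le_sup_left)).trans
      (le_antisymm le_sup_right (E'.2.le_of_ge hP le_sup_right)).symm))
  have hsize : ∀ E : ℰ, 4 ≤ Nat.card (fixedVecs V (E.1 : Set X)) := by
    intro E
    obtain ⟨e, -, he⟩ := card_addSubgroup hd (fixedVecs V (E.1 : Set X))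
    rcases (show e = 0 ∨ e = 1 ∨ 2 ≤ e by omega) with rfl | rfl | h2e
    · rw [pow_zero, AddSubgroup.card_eq_one] at he
      exact absurd he E.2.1.2
    · exfalso
      obtain ⟨v, hv, hv0⟩ : ∃ v, v ∈ fixedVecs V (E.1 : Set X) ∧ v ≠ 0 := by
        by_contra hcon
        push Not at hcon
        exact E.2.1.2 (eq_bot_iff.2 fun v hv => (AddSubgroup.mem_bot).2 (hcon v hv))
      have : v ∈ fixedVecs V (A : Set X) := by
        intro a ha
        have hav : a • v ∈ fixedVecs V (E.1 : Set X) := smul_mem_fixedVecs (fun e he => by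
          have := hAc a ha e (E.2.1.1 he)
          show a⁻¹ * e * a ∈ (E.1 : Set X)
          rw [mul_assoc, ← this, inv_mul_cancel_left]
          exact he) hv
        rcases eq_or_ne (a • v) v with h | h
        · exact h
        · exfalso
          have h3 : 3 ≤ Nat.card (fixedVecs V (E.1 : Set X)) := by
            have hz : a • v ≠ 0 := fun e0 => hv0 ((smul_eq_zero_iff_eq a).1 e0)
            have h3' : ({0, v, a • v} : Set V).ncard = 3 :=
              Set.ncard_eq_three.2 ⟨0, v, a • v, hv0.symm, hz.symm, h.symm, rfl⟩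
            rw [← h3']
            show _ ≤ Nat.card ((fixedVecs V (E.1 : Set X) : Set V) : Type v)
            rw [Nat.card_coe_set_eq]
            refine Set.ncard_le_ncard ?_ (Set.toFinite _)
            rintro x (rfl | rfl | rfl)
            exacts [zero_mem _, hv, hav]
          rw [he] at h3
          norm_num at h3
      rw [hFA, AddSubgroup.mem_bot] at this
      exact hv0 this
    · rw [he]
      exact le_trans (by norm_num : 4 ≤ 2 ^ 2) (Nat.pow_le_pow_right two_pos h2e)
  have : Fintype ℰ := Fintype.ofFinite ℰ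
  have hbound : 2 * Nat.card ℰ ≤ d := by
    let Φ : (∀ E : ℰ, fixedVecs V (E.1 : Set X)) → V := fun w => ∑ E, (w E : V)
    have hinj : Function.Injective Φ := by
      intro w w' hww
      funext E
      refine Subtype.ext (sub_eq_zero.1 ?_)
      set z : ℰ → V := fun E => (w E : V) - w' E with hz
      have hzmem : ∀ E : ℰ, z E ∈ fixedVecs V (E.1 : Set X) := fun E => AddSubgroup.sub_mem _ (w E).2 (w' E).2
      have hsum : ∑ E, z E = 0 := by
        rw [hz]
        simp only [Finset.sum_sub_distrib]
        exact sub_eq_zero.2 hww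
      have : Fintype E.1 := Fintype.ofFinite _
      let π : V →+ V := ∑ e : E.1, DistribSMul.toAddMonoidHom V (e : X)
      have hπ : ∀ u, π u = ∑ e : E.1, (e : X) • u := fun u => AddMonoidHom.finsetSum_apply _ _ _
      have hoddE : Odd (Fintype.card E.1) := by
        rw [← Nat.card_eq_fintype_card, ← Nat.not_even_iff_odd, even_iff_two_dvd]
        intro h2E
        obtain ⟨t, ht⟩ := @exists_prime_orderOf_dvd_card' E.1 _ _ 2 ⟨Nat.prime_two⟩ h2E
        have := orderOf_dvd_of_pow_eq_one (show t ^ r = 1 from Subtype.ext (hAr t (E.2.1.1 t.2)))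
        rw [ht] at this
        exact hr2 ((Nat.prime_dvd_prime_iff_eq Nat.prime_two hr).1 this).symm
      have h1 : π (∑ F, z F) = z E := by
        rw [map_sum, Finset.sum_eq_single E]
        · rw [hπ, Finset.sum_congr rfl (g := fun _ => z E) (fun (e : E.1) _ => hzmem E (e : X) e.2), Finset.sum_const,
            Finset.card_univ]
          obtain ⟨k, hk⟩ := hoddE
          rw [hk, succ_nsmul, mul_nsmul, two_nsmul, h2, nsmul_zero, zero_add]
        · intro F _ hFE
          have hmem : π (z F) ∈ fixedVecs V (E.1 : Set X) ⊓ fixedVecs V (F.1 : Set X) := by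
            refine ⟨fun e he => ?_, fun e he => ?_⟩
            · rw [hπ, Finset.smul_sum]
              simp only [← mul_smul]
              exact Fintype.sum_equiv (Equiv.mulLeft (⟨e, he⟩ : E.1))
                (fun t => (e * (t : X)) • z F) (fun t => (t : X) • z F) fun t => rfl
            · rw [hπ, Finset.smul_sum]
              refine Finset.sum_congr rfl fun t _ => ?_
              rw [← mul_smul, hAc e (F.2.1.1 he) t (E.2.1.1 t.2), mul_smul, hzmem F e he]
          rw [hdisj E F (Ne.symm hFE), AddSubgroup.mem_bot] at hmem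
          exact hmem
        · intro hE
          exact absurd (Finset.mem_univ E) hE
      rw [hsum, map_zero] at h1
      exact h1.symm
    have h1 := Nat.card_le_card_of_injective Φ hinj
    rw [Nat.card_pi, hd] at h1
    have h2' : 4 ^ Nat.card ℰ ≤ 2 ^ d := by
      refine le_trans ?_ h1
      rw [Nat.card_eq_fintype_card, ← Finset.card_univ]
      exact Finset.pow_card_le_prod _ _ _ fun E _ => hsize E
    rw [show (4 : ℕ) = 2 ^ 2 by rfl, ← pow_mul] at h2'
    exact (Nat.pow_le_pow_iff_right (by norm_num)).1 h2'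
  -- `g` fixes every maximal member
  have hgfix : φ g = 1 := by
    rcases hg with ⟨hq, hdq⟩ | h6
    · by_contra hne
      have := Fact.mk hq
      have ho : orderOf (φ g) = orderOf g := orderOf_eq_prime (by rw [← map_pow, pow_orderOf_eq_one, map_one]) hne
      have h1 := orderOf_dvd_natCard (φ g)
      rw [ho, Nat.card_perm] at h1
      have := hq.dvd_factorial.1 h1
      omega
    · have : Group.IsSolvable (Equiv.Perm ℰ) := perm_solvable_of_card_le_three (by omega)
      exact map_eq_one_of_solvable hperf φ g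
  -- hence the maximal member is trivial and `A` is cyclic
  have hfixE : E₀.map (MulAut.conj g).toMonoidHom = E₀ :=
    congrArg Subtype.val (Equiv.ext_iff.1 hgfix ⟨E₀, hE₀⟩)
  have hE₀bot : E₀ = ⊥ := by
    have htop : fixedVecs V (E₀ : Set X) = ⊤ := (hirr _ fun w hw => smul_mem_fixedVecs (fun e he => by
      rw [← hfixE] at he
      obtain ⟨e', he', rfl⟩ := he
      show g⁻¹ * (g * e' * g⁻¹) * g ∈ (E₀ : Set X)
      simpa [mul_assoc] using he') hw).resolve_left hE₀.1.2
    refine eq_bot_iff.2 fun e he => Subgroup.mem_bot.2 (eq_of_smul_eq_smul fun v : V => ?_)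
    rw [one_smul]
    exact (htop ▸ AddSubgroup.mem_top v : v ∈ fixedVecs V (E₀ : Set X)) e he
  obtain ⟨b, hb, hb1⟩ := A.ne_bot_iff_exists_ne_one.1 hA1 |> fun ⟨b, hb⟩ =>
    (⟨(b : X), b.2, fun e => hb (Subtype.ext e)⟩ : ∃ b ∈ A, b ≠ 1)
  have hAb : A ≤ Subgroup.zpowers b := by
    have := hcyc E₀ hE₀ b hb (by rw [hE₀bot, Subgroup.mem_bot]; exact hb1)
    rwa [hE₀bot, bot_sup_eq] at this
  have hAz : A = Subgroup.zpowers b := le_antisymm hAb (Subgroup.zpowers_le.2 hb)
  have hcy : IsCyclic A := by rw [hAz]; infer_instance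
  -- conjugation on a cyclic group is an abelian action
  let ψ : X →* MulAut A :=
    MonoidHom.mk' (fun x =>
      { toFun := fun a => ⟨x * a * x⁻¹, hAn.conj_mem a a.2 x⟩
        invFun := fun a => ⟨x⁻¹ * a * x, by simpa using hAn.conj_mem a a.2 x⁻¹⟩
        left_inv := fun a => Subtype.ext (by simp [mul_assoc])
        right_inv := fun a => Subtype.ext (by simp [mul_assoc])
        map_mul' := fun a c => Subtype.ext (by simp [mul_assoc]) })
      fun x y => MulEquiv.ext fun a => Subtype.ext (by simp [mul_assoc])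
  intro a ha
  rw [Subgroup.mem_center_iff]
  intro x
  let e := (IsCyclic.mulAutMulEquiv (G := A)).toMonoidHom.comp ψ
  have h1 : e x = 1 := map_eq_one_of_perfect hperf e x
  have h1' : ψ x = 1 := (IsCyclic.mulAutMulEquiv (G := A)).injective (h1.trans (map_one _).symm)
  have h2' := congrArg Subtype.val (DFunLike.congr_fun h1' ⟨a, ha⟩)
  change x * a * x⁻¹ = a at h2'
  exact mul_inv_eq_iff_eq_mul.1 h2'

end CfsgLib.RealGraph81
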