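import Mathlib

/-!
A spanning subset of a vector space over the field with two elements whose sums of two distinct
members cover a linear image of it uniformly consists of all non-zero vectors.
-/

set_option autoImplicit false

namespace CfsgLib.RealGraph81

/-- The sign of a bit. -/
def bitSign (z : ZMod 2) : ℤ := if z = 0 then 1 else -1

theorem bitSign_add : ∀ a b : ZMod 2, bitSign (a + b) = bitSign a * bitSign b := by decide

theorem bitSign_abs : ∀ a : ZMod 2, bitSign a = 1 ∨ bitSign a = -1 := by decide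

theorem bitSign_le (a : ZMod 2) : bitSign a ≤ 1 := by
  rcases bitSign_abs a with h | h <;> rw [h] <;> norm_num

theorem periodic_values {M : ℤ} (hM : 3 ≤ M) {S : Finset ℤ} (hle : ∀ x ∈ S, x < M)
    (hpre : ∀ x ∈ S, ∃ u ∈ S, u * u - M = (M - 1) * x) : ∀ x ∈ S, x = -1 := by
  have hlow : ∀ x ∈ S, -1 ≤ x := by
    intro x hx
    obtain ⟨u, -, hu⟩ := hpre x hx
    by_contra h
    nlinarith [mul_self_nonneg u, mul_le_mul_of_nonneg_left (show x ≤ -2 by omega) (show 0 ≤ M - 1 by omega)]
  intro x hx
  obtain ⟨v, hv, hvmax⟩ := S.exists_max_image id ⟨x, hx⟩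
  simp only [id] at hvmax
  have hv0 : v ≤ 0 := by
    by_contra h
    obtain ⟨u, hu, hue⟩ := hpre v hv
    have h1 : u * u ≤ v * v := by
      have := hlow u hu
      have := hvmax u hu
      rcases le_or_gt 0 u with h' | h'
      · exact mul_le_mul (by omega) (by omega) h' (by omega)
      · obtain rfl : u = -1 := by omega
        nlinarith
    have := hle v hv
    nlinarith [mul_pos (show 0 < M - v by omega) (show 0 < v + 1 by omega)]
  have := hlow x hx
  have := hvmax x hx
  rcases (show x = -1 ∨ x = 0 by omega) with h | h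
  · exact h
  · exfalso
    obtain ⟨u, hu, hue⟩ := hpre x hx
    have := hlow u hu
    have := hvmax u hu
    rcases (show u = -1 ∨ u = 0 by omega) with h' | h' <;> subst h' <;> subst h <;> omega

variable {V : Type*} [AddCommGroup V] [Finite V]

theorem full_of_sums (h2 : ∀ v : V, v + v = 0) (O : Finset V) (hM : 3 ≤ O.card)
    (h0 : (0 : V) ∉ O) (hspan : AddSubgroup.closure (O : Set V) = ⊤) (T : V →+ V)
    (hT : Function.Bijective T)
    (hin : ∀ a ∈ O, ∀ b ∈ O, a ≠ b → ∃ o ∈ O, T o = a + b)
    (hcount : ∀ o ∈ O, Set.ncard {a : V | a ∈ O ∧ T o + a ∈ O} = O.card - 1) :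
    ∀ v : V, v ≠ 0 → v ∈ O := by
  classical
  have : Fintype V := Fintype.ofFinite V
  letI : Module (ZMod 2) V := AddCommGroup.zmodModule (fun v => by rw [two_nsmul]; exact h2 v)
  let Φ := Module.Dual (ZMod 2) V
  have : Finite Φ := Finite.of_injective (fun φ : Φ => (φ : V → ZMod 2)) DFunLike.coe_injective
  have : Fintype Φ := Fintype.ofFinite Φ
  let Tl : V →ₗ[ZMod 2] V := T.toZModLinearMap 2
  have hTl : ∀ v, Tl v = T v := fun v => rfl
  let η : Φ → ℤ := fun φ => ∑ a ∈ O, bitSign (φ a)
  have hzero : ∀ v : V, T v = 0 → v = 0 := fun v hv => hT.1 (by rw [hv, map_zero])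
  have key : ∀ φ : Φ, η φ * η φ = O.card + ((O.card : ℤ) - 1) * η (φ.comp Tl) := by
    intro φ
    have hsplit : η φ * η φ = ∑ a ∈ O, ∑ b ∈ O, bitSign (φ (a + b)) := by
      rw [Finset.sum_mul_sum]
      simp only [map_add, bitSign_add]
    have hinner : ∀ a ∈ O, ∑ b ∈ O, bitSign (φ (a + b)) =
        1 + ∑ o ∈ O.filter (fun o => T o + a ∈ O), bitSign (φ (T o)) := by
      intro a ha
      rw [← Finset.sum_erase_add _ _ ha, h2, map_zero, show bitSign 0 = 1 from rfl, add_comm]
      congr 1
      symm
      refine Finset.sum_bij (fun o _ => T o + a) ?_ ?_ ?_ ?_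
      · intro o ho
        rw [Finset.mem_filter] at ho
        refine Finset.mem_erase.2 ⟨fun e => h0 ?_, ho.2⟩
        rw [← hzero o (by simpa using e)]; exact ho.1
      · intro o _ o' _ e
        exact hT.1 (add_right_cancel e)
      · intro b hb
        obtain ⟨hba, hb⟩ := Finset.mem_erase.1 hb
        obtain ⟨o, ho, hoT⟩ := hin b hb a ha hba
        have e : T o + a = b := by rw [hoT, add_assoc, h2, add_zero]
        exact ⟨o, Finset.mem_filter.2 ⟨ho, by rw [e]; exact hb⟩, e⟩
      · intro o _
        rw [add_comm a, add_assoc, h2, add_zero]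
    rw [hsplit, Finset.sum_congr rfl hinner, Finset.sum_add_distrib]
    simp only [Finset.sum_const, nsmul_eq_mul, mul_one, Finset.sum_filter]
    rw [Finset.sum_comm, Finset.mul_sum]
    congr 1
    refine Finset.sum_congr rfl fun o ho => ?_
    rw [← Finset.sum_filter, Finset.sum_const, nsmul_eq_mul]
    congr 1
    have h := hcount o ho
    rw [show {a : V | a ∈ O ∧ T o + a ∈ O} = ((O.filter fun a => T o + a ∈ O : Finset V) : Set V) by
      ext; simp, Set.ncard_coe_finset] at h
    rw [h, Nat.cast_sub (by omega)]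
    simp
  let S : Finset ℤ := ((Finset.univ : Finset Φ).filter (· ≠ 0)).image η
  have hS : ∀ x ∈ S, x = -1 := by
    refine periodic_values (M := (O.card : ℤ)) (by exact_mod_cast hM) ?_ ?_
    · intro x hx
      obtain ⟨φ, hφ, rfl⟩ := Finset.mem_image.1 hx
      rw [Finset.mem_filter] at hφ
      refine lt_of_le_of_ne ((Finset.sum_le_sum fun a _ => bitSign_le (φ a)).trans (by simp)) ?_
      intro e
      refine hφ.2 ?_
      have hall : ∀ a ∈ O, bitSign (φ a) = 1 :=
        (Finset.sum_eq_sum_iff_of_le fun a _ => bitSign_le (φ a)).1 (by simpa [η] using e)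
      have hle : AddSubgroup.closure (O : Set V) ≤ φ.toAddMonoidHom.ker :=
        (AddSubgroup.closure_le _).2 fun a ha => by
          have h := hall a ha
          show φ a = 0
          by_contra hne
          rw [bitSign, if_neg hne] at h
          omega
      rw [hspan] at hle
      exact LinearMap.ext fun v => hle (AddSubgroup.mem_top v)
    · intro x hx
      obtain ⟨φ, hφ, rfl⟩ := Finset.mem_image.1 hx
      rw [Finset.mem_filter] at hφ
      let e : V ≃ₗ[ZMod 2] V := LinearEquiv.ofBijective Tl hT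
      refine ⟨η (φ.comp e.symm.toLinearMap), Finset.mem_image_of_mem _
        (Finset.mem_filter.2 ⟨Finset.mem_univ _, fun h => hφ.2 ?_⟩), ?_⟩
      · refine LinearMap.ext fun v => ?_
        have := LinearMap.congr_fun h (e v)
        simpa using this
      · rw [key]
        have : (φ.comp e.symm.toLinearMap).comp Tl = φ := LinearMap.ext fun v => by
          show φ (e.symm (e v)) = φ v
          rw [LinearEquiv.symm_apply_apply]
        rw [this]
        ring
  -- the sum of all periods vanishes
  have hflip : ∀ a : V, a ≠ 0 → ∑ φ : Φ, bitSign (φ a) = 0 := by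
    intro a ha
    obtain ⟨φ₀, hφ₀⟩ := not_forall.1 fun h => ha ((Module.forall_dual_apply_eq_zero_iff (ZMod 2) a).1 h)
    have h1 : φ₀ a = 1 := (show ∀ z : ZMod 2, z ≠ 0 → z = 1 by decide) _ hφ₀
    have hh : ∑ φ : Φ, bitSign (φ a) = ∑ φ : Φ, -bitSign (φ a) := by
      refine Fintype.sum_equiv (Equiv.addRight φ₀) _ _ fun φ => ?_
      show bitSign (φ a) = -bitSign (φ a + φ₀ a)
      rw [bitSign_add, h1, show bitSign 1 = -1 from rfl]
      ring
    rw [Finset.sum_neg_distrib] at hh
    omega
  have htot : ∑ φ : Φ, η φ = 0 := by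
    rw [Finset.sum_comm]
    exact Finset.sum_eq_zero fun a ha => hflip a fun e => h0 (e ▸ ha)
  rw [← Finset.sum_erase_add _ _ (Finset.mem_univ (0 : Φ))] at htot
  have h1 : η 0 = O.card := by
    have h' : ∀ a ∈ O, bitSign ((0 : Φ) a) = 1 := fun a _ => by
      have e : ((0 : Φ) a) = 0 := LinearMap.zero_apply a
      rw [e]; rfl
    show ∑ a ∈ O, bitSign ((0 : Φ) a) = _
    rw [Finset.sum_congr rfl h']
    simp
  rw [h1, Finset.sum_congr rfl (fun φ hφ => hS _ (Finset.mem_image_of_mem _ (Finset.mem_filter.2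
    ⟨Finset.mem_univ φ, (Finset.mem_erase.1 hφ).1⟩))), Finset.sum_const,
    Finset.card_erase_of_mem (Finset.mem_univ _), Finset.card_univ, nsmul_eq_mul] at htot
  have hpos : 0 < Fintype.card Φ := Fintype.card_pos
  have hΦ : Fintype.card Φ = Fintype.card V := by
    rw [← Nat.card_eq_fintype_card, ← Nat.card_eq_fintype_card,
      Module.natCard_eq_pow_finrank (K := ZMod 2) (V := V),
      Module.natCard_eq_pow_finrank (K := ZMod 2) (V := Φ), Subspace.dual_finrank_eq]
  have hcard : O.card = Fintype.card V - 1 := by omega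
  intro v hv
  have : O = Finset.univ.erase (0 : V) := Finset.eq_of_subset_of_card_le
    (fun a ha => Finset.mem_erase.2 ⟨fun e => h0 (e ▸ ha), Finset.mem_univ _⟩)
    (by rw [Finset.card_erase_of_mem (Finset.mem_univ _), Finset.card_univ, hcard])
  rw [this]
  exact Finset.mem_erase.2 ⟨hv, Finset.mem_univ _⟩

end CfsgLib.RealGraph81
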