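import Mathlib
import Cfsg.Agent.Lib.RealGraph81.Abelian
import Cfsg.Agent.Lib.RealGraph81.Fourier
import Cfsg.Agent.Lib.PrimRecog.CyclicPrimePower
import Cfsg.Agent.S0675

/-!
Solvability of the linear groups: their simple case is excluded by Schur's theorem on groups with a
regular cyclic subgroup and a character sum identity.
-/

set_option autoImplicit false

namespace CfsgLib.RealGraph81

open MulAction
open scoped Pointwise

universe u v

/-- A group whose kernel and quotient are solvable. -/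
theorem solvable_of_normal {X : Type u} [Group X] (N : Subgroup X) [N.Normal]
    (h1 : Group.IsSolvable N) (h2 : Group.IsSolvable (X ⧸ N)) : Group.IsSolvable X :=
  Group.isSolvable_of_ker_le_range N.subtype (QuotientGroup.mk' N)
    (by rw [QuotientGroup.ker_mk', Subgroup.range_subtype])

variable {X : Type u} [Group X] [Finite X] {V : Type v} [AddCommGroup V] [DistribMulAction X V]
  [Finite V] [FaithfulSMul X V]

/-- A perfect group with solvable proper normal subgroups satisfying the hypotheses is simple. -/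
theorem isSimple_of_perfect (h : LinHyp X V) [Nontrivial V] (hperf : commutator X = ⊤)
    (hsolv : ∀ N : Subgroup X, N.Normal → N ≠ ⊤ → Group.IsSolvable N) {d : ℕ}
    (hd : Nat.card V = 2 ^ d) {g : X} {r₀ j₀ : ℕ} (hr₀ : r₀.Prime) (hr₀2 : r₀ ≠ 2) (hgr : IsReal g)
    (hgo : orderOf g = r₀ ^ j₀) (hg1 : g ≠ 1) (hirr : IrredElt V g)
    (hg : (orderOf g).Prime ∧ d < orderOf g ∨ d = 6) [Nontrivial X] : IsSimpleGroup X := by
  refine IsSimpleGroup.mk fun N hN => ?_
  by_cases hNtop : N = ⊤
  · exact Or.inr hNtop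
  left
  by_contra hN1
  have := hN
  have hNs := hsolv N hN hNtop
  -- the last non-trivial derived subgroup
  obtain ⟨D, hDn, hDc, hD1⟩ : ∃ D : Subgroup X, D.Normal ∧ (∀ a ∈ D, ∀ b ∈ D, a * b = b * a) ∧ D ≠ ⊥ := by
    classical
    obtain ⟨n, hn⟩ := (Group.isSolvable_def N).1 hNs
    let D : ℕ → Subgroup X := fun i => (derivedSeries N i).map N.subtype
    have hDsucc : ∀ i, D (i + 1) = ⁅D i, D i⁆ := fun i => by
      show (derivedSeries N (i + 1)).map N.subtype = _
      rw [derivedSeries_succ, Subgroup.map_commutator]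
    have hD0 : D 0 = N := by
      show (derivedSeries N 0).map N.subtype = N
      rw [derivedSeries_zero, ← MonoidHom.range_eq_map, Subgroup.range_subtype]
    have hDn : ∀ i, (D i).Normal := by
      intro i
      induction i with
      | zero => rw [hD0]; exact hN
      | succ i ih => rw [hDsucc]; infer_instance
    have hex : ∃ i, D i = ⊥ := ⟨n, by show (derivedSeries N n).map N.subtype = ⊥; rw [hn, Subgroup.map_bot]⟩
    have hm : Nat.find hex ≠ 0 := fun e => hN1 (hD0 ▸ e ▸ Nat.find_spec hex)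
    refine ⟨D (Nat.find hex - 1), hDn _, fun a ha b hb => ?_, Nat.find_min hex (by omega)⟩
    have h0 := Nat.find_spec hex
    rw [show Nat.find hex = Nat.find hex - 1 + 1 by omega, hDsucc] at h0
    exact commutatorElement_eq_one_iff_mul_comm.1
      (Subgroup.mem_bot.1 (h0 ▸ Subgroup.commutator_mem_commutator ha hb))
  have := hDn
  obtain ⟨r, hr, hrD⟩ := Nat.exists_prime_and_dvd (show Nat.card D ≠ 1 from fun e => hD1 (D.card_eq_one.1 e))
  have := Fact.mk hr
  let A : Subgroup X :=
    { carrier := {a | a ∈ D ∧ a ^ r = 1}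
      one_mem' := ⟨D.one_mem, one_pow r⟩
      mul_mem' := fun {a b} ha hb => ⟨D.mul_mem ha.1 hb.1, by
        rw [(show Commute a b from hDc a ha.1 b hb.1).mul_pow, ha.2, hb.2, one_mul]⟩
      inv_mem' := fun {a} ha => ⟨D.inv_mem ha.1, by rw [inv_pow, ha.2, inv_one]⟩ }
  have hAn : A.Normal := ⟨fun a ha x => ⟨hDn.conj_mem a ha.1 x, by rw [conj_pow, ha.2, mul_one, mul_inv_cancel]⟩⟩
  have hA1 : A ≠ ⊥ := by
    obtain ⟨c, hc⟩ := exists_prime_orderOf_dvd_card' r hrD
    intro e
    have : (c : X) ∈ A := ⟨c.2, by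
      have h0 := congrArg Subtype.val (pow_orderOf_eq_one c)
      rwa [hc] at h0⟩
    rw [e, Subgroup.mem_bot] at this
    rw [show c = 1 from Subtype.ext this, orderOf_one] at hc
    exact hr.one_lt.ne hc
  have hr2 : r ≠ 2 := fun e => hA1 (h.two_core A (fun a => ⟨1, Subtype.ext (by
    have := a.2.2
    rw [e] at this
    simpa using this)⟩))
  have hZ := elemAbelian_le_center h.char2 hperf hd hirr hg hAn (fun a ha b hb => hDc a ha.1 b hb.1) hr hr2
    (fun a ha => ha.2)
  obtain ⟨z, hz, hz1⟩ := A.ne_bot_iff_exists_ne_one.1 hA1 |> fun ⟨b, hb⟩ =>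
    (⟨(b : X), b.2, fun e => hb (Subtype.ext e)⟩ : ∃ b ∈ A, b ≠ 1)
  have hzo : orderOf z = r := orderOf_eq_prime hz.2 hz1
  have hzc : ∀ x : X, x * z = z * x := fun x => Subgroup.mem_center_iff.1 (hZ hz) x
  set C := Subgroup.centralizer ({g} : Set X) with hC
  -- the orbits have the size of the centraliser
  obtain ⟨v, hv⟩ := exists_ne (0 : V)
  have horb : Nat.card (orbit X v) = Nat.card C := by
    refine Nat.dvd_antisymm (h.orbit_dvd hgr hr₀ hr₀2 hgo hg1 hv) ?_
    have h1 : stabilizer C v = ⊥ := eq_bot_iff.2 fun c hc => Subgroup.mem_bot.2 (Subtype.ext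
      (centralizer_free hirr (Subgroup.mem_centralizer_singleton_iff.1 c.2) hv hc))
    have h2 : Nat.card (orbit C v) = Nat.card C := by rw [card_orbit, h1, Subgroup.index_bot]
    rw [← h2, card_orbit_subgroup, card_orbit]
    refine dvd_of_eq (le_antisymm ?_ ?_)
    · exact Nat.le_of_dvd (Nat.pos_of_ne_zero Subgroup.FiniteIndex.index_ne_zero)
        (by
          have : orbit C v = orbit X v := by
            refine Set.Subset.antisymm ?_ fun x' hx' => ?_
            · rintro _ ⟨c, rfl⟩
              exact ⟨(c : X), rfl⟩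
            · obtain ⟨c, hc, e⟩ := h.trans hgr hr₀ hr₀2 hgo hg1 hv hx'
              exact ⟨⟨c, Subgroup.mem_centralizer_singleton_iff.2 hc⟩, e⟩
          rw [← card_orbit, ← card_orbit_subgroup, this])
    · have : orbit C v = orbit X v := by
        refine Set.Subset.antisymm ?_ fun x' hx' => ?_
        · rintro _ ⟨c, rfl⟩
          exact ⟨(c : X), rfl⟩
        · obtain ⟨c, hc, e⟩ := h.trans hgr hr₀ hr₀2 hgo hg1 hv hx'
          exact ⟨⟨c, Subgroup.mem_centralizer_singleton_iff.2 hc⟩, e⟩
      rw [← card_orbit, ← card_orbit_subgroup, this]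
  have hzC : z ∈ C := Subgroup.mem_centralizer_singleton_iff.2 (hzc g).symm
  have hrC : r ∣ Nat.card (orbit X v) := horb ▸ hzo ▸ Subgroup.orderOf_dvd_natCard C hzC
  have hcop : C.index.Coprime (Nat.card (orbit X v)) := (h.real g hgr r₀ j₀ hr₀ hr₀2 hgo hg1).2 v hv
  -- transfer
  have hCcomm : IsMulCommutative C := ⟨⟨fun a b => Subtype.ext
    (centralizer_comm (V := V) hirr (Subgroup.mem_centralizer_singleton_iff.1 a.2)
      (Subgroup.mem_centralizer_singleton_iff.1 b.2))⟩⟩
  let inst : CommGroup C := { (inferInstance : Group C) with mul_comm := fun a b => hCcomm.is_comm.comm a b }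
  have key : ∀ (k : ℕ) (g₀ : X), g₀⁻¹ * z ^ k * g₀ ∈ C → g₀⁻¹ * z ^ k * g₀ = z ^ k := fun k g₀ _ => by
    rw [mul_assoc, (Commute.pow_left (show Commute z g₀ from (hzc g₀).symm) k).eq, inv_mul_cancel_left]
  have h1 := map_eq_one_of_perfect hperf (MonoidHom.transfer (MonoidHom.id C)) z
  rw [MonoidHom.transfer_eq_pow _ z key] at h1
  have h2 : z ^ C.index = 1 := congrArg Subtype.val h1
  have h3 := orderOf_dvd_of_pow_eq_one h2
  rw [hzo] at h3
  exact hr.one_lt.ne (Nat.eq_one_of_dvd_coprimes hcop h3 hrC).symm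

/-- The simple case is impossible. -/
theorem false_of_simple [IsSimpleGroup X] (h : LinHyp X V) [Nontrivial V]
    (hns : ¬ Group.IsSolvable X) {g : X} {r₀ j₀ : ℕ}
    (hr₀ : r₀.Prime) (hr₀2 : r₀ ≠ 2) (hgr : IsReal g) (hgo : orderOf g = r₀ ^ j₀) (hg1 : g ≠ 1)
    (hirr : IrredElt V g) {w : X} (hw : w * w = 1) (hw1 : w ≠ 1) : False := by
  classical
  have : Fintype V := Fintype.ofFinite V
  have : Fintype X := Fintype.ofFinite X
  have : Fact (Nat.Prime 2) := ⟨Nat.prime_two⟩
  set C := Subgroup.centralizer ({g} : Set X) with hC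
  have hgfree : ∀ v : V, v ≠ 0 → g • v ≠ v := fun v hv e =>
    hv ((h.real g hgr r₀ j₀ hr₀ hr₀2 hgo hg1).1 v e)
  have htrans : ∀ v : V, v ≠ 0 → ∀ v' ∈ orbit X v, ∃ c : C, (c : X) • v = v' := fun v hv v' hv' => by
    obtain ⟨c, hc, e⟩ := h.trans hgr hr₀ hr₀2 hgo hg1 hv hv'
    exact ⟨⟨c, Subgroup.mem_centralizer_singleton_iff.2 hc⟩, e⟩
  have hstab : ∀ v : V, v ≠ 0 → ∀ c : C, (c : X) • v = v → c = 1 := fun v hv c hc =>
    Subtype.ext (centralizer_free hirr (Subgroup.mem_centralizer_singleton_iff.1 c.2) hv hc)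
  have horb : ∀ v : V, v ≠ 0 → Nat.card (orbit X v) = Nat.card C := fun v hv => by
    refine (Nat.card_congr (Equiv.ofBijective (fun c : C => (⟨(c : X) • v, ⟨(c : X), rfl⟩⟩ : orbit X v))
      ⟨fun a b e => ?_, fun x => ?_⟩)).symm
    · have e' : (a : X) • v = (b : X) • v := congrArg Subtype.val e
      have := hstab v hv (b⁻¹ * a) (by rw [Subgroup.coe_mul, Subgroup.coe_inv, mul_smul, e', inv_smul_smul])
      exact (inv_mul_eq_one.1 this).symm
    · obtain ⟨c, hc⟩ := htrans v hv x x.2
      exact ⟨c, Subtype.ext hc⟩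
  have hcomm : ∀ a b : C, a * b = b * a := fun a b => Subtype.ext
    (centralizer_comm (V := V) hirr (Subgroup.mem_centralizer_singleton_iff.1 a.2)
      (Subgroup.mem_centralizer_singleton_iff.1 b.2))
  obtain ⟨v, hv⟩ := exists_ne (0 : V)
  -- the action on the orbit of `v`
  let Ω := orbit X v
  have hne : ∀ x : Ω, (x : V) ≠ 0 := by
    rintro ⟨_, k, rfl⟩
    exact fun e => hv ((smul_eq_zero_iff_eq k).1 e)
  have hM2 : 2 ≤ Nat.card Ω := by
    have : Nontrivial Ω := ⟨⟨⟨g • v, g, rfl⟩, ⟨v, mem_orbit_self v⟩, fun e => hgfree v hv (congrArg Subtype.val e)⟩⟩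
    exact Finite.one_lt_card
  have : IsPretransitive X Ω := inferInstance
  have hCt : IsPretransitive C Ω := ⟨fun x y => by
    have hy : (y : V) ∈ orbit X (x : V) := by
      rw [MulAction.orbit_eq_iff.2 x.2]; exact y.2
    obtain ⟨c, hc⟩ := htrans _ (hne x) _ hy
    exact ⟨c, Subtype.ext hc⟩⟩
  have hCs : ∀ x : Ω, stabilizer C x = ⊥ := fun x => eq_bot_iff.2 fun c hc =>
    Subgroup.mem_bot.2 (hstab _ (hne x) c (congrArg Subtype.val hc))
  have hspan : ∀ (v : V), v ≠ 0 → AddSubgroup.closure (orbit X v) = ⊤ := fun v hv =>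
    closure_orbit_eq_top hirr hv _ (AddSubgroup.subset_closure (mem_orbit_self v)) fun w hw => by
      have : AddSubgroup.closure (orbit X v) ≤
          (AddSubgroup.closure (orbit X v)).comap (DistribSMul.toAddMonoidHom V g) :=
        (AddSubgroup.closure_le _).2 fun x hx =>
          AddSubgroup.subset_closure (mem_orbit_of_mem_orbit g hx)
      exact this hw
  have hfaith : ∀ k : X, (∀ x : Ω, k • x = x) → k = 1 := by
    intro k hk
    refine eq_of_smul_eq_smul fun x : V => ?_
    rw [one_smul]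
    have hle : AddSubgroup.closure (orbit X v) ≤ fixedVecs V {k} :=
      (AddSubgroup.closure_le _).2 fun y hy => mem_fixedVecs_singleton.2 (congrArg Subtype.val (hk ⟨y, hy⟩))
    rw [hspan v hv] at hle
    exact mem_fixedVecs_singleton.1 (hle (AddSubgroup.mem_top x))
  -- primitive
  have hprim : IsPreprimitive X Ω := by
    refine IsPreprimitive.of_isTrivialBlock_base (⟨v, mem_orbit_self v⟩ : Ω) fun {B} hvB hB => ?_
    by_cases hst : ∀ c : C, (c : X) • B = B → c = 1
    · left
      intro x hx y hy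
      obtain ⟨c, hc⟩ := hCt.exists_smul_eq x y
      have hcB : (c : X) • B = B := by
        refine hB.smul_eq_of_nonempty ⟨y, ?_, hy⟩
        exact Set.mem_smul_set.2 ⟨x, hx, hc⟩
      rw [hst c hcB, one_smul] at hc
      exact hc
    · right
      push Not at hst
      obtain ⟨c, hcB, hc1⟩ := hst
      -- `c` fixes every translate of `B`
      let K : Subgroup X :=
        { carrier := {k | ∀ x : X, k • (x • B) = x • B}
          one_mem' := fun x => one_smul _ _
          mul_mem' := fun {a b} ha hb x => by rw [mul_smul, hb x, ha x]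
          inv_mem' := fun {a} ha x => by rw [inv_smul_eq_iff, ha x] }
      have hKn : K.Normal := ⟨fun k hk y x => by
        have := hk (y⁻¹ * x)
        rw [mul_smul] at this
        rw [mul_smul, mul_smul, this, smul_inv_smul]⟩
      have hcK : (c : X) ∈ K := fun x => by
        obtain ⟨d, hd⟩ := hCt.exists_smul_eq (⟨v, mem_orbit_self v⟩ : Ω) (x • ⟨v, mem_orbit_self v⟩)
        have hdB : (d : X) • B = x • B := by
          refine hB.smul_eq_smul_of_nonempty ⟨x • ⟨v, mem_orbit_self v⟩, ?_, Set.smul_mem_smul_set hvB⟩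
          exact Set.mem_smul_set.2 ⟨_, hvB, hd⟩
        rw [← hdB, ← mul_smul]
        have : (c : X) * d = d * c := congrArg Subtype.val (hcomm c d)
        rw [this, mul_smul, hcB]
      have hKtop : K = ⊤ := (hKn.eq_bot_or_eq_top).resolve_left fun e => hc1 (Subtype.ext (by
        rw [e, Subgroup.mem_bot] at hcK
        exact hcK))
      refine Set.eq_univ_of_forall fun x => ?_
      obtain ⟨k, hk⟩ := exists_smul_eq X (⟨v, mem_orbit_self v⟩ : Ω) x
      have hkB : k • B = B := by
        have := (hKtop ▸ Subgroup.mem_top k : k ∈ K) 1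
        rwa [one_smul] at this
      rw [← hkB]
      exact Set.mem_smul_set.2 ⟨_, hvB, hk⟩
  -- two-transitive
  have hcyc : IsCyclic C := centralizer_isCyclic (V := V) hirr
  have h2t : IsMultiplyPretransitive X Ω 2 := by
    by_cases hnp : IsPrimePow (Nat.card Ω)
    · obtain ⟨p, m, hp, hm, hpm⟩ := hnp
      rw [← Nat.prime_iff] at hp
      rcases Nat.lt_or_ge m 2 with hm2 | hm2
      · obtain rfl : m = 1 := by omega
        have : Fintype Ω := Fintype.ofFinite Ω
        let R := (toPermHom X Ω).range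
        have hinj : Function.Injective (toPermHom X Ω) := (injective_iff_map_eq_one _).2 fun k hk =>
          hfaith k fun x => Equiv.ext_iff.1 hk x
        have : IsPretransitive R Ω := ⟨fun x y => by
          obtain ⟨k, hk⟩ := exists_smul_eq X x y
          exact ⟨⟨toPermHom X Ω k, k, rfl⟩, hk⟩⟩
        rcases Cfsg.Agent.S0675.result (α := Ω) (by rw [← Nat.card_eq_fintype_card, ← hpm, pow_one]; exact hp) R
          with hs | hs
        · exact absurd (solvable_of_solvable_injective (f := (toPermHom X Ω).rangeRestrict)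
            (by rwa [MonoidHom.rangeRestrict_injective_iff])) hns
        · rw [is_two_pretransitive_iff] at hs ⊢
          intro a b c e hab hce
          obtain ⟨⟨_, k, rfl⟩, h1, h2⟩ := hs hab hce
          exact ⟨k, h1, h2⟩
      · exact CfsgLib.PrimRecog.twoTrans_of_regular_cyclic_prime_power hp hm2 hpm.symm C hcyc hCt hCs hprim
    · exact CfsgLib.PrimRecog.twoTrans_of_regular_cyclic hM2 hnp C hcyc hCt hCs hprim
  rw [is_two_pretransitive_iff] at h2t
  -- character sums
  let O : Finset V := Finset.univ.filter (· ∈ orbit X v)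
  have hOmem : ∀ {x}, x ∈ O ↔ x ∈ orbit X v := fun {x} => by simp [O]
  have hOc : O.card = Nat.card C := by
    rw [← horb v hv, Nat.card_eq_fintype_card, Fintype.card_subtype]
  have hM3 : 3 ≤ O.card := by
    obtain ⟨k, hk⟩ := (horb v hv ▸ h.odd v hv : Odd (Nat.card C))
    have : 2 ≤ O.card := by
      rw [hOc, ← horb v hv]; exact hM2
    omega
  set b₀ := g • v with hb₀
  have hb₀v : b₀ ≠ v := hgfree v hv
  set s₀ := v + b₀ with hs₀
  have hs₀0 : s₀ ≠ 0 := fun e => hb₀v (add_left_cancel (e.trans (h.char2 v).symm))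
  obtain ⟨T, hT, hTv, hTc⟩ := exists_intertwiner hirr hv hs₀0
  have hTorb : ∀ y : V, y ∈ orbit X s₀ ↔ ∃ o ∈ O, T o = y := by
    intro y
    constructor
    · intro hy
      obtain ⟨c, hc⟩ := htrans s₀ hs₀0 y hy
      exact ⟨(c : X) • v, hOmem.2 ⟨(c : X), rfl⟩, by
        rw [hTc _ (Subgroup.mem_centralizer_singleton_iff.1 c.2), hTv, hc]⟩
    · rintro ⟨o, ho, rfl⟩
      obtain ⟨c, rfl⟩ := htrans v hv o (hOmem.1 ho)
      rw [hTc _ (Subgroup.mem_centralizer_singleton_iff.1 c.2), hTv]
      exact ⟨(c : X), rfl⟩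
  have hin : ∀ a ∈ O, ∀ b ∈ O, a ≠ b → ∃ o ∈ O, T o = a + b := by
    intro a ha b hb hab
    obtain ⟨k, hka, hkb⟩ := h2t (a := (⟨v, mem_orbit_self v⟩ : Ω)) (b := ⟨b₀, g, rfl⟩)
      (c := ⟨a, hOmem.1 ha⟩) (d := ⟨b, hOmem.1 hb⟩) (fun e => hb₀v (congrArg Subtype.val e).symm)
      (fun e => hab (congrArg Subtype.val e))
    refine (hTorb _).1 ⟨k, ?_⟩
    show k • (v + b₀) = a + b
    rw [smul_add]
    exact congrArg₂ (· + ·) (congrArg Subtype.val hka) (congrArg Subtype.val hkb)
  have hcount : ∀ o ∈ O, Set.ncard {a : V | a ∈ O ∧ T o + a ∈ O} = O.card - 1 := by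
    let N : V → Finset V := fun y => O.filter fun a => y + a ∈ O
    have hNe : ∀ o ∈ O, (N (T o)).card = (N s₀).card := by
      intro o ho
      obtain ⟨k, hk⟩ := (hTorb (T o)).2 ⟨o, ho, rfl⟩
      change k • s₀ = T o at hk
      symm
      refine Finset.card_bij (fun a _ => k • a) ?_ (fun _ _ _ _ e => MulAction.injective k e) ?_
      · intro a ha
        rw [Finset.mem_filter] at ha ⊢
        rw [← hk, ← smul_add]
        exact ⟨hOmem.2 (mem_orbit_of_mem_orbit k (hOmem.1 ha.1)),
          hOmem.2 (mem_orbit_of_mem_orbit k (hOmem.1 ha.2))⟩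
      · intro a ha
        rw [Finset.mem_filter] at ha
        refine ⟨k⁻¹ • a, Finset.mem_filter.2 ⟨hOmem.2 (mem_orbit_of_mem_orbit k⁻¹ (hOmem.1 ha.1)), ?_⟩,
          smul_inv_smul k a⟩
        rw [show s₀ + k⁻¹ • a = k⁻¹ • (T o + a) by rw [smul_add, ← hk, inv_smul_smul]]
        exact hOmem.2 (mem_orbit_of_mem_orbit k⁻¹ (hOmem.1 ha.2))
    have htot : O.card * (O.card - 1) = O.card * (N s₀).card := by
      have h1 : ∀ a ∈ O, (O.filter fun o => T o + a ∈ O).card = O.card - 1 := by
        intro a ha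
        rw [← Finset.card_erase_of_mem ha]
        refine Finset.card_bij (fun o _ => T o + a) ?_ (fun _ _ _ _ e => hT.1 (add_right_cancel e)) ?_
        · intro o ho
          rw [Finset.mem_filter] at ho
          refine Finset.mem_erase.2 ⟨fun e => ?_, ho.2⟩
          have ho0 : o ≠ 0 := hne ⟨o, hOmem.1 ho.1⟩
          have hTo : T o = 0 := add_right_cancel (e.trans (zero_add a).symm)
          exact ho0 (hT.1 (hTo.trans (map_zero T).symm))
        · intro b hb
          obtain ⟨hba, hb⟩ := Finset.mem_erase.1 hb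
          obtain ⟨o, ho, hoT⟩ := hin b hb a ha hba
          have e : T o + a = b := by rw [hoT, add_assoc, h.char2, add_zero]
          exact ⟨o, Finset.mem_filter.2 ⟨ho, by rw [e]; exact hb⟩, e⟩
      calc O.card * (O.card - 1) = ∑ a ∈ O, (O.filter fun o => T o + a ∈ O).card := by
            rw [Finset.sum_congr rfl h1, Finset.sum_const, smul_eq_mul]
        _ = ∑ o ∈ O, (N (T o)).card := by
            simp only [N, Finset.card_filter]
            exact Finset.sum_comm
        _ = O.card * (N s₀).card := by rw [Finset.sum_congr rfl hNe, Finset.sum_const, smul_eq_mul]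
    intro o ho
    rw [show {a : V | a ∈ O ∧ T o + a ∈ O} = ((N (T o) : Finset V) : Set V) by ext; simp [N],
      Set.ncard_coe_finset, hNe o ho]
    exact (Nat.eq_of_mul_eq_mul_left (by omega) htot).symm
  have hfull := full_of_sums h.char2 O hM3 (fun e => hne ⟨0, hOmem.1 e⟩ rfl)
    (by
      rw [show (O : Set V) = orbit X v by ext; simp [O]]
      exact hspan v hv) T hT hin hcount
  have hall : ∀ x : V, x ≠ 0 → x ∈ orbit X v := fun x hx => hOmem.1 (hfull x hx)
  -- a stabiliser moves only within cosets of `{0, v}`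
  set U := invGroup X v with hU
  have hUp : IsPGroup 2 U := invGroup_isPGroup h hv
  obtain ⟨x, hx0, hxv, hx⟩ : ∃ x : V, x ≠ 0 ∧ x ≠ v ∧ ∀ u ∈ U, u • x + x = 0 ∨ u • x + x = v := by
    let Z : AddSubgroup V := AddSubgroup.zmultiples v
    have hZ : ∀ z, z ∈ Z ↔ z = 0 ∨ z = v := by
      intro z
      refine ⟨fun hz => ?_, fun hz => ?_⟩
      · obtain ⟨i, rfl⟩ := AddSubgroup.mem_zmultiples_iff.1 hz
        have h2v : (2 : ℤ) • v = 0 := by rw [two_zsmul]; exact h.char2 v
        rcases Int.even_or_odd i with ⟨j, rfl⟩ | ⟨j, rfl⟩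
        · left; rw [← two_mul, mul_comm, mul_zsmul, h2v, zsmul_zero]
        · right; rw [add_zsmul, mul_comm, mul_zsmul, h2v, zsmul_zero, zero_add, one_zsmul]
      · rcases hz with rfl | rfl
        · exact Z.zero_mem
        · exact AddSubgroup.mem_zmultiples _
    have hUZ : ∀ u : U, Z ≤ Z.comap (DistribSMul.toAddMonoidHom V (u : X)) := by
      intro u z hz
      show (u : X) • z ∈ Z
      rcases (hZ z).1 hz with e | e <;> rw [e]
      · rw [smul_zero]; exact Z.zero_mem
      · rw [show (u : X) • v = v from invGroup_le (X := X) v u.2]; exact AddSubgroup.mem_zmultiples _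
    let q : U → V ⧸ Z →+ V ⧸ Z := fun u =>
      QuotientAddGroup.map Z Z (DistribSMul.toAddMonoidHom V (u : X)) (hUZ u)
    let act : MulAction U (V ⧸ Z) :=
      { smul := fun u x => q u x
        one_smul := fun x => QuotientAddGroup.induction_on x fun y => by
          show ((((1 : U) : X) • y : V) : V ⧸ Z) = (y : V ⧸ Z)
          rw [Subgroup.coe_one, one_smul]
        mul_smul := fun a b x => QuotientAddGroup.induction_on x fun y => by
          show ((((a * b : U) : X) • y : V) : V ⧸ Z) = (((a : X) • (b : X) • y : V) : V ⧸ Z)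
          rw [Subgroup.coe_mul, mul_smul] }
    have hev : 2 ∣ Nat.card (V ⧸ Z) := by
      obtain ⟨d, hd⟩ := card_eq_two_pow h.char2 (V := V)
      have h1 := AddSubgroup.card_eq_card_quotient_mul_card_addSubgroup Z
      have hdvd : Nat.card (V ⧸ Z) ∣ 2 ^ d := hd ▸ Dvd.intro _ h1.symm
      obtain ⟨e, -, he⟩ := (Nat.dvd_prime_pow Nat.prime_two).1 hdvd
      rcases Nat.eq_zero_or_pos e with rfl | he0
      · exfalso
        rw [pow_zero] at he
        have hle : Nat.card V ≤ 2 := by
          rw [h1, he, one_mul, Nat.card_zmultiples]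
          exact Nat.le_of_dvd two_pos (addOrderOf_dvd_of_nsmul_eq_zero (by rw [two_nsmul]; exact h.char2 v))
        have h3 : O.card ≤ Nat.card V := by
          rw [Nat.card_eq_fintype_card]; exact Finset.card_le_univ O
        omega
      · exact he ▸ dvd_pow_self 2 he0.ne'
    have hmod := hUp.card_modEq_card_fixedPoints (V ⧸ Z)
    have h0 : (0 : V ⧸ Z) ∈ fixedPoints U (V ⧸ Z) := fun u => map_zero (q u)
    have hdvd : 2 ∣ Nat.card (fixedPoints U (V ⧸ Z)) := (Nat.modEq_iff_dvd' (Nat.zero_le _)).1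
      ((Nat.modEq_zero_iff_dvd.2 hev).symm.trans hmod) |> fun h' => by simpa using h'
    obtain ⟨⟨x', hx'⟩, hx'0⟩ : ∃ p : fixedPoints U (V ⧸ Z), p ≠ ⟨0, h0⟩ := by
      by_contra hcon
      push Not at hcon
      have : Nat.card (fixedPoints U (V ⧸ Z)) = 1 :=
        Nat.card_eq_one_iff_unique.2 ⟨⟨fun a b => (hcon a).trans (hcon b).symm⟩, ⟨⟨0, h0⟩⟩⟩
      omega
    obtain ⟨x, rfl⟩ := QuotientAddGroup.mk_surjective x'
    have hxZ : x ∉ Z := fun hxZ => hx'0 (Subtype.ext ((QuotientAddGroup.eq_zero_iff x).2 hxZ))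
    refine ⟨x, fun e => hxZ ((hZ x).2 (Or.inl e)), fun e => hxZ ((hZ x).2 (Or.inr e)), fun u hu => ?_⟩
    have h1 : ((u • x : V) : V ⧸ Z) = (x : V ⧸ Z) := hx' ⟨u, hu⟩
    rw [QuotientAddGroup.eq] at h1
    have : -(u • x) + x = u • x + x := by
      rw [neg_eq_of_add_eq_zero_left (h.char2 _)]
    rw [this] at h1
    exact (hZ _).1 h1
  have hevery : ∀ y : V, ∀ u ∈ U, u • y + y = 0 ∨ u • y + y = v := by
    intro y u hu
    rcases eq_or_ne y 0 with rfl | hy0
    · left; rw [smul_zero, add_zero]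
    rcases eq_or_ne y v with e | hyv
    · left; rw [e, show u • v = v from invGroup_le (X := X) v hu, h.char2]
    obtain ⟨k, hkv, hky⟩ := h2t (a := (⟨v, mem_orbit_self v⟩ : Ω)) (b := ⟨x, hall x hx0⟩)
      (c := ⟨v, mem_orbit_self v⟩) (d := ⟨y, hall y hy0⟩) (fun e => hxv (congrArg Subtype.val e).symm)
      (fun e => hyv (congrArg Subtype.val e).symm)
    have hkv' : k • v = v := congrArg Subtype.val hkv
    have hky' : k • x = y := congrArg Subtype.val hky
    have hmem : k⁻¹ * u * k ∈ U := by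
      have := invGroup_conj (g := k⁻¹) (x := v) (by rw [inv_smul_eq_iff]; exact hkv'.symm) hu
      simpa using this
    rcases hx _ hmem with e | e
    · left
      have := congrArg (k • ·) e
      simp only [smul_add, smul_zero, mul_smul, smul_inv_smul, hky'] at this
      exact this
    · right
      have := congrArg (k • ·) e
      simp only [smul_add, mul_smul, smul_inv_smul, hky', hkv'] at this
      exact this
  obtain ⟨u, huU, hu2, hu1⟩ : ∃ u ∈ U, u * u = 1 ∧ u ≠ 1 := by
    by_contra hne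
    push Not at hne
    exact invGroup_ne_bot h hv hw hw1 ((Subgroup.closure_eq_bot_iff).2 fun z hz =>
      hne z (Subgroup.subset_closure hz) hz.1)
  -- so `V` has four elements
  let F : V →+ V := DistribSMul.toAddMonoidHom V u + AddMonoidHom.id V
  have hker : F.ker = fixedVecs V {u} := by
    ext y
    rw [AddMonoidHom.mem_ker, mem_fixedVecs_singleton]
    show u • y + y = 0 ↔ u • y = y
    exact ⟨fun h0 => add_right_cancel (h0.trans (h.char2 y).symm), fun h0 => by rw [h0, h.char2]⟩
  have hrange : Nat.card F.range ≤ 2 := by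
    have hsub : (F.range : Set V) ⊆ ({0, v} : Set V) := by
      rintro _ ⟨y, rfl⟩
      exact hevery y u huU
    show Nat.card ((F.range : Set V) : Type v) ≤ 2
    rw [Nat.card_coe_set_eq]
    refine (Set.ncard_le_ncard hsub (Set.toFinite _)).trans ?_
    exact (Set.ncard_insert_le _ _).trans (by simp)
  have h4 : Nat.card V ≤ 4 := by
    have h1 := AddSubgroup.card_eq_card_quotient_mul_card_addSubgroup F.ker
    rw [Nat.card_congr (QuotientAddGroup.quotientKerEquivRange F).toEquiv, hker] at h1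
    have h2 := h.half hu2 hu1
    nlinarith
  -- so `X` is solvable
  let P := {y : V // y ≠ 0}
  have hP : Nat.card P ≤ 3 := by
    rw [Nat.card_eq_fintype_card, Fintype.card_subtype_compl, Fintype.card_subtype_eq]
    rw [Nat.card_eq_fintype_card] at h4
    omega
  let actP : MulAction X P :=
    { smul := fun k y => ⟨k • (y : V), fun e => y.2 ((smul_eq_zero_iff_eq k).1 e)⟩
      one_smul := fun y => Subtype.ext (one_smul X _)
      mul_smul := fun a b y => Subtype.ext (mul_smul a b (y : V)) }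
  have := perm_solvable_of_card_le_three hP
  refine hns (solvable_of_solvable_injective (f := toPermHom X P) ((injective_iff_map_eq_one _).2 fun k hk =>
    eq_of_smul_eq_smul fun y : V => ?_))
  rw [one_smul]
  rcases eq_or_ne y 0 with rfl | hy
  · exact smul_zero k
  · exact congrArg Subtype.val (Equiv.ext_iff.1 hk ⟨y, hy⟩)

omit [Finite X] [FaithfulSMul X V] in
/-- A linear group satisfying the hypotheses is solvable. -/
theorem LinHyp.solvable (hFT : CfsgLib.FTCons.OddSolvable.{u}) {V : Type v} [AddCommGroup V] [Finite V] :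
    ∀ (n : ℕ) (X : Type u) [Group X] [Finite X] [DistribMulAction X V] [FaithfulSMul X V],
      Nat.card X = n → LinHyp X V → Group.IsSolvable X := by
  intro n
  induction n using Nat.strong_induction_on with
  | _ n ih =>
  intro X _ _ _ _ hn h
  by_contra hns
  have hX : Nontrivial X := by
    by_contra hsub
    rw [not_nontrivial_iff_subsingleton] at hsub
    exact hns inferInstance
  have hV : Nontrivial V := by
    by_contra hsub
    rw [not_nontrivial_iff_subsingleton] at hsub
    obtain ⟨a, b, hab⟩ := hX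
    exact hab (eq_of_smul_eq_smul fun v : V => Subsingleton.elim _ _)
  have hsolv : ∀ N : Subgroup X, N.Normal → N ≠ ⊤ → Group.IsSolvable N := by
    intro N hN hNtop
    have := hN
    have : FaithfulSMul N V := ⟨fun {a b} hab => Subtype.ext (eq_of_smul_eq_smul (α := V) hab)⟩
    refine ih _ ?_ N rfl (h.subgroup N)
    rw [← hn]
    exact lt_of_le_of_ne (Nat.le_of_dvd Nat.card_pos (Subgroup.card_subgroup_dvd_card N))
      fun e => hNtop (N.eq_top_of_card_eq e)
  have hperf : commutator X = ⊤ := by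
    by_contra hc
    exact hns (solvable_of_normal _ (hsolv _ inferInstance hc) (inferInstanceAs (Group.IsSolvable (Abelianization X))))
  obtain ⟨x, hxr, hxo, hx1⟩ : ∃ x : X, IsReal x ∧ Odd (orderOf x) ∧ x ≠ 1 := by
    by_contra hcon
    push Not at hcon
    exact hns (solvable_of_no_real_odd hFT hcon)
  obtain ⟨r, hr, hrd⟩ := Nat.exists_prime_and_dvd (show orderOf x ≠ 1 from fun e => hx1 (orderOf_eq_one_iff.1 e))
  have hr2 : r ≠ 2 := fun e => by
    rw [e] at hrd
    exact (Nat.not_even_iff_odd.2 hxo) (even_iff_two_dvd.2 hrd)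
  obtain ⟨d, hd⟩ := card_eq_two_pow h.char2 (V := V)
  obtain ⟨g, r₀, j₀, hr₀, hr₀2, hgr, hgo, hg1, hirr, hg⟩ := exists_real_irred h
    ⟨x ^ (orderOf x / r), r, hr, hr2, hxr.pow _, orderOf_pow_orderOf_div (orderOf_pos x).ne' hrd⟩ hd
  have hsimp := isSimple_of_perfect h hperf hsolv hd hr₀ hr₀2 hgr hgo hg1 hirr hg
  have : Fact (Nat.Prime 2) := ⟨Nat.prime_two⟩
  obtain ⟨w, hw⟩ := exists_prime_orderOf_dvd_card' 2 (show 2 ∣ Nat.card X by
    by_contra hodd
    exact hns (hFT X (Nat.odd_iff.2 (by omega))))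
  exact false_of_simple h hns hr₀ hr₀2 hgr hgo hg1 hirr (w := w)
    (by rw [← pow_two, ← hw, pow_orderOf_eq_one])
    (fun e => by rw [e, orderOf_one] at hw; exact absurd hw (by decide))

end CfsgLib.RealGraph81
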