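import Mathlib
import Cfsg.Agent.Lib.RealGraph81.Linear

/-!
Groups in which the real elements of order at least three and some involution have class sizes of
coprime order are solvable, given the odd order theorem.
-/

set_option autoImplicit false

namespace CfsgLib.RealGraph81

open MulAction

universe u v

/-- All prime divisors of `n` lie in `π`. -/
def Clean (π : Set ℕ) (n : ℕ) : Prop := ∀ q : ℕ, q.Prime → q ∣ n → q ∈ π

/-- No prime divisor of `n` lies in `π`. -/
def CoClean (π : Set ℕ) (n : ℕ) : Prop := ∀ q : ℕ, q.Prime → q ∣ n → q ∉ π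

variable {π : Set ℕ} {m n : ℕ}

theorem Clean.of_dvd (h : Clean π n) (hd : m ∣ n) : Clean π m := fun q hq hqm => h q hq (hqm.trans hd)

theorem CoClean.of_dvd (h : CoClean π n) (hd : m ∣ n) : CoClean π m :=
  fun q hq hqm => h q hq (hqm.trans hd)

theorem Clean.coprime (hm : Clean π m) (hn : CoClean π n) : m.Coprime n :=
  Nat.coprime_of_dvd fun q hq h1 h2 => hn q hq h2 (hm q hq h1)

theorem Clean.odd (h : Clean π n) (h2 : 2 ∉ π) : Odd n :=
  Nat.not_even_iff_odd.1 fun he => h2 (h 2 Nat.prime_two (even_iff_two_dvd.1 he))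

theorem Clean.eq_one (h : Clean π n) (h' : CoClean π n) : n = 1 := by
  by_contra hn
  obtain ⟨q, hq, hqn⟩ := Nat.exists_prime_and_dvd hn
  exact h' q hq hqn (h q hq hqn)

variable {G : Type u} [Group G]

/-- The number of conjugates of `x`. -/
noncomputable def classSize (x : G) : ℕ := (Subgroup.centralizer ({x} : Set G)).index

theorem classSize_conj (g x : G) : classSize (g * x * g⁻¹) = classSize x := by
  have e : Subgroup.centralizer ({g * x * g⁻¹} : Set G) =
      (Subgroup.centralizer ({x} : Set G)).map (MulAut.conj g : G ≃* G).toMonoidHom := by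
    ext z
    rw [Subgroup.mem_map_equiv, Subgroup.mem_centralizer_singleton_iff,
      Subgroup.mem_centralizer_singleton_iff, MulAut.conj_symm_apply]
    constructor
    · intro h
      calc g⁻¹ * z * g * x = g⁻¹ * (z * (g * x * g⁻¹)) * g := by group
        _ = g⁻¹ * ((g * x * g⁻¹) * z) * g := by rw [h]
        _ = x * (g⁻¹ * z * g) := by group
    · intro h
      calc z * (g * x * g⁻¹) = g * (g⁻¹ * z * g * x) * g⁻¹ := by group
        _ = g * (x * (g⁻¹ * z * g)) * g⁻¹ := by rw [h]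
        _ = g * x * g⁻¹ * z := by group
  rw [classSize, e]
  exact Subgroup.index_map_equiv _ (MulAut.conj g)

theorem mem_center_of_classSize_eq_one {x : G} (h : classSize x = 1) : x ∈ Subgroup.center G := by
  have h' : Subgroup.centralizer ({x} : Set G) = ⊤ := Subgroup.index_eq_one.1 h
  exact (Subgroup.centralizer_eq_top_iff_subset.1 h') rfl

theorem classSize_map_dvd {Q : Type v} [Group Q] {f : G →* Q} (hf : Function.Surjective f) (x : G) :
    classSize (f x) ∣ classSize x := by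
  refine (Subgroup.index_dvd_of_le ?_).trans (Subgroup.index_map_dvd _ hf)
  rintro _ ⟨c, hc, rfl⟩
  rw [Subgroup.mem_centralizer_singleton_iff, ← map_mul, ← map_mul,
    Subgroup.mem_centralizer_singleton_iff.1 hc]

theorem ncard_conj (u : G) : (Set.range fun g : G => g * u * g⁻¹).ncard = classSize u := by
  let F : G ⧸ Subgroup.centralizer ({u} : Set G) → Set.range (fun g : G => g * u * g⁻¹) :=
    fun q => Quotient.liftOn' q (fun g => ⟨g * u * g⁻¹, g, rfl⟩) fun a b hab => Subtype.ext (by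
      have h := Subgroup.mem_centralizer_singleton_iff.1 (QuotientGroup.leftRel_apply.1 hab)
      show a * u * a⁻¹ = b * u * b⁻¹
      calc a * u * a⁻¹ = a * (u * (a⁻¹ * b)) * b⁻¹ := by group
        _ = a * (a⁻¹ * b * u) * b⁻¹ := by rw [h]
        _ = b * u * b⁻¹ := by group)
  rw [← Nat.card_coe_set_eq, classSize, Subgroup.index]
  refine (Nat.card_eq_of_bijective F ⟨fun x y => ?_, ?_⟩).symm
  · induction x using QuotientGroup.induction_on with
    | H a =>
      induction y using QuotientGroup.induction_on with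
      | H b =>
        intro h
        have h' : a * u * a⁻¹ = b * u * b⁻¹ := congrArg Subtype.val h
        refine QuotientGroup.eq.2 (Subgroup.mem_centralizer_singleton_iff.2 ?_)
        calc a⁻¹ * b * u = a⁻¹ * (b * u * b⁻¹) * b := by group
          _ = a⁻¹ * (a * u * a⁻¹) * b := by rw [h']
          _ = u * (a⁻¹ * b) := by group
  · rintro ⟨_, g, rfl⟩
    exact ⟨(g : G ⧸ _), rfl⟩

theorem mul_self_ne_one_of_odd {x : G} (hxo : Odd (orderOf x)) (hx1 : x ≠ 1) : x * x ≠ 1 := by
  intro h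
  have h2 : orderOf x ∣ 2 := orderOf_dvd_of_pow_eq_one (by rw [pow_two, h])
  rcases (Nat.dvd_prime Nat.prime_two).1 h2 with e | e
  · exact hx1 (orderOf_eq_one_iff.1 e)
  · exact absurd (e ▸ hxo) (by decide)

theorem pow_eq_self_of_odd {u : G} (hu : u * u = 1) {n : ℕ} (hn : Odd n) : u ^ n = u := by
  obtain ⟨j, rfl⟩ := hn
  rw [pow_succ, pow_mul, pow_two, hu, one_pow, one_mul]

theorem conj_mul_self {u : G} (hu : u * u = 1) (g : G) : g * u * g⁻¹ * (g * u * g⁻¹) = 1 := by
  rw [show g * u * g⁻¹ * (g * u * g⁻¹) = g * (u * u) * g⁻¹ by group, hu, mul_one, mul_inv_cancel]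

/-- Commuting with all conjugates of an element only depends on one, given coprime class sizes. -/
theorem exists_comm_conj [Finite G] {w u : G} (h : (classSize w).Coprime (classSize u)) (g : G) :
    ∃ a : G, a * w = w * a ∧ g * u * g⁻¹ = a * u * a⁻¹ := by
  obtain ⟨a, ha, b, hb, rfl⟩ := exists_mul_of_coprime h g
  refine ⟨a, Subgroup.mem_centralizer_singleton_iff.1 ha, ?_⟩
  have hb' := Subgroup.mem_centralizer_singleton_iff.1 hb
  calc a * b * u * (a * b)⁻¹ = a * (b * u) * (a * b)⁻¹ := by group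
    _ = a * (u * b) * (a * b)⁻¹ := by rw [hb']
    _ = a * u * a⁻¹ := by group

/-- Coprime class sizes allow simultaneous conjugation. -/
theorem exists_simultaneous [Finite G] {t w : G} (h : (classSize t).Coprime (classSize w)) (a b : G) :
    ∃ k : G, k * t * k⁻¹ = a * t * a⁻¹ ∧ k * w * k⁻¹ = b * w * b⁻¹ := by
  obtain ⟨c, hc, e⟩ := exists_comm_conj h (a⁻¹ * b)
  refine ⟨a * c, ?_, ?_⟩
  · calc a * c * t * (a * c)⁻¹ = a * (c * t) * (a * c)⁻¹ := by group
      _ = a * (t * c) * (a * c)⁻¹ := by rw [hc]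
      _ = a * t * a⁻¹ := by group
  · calc a * c * w * (a * c)⁻¹ = a * (c * w * c⁻¹) * a⁻¹ := by group
      _ = a * (a⁻¹ * b * w * (a⁻¹ * b)⁻¹) * a⁻¹ := by rw [e]
      _ = b * w * b⁻¹ := by group

/-- The hypotheses on class sizes. -/
structure GHyp (G : Type u) [Group G] (π : Set ℕ) : Prop where
  two : 2 ∉ π
  real : ∀ w : G, IsReal w → w * w ≠ 1 → CoClean π (classSize w)
  inv : ∀ t : G, t * t = 1 → Clean π (classSize t) ∨ CoClean π (classSize t)

theorem GHyp.comm_conj [Finite G] (h : GHyp G π) {w u : G} (hw : IsReal w) (hw2 : w * w ≠ 1)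
    (huc : Clean π (classSize u)) (hwu : w * u = u * w) (g : G) :
    w * (g * u * g⁻¹) = g * u * g⁻¹ * w := by
  obtain ⟨a, ha, e⟩ := exists_comm_conj (huc.coprime (h.real w hw hw2)).symm g
  rw [e]
  exact ((show Commute w a from ha.symm).mul_right hwu).mul_right (show Commute w a from ha.symm).inv_right

/-- No real element of odd order commutes with a non-central involution of clean class. -/
theorem GHyp.false_of_comm [Finite G] (h : GHyp G π) {x u : G} (hx : IsReal x) (hxo : Odd (orderOf x))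
    (hx1 : x ≠ 1) (hu : u * u = 1) (huc : Clean π (classSize u)) (hu1 : classSize u ≠ 1)
    (hxu : x * u = u * x) : False := by
  obtain ⟨s, k, hs, hsx⟩ := hx.two_inverter
  have hx2 := mul_self_ne_one_of_odd hxo hx1
  obtain ⟨_, ⟨g, rfl⟩, hsu⟩ := exists_inverted hs (Set.range fun g : G => g * u * g⁻¹)
    (by rw [ncard_conj]; exact huc.odd h.two) (by
      rintro _ ⟨g, rfl⟩
      refine ⟨s * g, ?_⟩
      show s * g * u * (s * g)⁻¹ = s * (g * u * g⁻¹)⁻¹ * s⁻¹
      rw [inv_eq_of_mul_eq_one_right (conj_mul_self hu g)]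
      group)
  have hc0 : Commute x (g * u * g⁻¹) := h.comm_conj hx hx2 huc hxu g
  replace hsu : s * (g * u * g⁻¹) * s⁻¹ = (g * u * g⁻¹)⁻¹ := hsu
  have hu0 : g * u * g⁻¹ * (g * u * g⁻¹) = 1 := conj_mul_self hu g
  obtain ⟨u', hu'def⟩ : ∃ u', u' = g * u * g⁻¹ := ⟨_, rfl⟩
  rw [← hu'def] at hc0 hsu hu0
  have hc : Commute x u' := hc0
  have hu' : u' * u' = 1 := hu0
  have hpow : (x * u') ^ orderOf x = u' := by
    rw [hc.mul_pow, pow_orderOf_eq_one, one_mul, pow_eq_self_of_odd hu' hxo]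
  have hreal : IsReal (x * u') := ⟨s, by
    calc s * (x * u') * s⁻¹ = (s * x * s⁻¹) * (s * u' * s⁻¹) := by group
      _ = x⁻¹ * u'⁻¹ := by rw [hsx, hsu]
      _ = (x * u')⁻¹ := by rw [mul_inv_rev, hc.inv_inv.eq]⟩
  have hne : x * u' * (x * u') ≠ 1 := by
    rw [← pow_two, hc.mul_pow, pow_two u', hu', mul_one, pow_two]
    exact hx2
  have hle : Subgroup.centralizer ({x * u'} : Set G) ≤ Subgroup.centralizer ({u'} : Set G) := by
    intro c hc'
    rw [Subgroup.mem_centralizer_singleton_iff] at hc' ⊢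
    have := (show Commute c (x * u') from hc').pow_right (orderOf x)
    rwa [hpow] at this
  have hdvd : classSize u' ∣ classSize (x * u') := Subgroup.index_dvd_of_le hle
  rw [show classSize u' = classSize u by rw [hu'def, classSize_conj]] at hdvd
  exact hu1 (huc.eq_one ((h.real _ hreal hne).of_dvd hdvd))

theorem GHyp.quotient [Finite G] (h : GHyp G π) (N : Subgroup G) [N.Normal] (hN : Odd (Nat.card N)) :
    GHyp (G ⧸ N) π := by
  have hf := QuotientGroup.mk'_surjective N
  have hker : Odd (Nat.card (QuotientGroup.mk' N).ker) := by rwa [QuotientGroup.ker_mk']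
  refine ⟨h.two, fun y hy hy2 => ?_, fun y hy => ?_⟩
  · obtain ⟨g, rfl, hg⟩ := lift_of_odd_ker _ hf hker hy
    exact (h.real g hg fun e => hy2 (by rw [← map_mul, e, map_one])).of_dvd (classSize_map_dvd hf g)
  · obtain ⟨g, rfl, hg⟩ := lift_sq_one _ hker (hf y) hy
    exact (h.inv g hg).imp (fun e => e.of_dvd (classSize_map_dvd hf g))
      (fun e => e.of_dvd (classSize_map_dvd hf g))

/-- The odd normal subgroups are trivial or lead to solvability. -/
theorem GHyp.solvable_of_quotient_central [Finite G] (hFT : CfsgLib.FTCons.OddSolvable.{u})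
    (h : GHyp G π) {t : G} (ht : t * t = 1) (htc : Clean π (classSize t)) (ht1 : classSize t ≠ 1)
    (N : Subgroup G) [N.Normal] (hN : Odd (Nat.card N))
    (hcen : ∀ g : G, g * t * g⁻¹ * t ∈ N) : Group.IsSolvable G := by
  have hCs : Group.IsSolvable (Subgroup.centralizer ({t} : Set G)) := by
    refine solvable_of_no_real_odd hFT fun x hx hxo => ?_
    by_contra hx1
    exact h.false_of_comm (hx.map (Subgroup.centralizer ({t} : Set G)).subtype)
      (by rwa [Subgroup.coe_subtype, Subgroup.orderOf_coe]) (fun e => hx1 (Subtype.ext e)) ht htc ht1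
      (Subgroup.mem_centralizer_singleton_iff.1 x.2)
  have hsurj : Function.Surjective
      ((QuotientGroup.mk' N).comp (Subgroup.centralizer ({t} : Set G)).subtype) := by
    intro q
    obtain ⟨g, rfl⟩ := QuotientGroup.mk'_surjective N q
    obtain ⟨u, hu_def⟩ : ∃ u, u = g * t * g⁻¹ := ⟨_, rfl⟩
    have hu : u * u = 1 := hu_def ▸ conj_mul_self ht g
    have hp : t * u ∈ N := by
      have := N.inv_mem (hcen g)
      rwa [mul_inv_rev, inv_eq_of_mul_eq_one_right ht, ← hu_def, inv_eq_of_mul_eq_one_right hu] at this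
    obtain ⟨j, hj⟩ := (hN.of_dvd_nat (Subgroup.orderOf_dvd_natCard N hp) : Odd (orderOf (t * u)))
    generalize hp_def' : t * u = p at hj hp
    have hp_def : p = t * u := hp_def'.symm
    have hinv : t * p * t⁻¹ = p⁻¹ := by
      rw [hp_def, mul_inv_rev, inv_eq_of_mul_eq_one_right ht, inv_eq_of_mul_eq_one_right hu,
        ← mul_assoc, ht, one_mul]
    have hpj : t * (p ^ j)⁻¹ = p ^ j * t := by
      calc t * (p ^ j)⁻¹ = t * (p ^ j)⁻¹ * t⁻¹ * t := by group
        _ = (t * p ^ j * t⁻¹)⁻¹ * t := by group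
        _ = ((p ^ j)⁻¹)⁻¹ * t := by rw [← conj_pow, hinv, inv_pow]
        _ = p ^ j * t := by rw [inv_inv]
    have hconj : p ^ j * t * (p ^ j)⁻¹ = u := by
      have h1 : p ^ (2 * j) = p⁻¹ := eq_inv_of_mul_eq_one_left (by
        rw [← pow_succ, ← hj, pow_orderOf_eq_one])
      rw [mul_assoc, hpj, ← mul_assoc, ← pow_add, show j + j = 2 * j by omega, h1, hp_def, mul_inv_rev,
        inv_eq_of_mul_eq_one_right ht, inv_eq_of_mul_eq_one_right hu, mul_assoc, ht, mul_one]
    refine ⟨⟨(p ^ j)⁻¹ * g, Subgroup.mem_centralizer_singleton_iff.2 ?_⟩, ?_⟩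
    · calc (p ^ j)⁻¹ * g * t = (p ^ j)⁻¹ * (g * t * g⁻¹) * g := by group
        _ = (p ^ j)⁻¹ * (p ^ j * t * (p ^ j)⁻¹) * g := by rw [hconj, hu_def]
        _ = t * ((p ^ j)⁻¹ * g) := by group
    · show QuotientGroup.mk' N ((p ^ j)⁻¹ * g) = QuotientGroup.mk' N g
      rw [map_mul, map_inv, map_pow, show QuotientGroup.mk' N p = 1 from
        (QuotientGroup.eq_one_iff p).2 hp, one_pow, inv_one, one_mul]
  exact solvable_of_normal N (hFT N hN) (Group.isSolvable_of_surjective hsurj)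

/-- An abelian normal subgroup is a 2-group when there is no odd normal subgroup. -/
theorem isPGroup_two_of_comm [Finite G]
    (hodd : ∀ N : Subgroup G, N.Normal → Odd (Nat.card N) → N = ⊥) (A : Subgroup G) [hA : A.Normal]
    (hc : ∀ a ∈ A, ∀ b ∈ A, a * b = b * a) : IsPGroup 2 A := by
  refine IsPGroup.iff_orderOf.2 fun a => ?_
  rcases Nat.eq_two_pow_or_exists_odd_prime_and_dvd (orderOf a) with h | ⟨r, hr, hrd, hro⟩
  · exact h
  · exfalso
    have := Fact.mk hr
    let B : Subgroup G :=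
      { carrier := {b | b ∈ A ∧ b ^ r = 1}
        one_mem' := ⟨A.one_mem, one_pow r⟩
        mul_mem' := fun {b c} hb hc' => ⟨A.mul_mem hb.1 hc'.1, by
          rw [(show Commute b c from hc b hb.1 c hc'.1).mul_pow, hb.2, hc'.2, one_mul]⟩
        inv_mem' := fun {b} hb => ⟨A.inv_mem hb.1, by rw [inv_pow, hb.2, inv_one]⟩ }
    have hBn : B.Normal :=
      ⟨fun b hb x => ⟨hA.conj_mem b hb.1 x, by rw [conj_pow, hb.2, mul_one, mul_inv_cancel]⟩⟩
    have hBp : IsPGroup r B := fun b => ⟨1, Subtype.ext (by rw [pow_one]; exact b.2.2)⟩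
    obtain ⟨i, hi⟩ := IsPGroup.iff_card.1 hBp
    have hB := hodd B hBn (by rw [hi]; exact hro.pow)
    have ho := orderOf_pow_orderOf_div (orderOf_pos a).ne' hrd
    have hmem : ((a ^ (orderOf a / r) : A) : G) ∈ B := ⟨(a ^ (orderOf a / r)).2, by
      rw [← SubmonoidClass.coe_pow]
      have := pow_orderOf_eq_one (a ^ (orderOf a / r))
      rw [ho] at this
      rw [this, OneMemClass.coe_one]⟩
    rw [hB, Subgroup.mem_bot] at hmem
    rw [show a ^ (orderOf a / r) = 1 from Subtype.ext hmem, orderOf_one] at ho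
    exact hr.one_lt.ne ho

/-- The conjugates of an involution of clean class commute. -/
theorem GHyp.conj_comm [Finite G] (h : GHyp G π)
    (hodd : ∀ N : Subgroup G, N.Normal → Odd (Nat.card N) → N = ⊥) {t : G} (ht : t * t = 1)
    (htc : Clean π (classSize t)) (a b : G) :
    Commute (a * t * a⁻¹) (b * t * b⁻¹) := by
  obtain ⟨u, hu_def⟩ : ∃ u, u = a * t * a⁻¹ := ⟨_, rfl⟩
  obtain ⟨u', hu'_def⟩ : ∃ u', u' = b * t * b⁻¹ := ⟨_, rfl⟩
  have hu : u * u = 1 := hu_def ▸ conj_mul_self ht a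
  have hu' : u' * u' = 1 := hu'_def ▸ conj_mul_self ht b
  rw [← hu_def, ← hu'_def]
  obtain ⟨p, hp_def⟩ : ∃ p, p = u * u' := ⟨_, rfl⟩
  by_cases hp2 : p * p = 1
  · show u * u' = u' * u
    rw [← hp_def]
    calc p = p⁻¹ := eq_inv_of_mul_eq_one_left hp2
      _ = u' * u := by
        rw [hp_def, mul_inv_rev, inv_eq_of_mul_eq_one_right hu, inv_eq_of_mul_eq_one_right hu']
  exfalso
  have huc : Clean π (classSize u) := by rwa [hu_def, classSize_conj]
  have hinv : u * p * u⁻¹ = p⁻¹ := by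
    rw [hp_def, mul_inv_rev, inv_eq_of_mul_eq_one_right hu, inv_eq_of_mul_eq_one_right hu',
      ← mul_assoc, hu, one_mul]
  have hpr : IsReal p := ⟨u, hinv⟩
  let K : Set G := Set.range fun g : G => g * t * g⁻¹
  have hKu : ∀ z ∈ K, ∃ c, z = c * u * c⁻¹ := by
    rintro _ ⟨g, rfl⟩
    exact ⟨g * a⁻¹, by rw [hu_def]; group⟩
  have hall : ∀ z ∈ K, z * p * z⁻¹ = p⁻¹ := by
    intro z hz
    obtain ⟨g, rfl⟩ := hKu z hz
    obtain ⟨c, hc, e⟩ := exists_comm_conj (huc.coprime (h.real p hpr hp2)).symm g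
    have h1 : c * p * c⁻¹ = p := by rw [hc, mul_inv_cancel_right]
    have h2 : c⁻¹ * p * c = p := by rw [mul_assoc, ← hc, inv_mul_cancel_left]
    rw [e]
    calc c * u * c⁻¹ * p * (c * u * c⁻¹)⁻¹ = c * (u * (c⁻¹ * p * c) * u⁻¹) * c⁻¹ := by group
      _ = c * p⁻¹ * c⁻¹ := by rw [h2, hinv]
      _ = (c * p * c⁻¹)⁻¹ := by group
      _ = p⁻¹ := by rw [h1]
  let S : Set G := Set.image2 (· * ·) K K
  let E : Subgroup G := Subgroup.normalClosure S
  have hpS : p ∈ S := ⟨u, ⟨a, hu_def.symm⟩, u', ⟨b, hu'_def.symm⟩, hp_def.symm⟩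
  have hEc : E ≤ Subgroup.centralizer ({p} : Set G) := by
    refine (Subgroup.closure_le _).2 ?_
    intro z hz
    obtain ⟨s, hs, hsz⟩ := Group.mem_conjugatesOfSet_iff.1 hz
    obtain ⟨_, ⟨g₁, rfl⟩, _, ⟨g₂, rfl⟩, rfl⟩ := hs
    obtain ⟨c, rfl⟩ := isConj_iff.1 hsz
    rw [SetLike.mem_coe, Subgroup.mem_centralizer_singleton_iff]
    have e : c * (g₁ * t * g₁⁻¹ * (g₂ * t * g₂⁻¹)) * c⁻¹ =
        (c * g₁ * t * (c * g₁)⁻¹) * (c * g₂ * t * (c * g₂)⁻¹) := by group
    show c * (g₁ * t * g₁⁻¹ * (g₂ * t * g₂⁻¹)) * c⁻¹ * p = p * _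
    rw [e]
    have hA : c * g₁ * t * (c * g₁)⁻¹ * p * (c * g₁ * t * (c * g₁)⁻¹)⁻¹ = p⁻¹ := hall _ ⟨c * g₁, rfl⟩
    have hB : c * g₂ * t * (c * g₂)⁻¹ * p * (c * g₂ * t * (c * g₂)⁻¹)⁻¹ = p⁻¹ := hall _ ⟨c * g₂, rfl⟩
    generalize c * g₁ * t * (c * g₁)⁻¹ = z₁ at hA ⊢
    generalize c * g₂ * t * (c * g₂)⁻¹ = z₂ at hB ⊢
    calc z₁ * z₂ * p = z₁ * (z₂ * p * z₂⁻¹) * z₁⁻¹ * (z₁ * z₂) := by group
      _ = z₁ * p⁻¹ * z₁⁻¹ * (z₁ * z₂) := by rw [hB]
      _ = (z₁ * p * z₁⁻¹)⁻¹ * (z₁ * z₂) := by group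
      _ = p * (z₁ * z₂) := by rw [hA, inv_inv]
  let A : Subgroup G := E ⊓ Subgroup.centralizer (E : Set G)
  have hA : IsPGroup 2 A := isPGroup_two_of_comm hodd A fun x hx y hy => (hy.2 x hx.1)
  have hpA : p ∈ A := ⟨Subgroup.subset_normalClosure hpS, Subgroup.mem_centralizer_iff.2 fun e he =>
    Subgroup.mem_centralizer_singleton_iff.1 (hEc he)⟩
  obtain ⟨k, hk⟩ := hA ⟨p, hpA⟩
  have hk' : p ^ 2 ^ k = 1 := congrArg Subtype.val hk
  obtain ⟨_, ⟨g, rfl⟩, hpg⟩ := exists_inverted hk' K (by rw [ncard_conj]; exact htc.odd h.two) (by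
    rintro _ ⟨g, rfl⟩
    refine ⟨p * g, ?_⟩
    show p * g * t * (p * g)⁻¹ = p * (g * t * g⁻¹)⁻¹ * p⁻¹
    rw [inv_eq_of_mul_eq_one_right (conj_mul_self ht g)]
    group)
  rw [inv_eq_of_mul_eq_one_right (conj_mul_self ht g), mul_inv_eq_iff_eq_mul] at hpg
  have hpu : p * u = u * p := by
    have := h.comm_conj hpr hp2 (u := g * t * g⁻¹) (by rwa [classSize_conj]) hpg (a * g⁻¹)
    rwa [show a * g⁻¹ * (g * t * g⁻¹) * (a * g⁻¹)⁻¹ = u by rw [hu_def]; group] at this
  rw [← hpu, mul_inv_cancel_right] at hinv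
  exact hp2 (mul_eq_one_iff_eq_inv.2 hinv)

/-- In the closure of a commuting class, elements of co-clean class are central. -/
theorem GHyp.central_of_coclean [Finite G] (h : GHyp G π) {t : G} (ht : t * t = 1)
    (htc : Clean π (classSize t)) (ht1 : classSize t ≠ 1) {W : Subgroup G}
    (hW : W = Subgroup.closure (Set.range fun g : G => g * t * g⁻¹)) [hWn : W.Normal]
    (hWc : ∀ x ∈ W, ∀ y ∈ W, x * y = y * x) (hW2 : ∀ x ∈ W, x * x = 1) {v : G} (hvW : v ∈ W)
    (hv : CoClean π (classSize v)) : v ∈ Subgroup.center G := by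
  have htW : ∀ g : G, g * t * g⁻¹ ∈ W := fun g => hW ▸ Subgroup.subset_closure ⟨g, rfl⟩
  have htW1 : t ∈ W := by simpa using htW 1
  have hvc : ∀ g : G, g * v * g⁻¹ ∈ W := fun g => hWn.conj_mem v hvW g
  rcases h.inv (t * v) (hW2 _ (W.mul_mem htW1 hvW)) with hy | hy
  · refine Subgroup.mem_center_iff.2 fun g => ?_
    obtain ⟨d, hd_def⟩ : ∃ d, d = g * v * g⁻¹ * v := ⟨_, rfl⟩
    have hd : d * d = 1 := hd_def ▸ hW2 _ (W.mul_mem (hvc g) hvW)
    let T : Set G := Set.range fun a : G => a * t * a⁻¹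
    have hT : ∀ z ∈ T, z * d ∈ T := by
      rintro _ ⟨a, rfl⟩
      obtain ⟨k, hk1, hk2⟩ := exists_simultaneous (htc.coprime hv) a g
      obtain ⟨c, hc, hce⟩ := exists_comm_conj (hy.coprime hv).symm k
      refine ⟨c, ?_⟩
      have hcv : c * v * c⁻¹ = v := by rw [hc, mul_inv_cancel_right]
      show c * t * c⁻¹ = a * t * a⁻¹ * d
      calc c * t * c⁻¹ = c * t * c⁻¹ * (v * v) := by rw [hW2 v hvW, mul_one]
        _ = c * t * c⁻¹ * (c * v * c⁻¹) * v := by rw [hcv, mul_assoc _ v v]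
        _ = c * (t * v) * c⁻¹ * v := by group
        _ = k * (t * v) * k⁻¹ * v := by rw [hce]
        _ = (k * t * k⁻¹) * (k * v * k⁻¹) * v := by group
        _ = a * t * a⁻¹ * d := by rw [hk1, hk2, hd_def, mul_assoc _ _ v]
    classical
    have : Fintype T := Fintype.ofFinite T
    let f : T → T := fun z => ⟨(z : G) * d, hT z z.2⟩
    have hff : ∀ z, f (f z) = z := fun z => Subtype.ext (by
      show (z : G) * d * d = z
      rw [mul_assoc, hd, mul_one])
    let σ : Equiv.Perm T := ⟨f, f, hff, hff⟩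
    have : Fact (Nat.Prime 2) := ⟨Nat.prime_two⟩
    have hnd : ¬ 2 ∣ Fintype.card T := by
      rw [← Nat.card_eq_fintype_card, Nat.card_coe_set_eq, ← even_iff_two_dvd, Nat.not_even_iff_odd,
        ncard_conj]
      exact htc.odd h.two
    obtain ⟨z, hz⟩ := Equiv.Perm.exists_fixed_point_of_prime (n := 1) hnd
      (show σ ^ 2 ^ 1 = 1 from Equiv.ext fun z => hff z)
    have hd1 : d = 1 := mul_eq_left.1 (congrArg Subtype.val hz : (z : G) * d = z)
    have : g * v * g⁻¹ = v := by
      rw [eq_inv_of_mul_eq_one_left (hd_def.symm.trans hd1), inv_eq_of_mul_eq_one_right (hW2 v hvW)]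
    exact mul_inv_eq_iff_eq_mul.1 this
  · let P : Set G := Set.range fun a : G => a * v * a⁻¹
    have h1 : ∀ a b : G, ∀ x ∈ P, a * t * a⁻¹ * (b * t * b⁻¹) * x ∈ P := by
      rintro a b _ ⟨c, rfl⟩
      obtain ⟨k, hk1, hk2⟩ := exists_simultaneous (htc.coprime hv) b c
      obtain ⟨l, hl1, hl2⟩ := exists_simultaneous (htc.coprime hy) a k
      refine ⟨l, ?_⟩
      show l * v * l⁻¹ = a * t * a⁻¹ * (b * t * b⁻¹) * (c * v * c⁻¹)
      calc l * v * l⁻¹ = l * (t * (t * v)) * l⁻¹ := by rw [← mul_assoc t t v, ht, one_mul]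
        _ = (l * t * l⁻¹) * (l * (t * v) * l⁻¹) := by group
        _ = (a * t * a⁻¹) * ((k * t * k⁻¹) * (k * v * k⁻¹)) := by rw [hl1, hl2]; group
        _ = _ := by rw [hk1, hk2]; group
    let S : Set G := {w | ∀ x ∈ P, w * x ∈ P}
    have hS1 : (1 : G) ∈ S := fun x hx => by rwa [one_mul]
    have hSmul : ∀ {x y : G}, x ∈ S → y ∈ S → x * y ∈ S := fun hx hy' z hz => by
      rw [mul_assoc]; exact hx _ (hy' z hz)
    have hgen : ∀ a : G, t * (a * t * a⁻¹) ∈ S := fun a x hx => by
      have := h1 1 a x hx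
      simpa using this
    have hcl : ∀ w ∈ W, w ∈ S ∨ t * w ∈ S := by
      intro w hw
      rw [hW] at hw
      suffices w ∈ W ∧ (w ∈ S ∨ t * w ∈ S) from this.2
      induction hw using Subgroup.closure_induction with
      | mem x hx =>
        obtain ⟨a, rfl⟩ := hx
        exact ⟨htW a, Or.inr (hgen a)⟩
      | one => exact ⟨W.one_mem, Or.inl hS1⟩
      | mul x y _ _ hx hy' =>
        refine ⟨W.mul_mem hx.1 hy'.1, ?_⟩
        rcases hx.2 with hx2 | hx2 <;> rcases hy'.2 with hy2 | hy2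
        · exact Or.inl (hSmul hx2 hy2)
        · refine Or.inr ?_
          rw [← mul_assoc, hWc t htW1 x hx.1, mul_assoc]
          exact hSmul hx2 hy2
        · refine Or.inr ?_
          rw [← mul_assoc]
          exact hSmul hx2 hy2
        · refine Or.inl ?_
          have := hSmul hx2 hy2
          rwa [hWc t htW1 x hx.1, mul_assoc, ← mul_assoc t t y, ht, one_mul] at this
      | inv x _ hx =>
        refine ⟨W.inv_mem hx.1, ?_⟩
        rw [inv_eq_of_mul_eq_one_right (hW2 x hx.1)]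
        exact hx.2
    rcases hcl v hvW with hv' | hv'
    · obtain ⟨a, ha⟩ := hv' v ⟨1, by simp⟩
      rw [hW2 v hvW] at ha
      change a * v * a⁻¹ = 1 at ha
      rw [conj_eq_one_iff] at ha
      rw [ha]
      exact Subgroup.one_mem _
    · exfalso
      obtain ⟨a, ha⟩ := hv' v ⟨1, by simp⟩
      rw [mul_assoc, hW2 v hvW, mul_one] at ha
      change a * v * a⁻¹ = t at ha
      refine ht1 (htc.eq_one ?_)
      rw [← ha, classSize_conj]
      exact hv

/-- The case with no odd normal subgroup. -/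
theorem GHyp.solvable_of_no_odd [Finite G] (hFT : CfsgLib.FTCons.OddSolvable.{u}) (h : GHyp G π)
    (hodd : ∀ N : Subgroup G, N.Normal → Odd (Nat.card N) → N = ⊥) {t : G} (ht : t * t = 1)
    (htc : Clean π (classSize t)) (ht1 : classSize t ≠ 1) : Group.IsSolvable G := by
  classical
  have hcomm := h.conj_comm hodd ht htc
  set W : Subgroup G := Subgroup.closure (Set.range fun g : G => g * t * g⁻¹) with hW
  have hWn : W.Normal := ⟨fun w hw x => by
    have hle : W ≤ W.comap (MulAut.conj x).toMonoidHom := by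
      refine (Subgroup.closure_le _).2 ?_
      rintro _ ⟨g, rfl⟩
      show x * (g * t * g⁻¹) * x⁻¹ ∈ W
      exact Subgroup.subset_closure ⟨x * g, by group⟩
    exact hle hw⟩
  have hWc : ∀ x ∈ W, ∀ y ∈ W, x * y = y * x := by
    have hle : W ≤ Subgroup.centralizer (W : Set G) := by
      refine (Subgroup.closure_le _).2 ?_
      rintro _ ⟨a, rfl⟩
      rw [SetLike.mem_coe, hW, Subgroup.centralizer_closure, Subgroup.mem_centralizer_iff]
      rintro _ ⟨b, rfl⟩
      exact hcomm b a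
    exact fun x hx y hy => (Subgroup.mem_centralizer_iff.1 (hle hy) x hx)
  have hW2 : ∀ x ∈ W, x * x = 1 := by
    intro x hx
    suffices x ∈ W ∧ x * x = 1 from this.2
    induction hx using Subgroup.closure_induction with
    | mem x hx =>
      obtain ⟨a, rfl⟩ := hx
      exact ⟨Subgroup.subset_closure ⟨a, rfl⟩, conj_mul_self ht a⟩
    | one => exact ⟨W.one_mem, one_mul 1⟩
    | mul x y _ _ hx hy =>
      refine ⟨W.mul_mem hx.1 hy.1, ?_⟩
      calc x * y * (x * y) = x * (y * x) * y := by group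
        _ = x * (x * y) * y := by rw [hWc y hy.1 x hx.1]
        _ = x * x * (y * y) := by group
        _ = 1 := by rw [hx.2, hy.2, one_mul]
    | inv x _ hx =>
      refine ⟨W.inv_mem hx.1, ?_⟩
      rw [inv_eq_of_mul_eq_one_right hx.2]
      exact hx.2
  -- non-central elements of `W` have clean classes
  have hclean : ∀ w ∈ W, w ∉ Subgroup.center G → Clean π (classSize w) ∧ classSize w ≠ 1 := fun w hw hwc =>
    ⟨(h.inv w (hW2 w hw)).resolve_right fun hc =>
      hwc (h.central_of_coclean ht htc ht1 hW hWc hW2 hw hc),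
     fun e => hwc (mem_center_of_classSize_eq_one e)⟩
  let q := QuotientGroup.mk' (Subgroup.center G)
  have hqs : Function.Surjective q := QuotientGroup.mk'_surjective _
  let Wb : Subgroup (G ⧸ Subgroup.center G) := W.map q
  have : Wb.Normal := hWn.map q hqs
  let : CommGroup Wb :=
    { (inferInstance : Group Wb) with
      mul_comm := by
        rintro ⟨_, a, ha, rfl⟩ ⟨_, b, hb, rfl⟩
        exact Subtype.ext (by
          show q a * q b = q b * q a
          rw [← map_mul, ← map_mul, hWc a ha b hb]) }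
  let ρ : G →* MulAut Wb := MulAut.conjNormal.comp q
  let act : DistribMulAction ρ.range (Additive Wb) :=
    { smul := fun e x => Additive.ofMul ((e : MulAut Wb) (Additive.toMul x))
      one_smul := fun _ => rfl
      mul_smul := fun _ _ _ => rfl
      smul_zero := fun e => map_one (e : MulAut Wb)
      smul_add := fun e x y => map_mul (e : MulAut Wb) (Additive.toMul x) (Additive.toMul y) }
  have : FaithfulSMul ρ.range (Additive Wb) := ⟨fun {a b} hab =>
    Subtype.ext (MulEquiv.ext fun w => Additive.ofMul.injective (hab (Additive.ofMul w)))⟩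
  have hρ : ∀ (g : G) (x : Additive Wb),
      ((ρ g (Additive.toMul x) : Wb) : G ⧸ Subgroup.center G) =
        q g * ((Additive.toMul x : Wb) : G ⧸ Subgroup.center G) * (q g)⁻¹ :=
    fun g x => MulAut.conjNormal_apply (q g) (Additive.toMul x)
  have hrep : ∀ x : Additive Wb, x ≠ 0 → ∃ w ∈ W,
      q w = ((Additive.toMul x : Wb) : G ⧸ Subgroup.center G) ∧ w ∉ Subgroup.center G := by
    intro x hx
    obtain ⟨w, hw, hwx⟩ := (Additive.toMul x).2
    refine ⟨w, hw, hwx, fun hc => hx ?_⟩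
    have : Additive.toMul x = 1 := Subtype.ext (by
      rw [OneMemClass.coe_one, ← hwx]; exact (QuotientGroup.eq_one_iff w).2 hc)
    exact this
  -- a real element of odd order fixes no non-central coset
  have hkey : ∀ (g : G), IsReal g → Odd (orderOf g) → g ≠ 1 → ∀ x : Additive Wb,
      ρ g (Additive.toMul x) = Additive.toMul x → x = 0 := by
    intro g hg hgo hg1 x hgx
    by_contra hx
    obtain ⟨w, hw, hwx, hwc⟩ := hrep x hx
    obtain ⟨hwcl, hw1⟩ := hclean w hw hwc
    have h1 : q (g * w * g⁻¹ * w⁻¹) = 1 := by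
      rw [map_mul, map_mul, map_mul, map_inv, map_inv, hwx, ← hρ, hgx, mul_inv_cancel]
    obtain ⟨z, hz_def⟩ : ∃ z, z = g * w * g⁻¹ * w⁻¹ := ⟨_, rfl⟩
    rw [← hz_def] at h1
    have hzc : ∀ y : G, y * z = z * y := fun y =>
      Subgroup.mem_center_iff.1 ((QuotientGroup.eq_one_iff z).1 h1) y
    have hzW : z ∈ W := hz_def ▸ W.mul_mem (hWn.conj_mem w hw g) (W.inv_mem hw)
    have hgw : g * w * g⁻¹ = z * w := by rw [hz_def, inv_mul_cancel_right]
    have hn : ∀ i : ℕ, g ^ i * w * (g ^ i)⁻¹ = z ^ i * w := by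
      intro i
      induction i with
      | zero => simp
      | succ i ih =>
        calc g ^ (i + 1) * w * (g ^ (i + 1))⁻¹ = g * (g ^ i * w * (g ^ i)⁻¹) * g⁻¹ := by
              rw [pow_succ']; group
          _ = g * z ^ i * (w * g⁻¹) := by rw [ih]; group
          _ = z ^ i * g * (w * g⁻¹) := by rw [((show Commute g z from hzc g).pow_right i).eq]
          _ = z ^ i * (g * w * g⁻¹) := by group
          _ = z ^ (i + 1) * w := by rw [hgw, pow_succ, mul_assoc]
    have h2 := hn (orderOf g)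
    rw [pow_orderOf_eq_one, one_mul, inv_one, mul_one, pow_eq_self_of_odd (hW2 z hzW) hgo] at h2
    have hz1 : z = 1 := right_eq_mul.1 h2
    rw [hz1, one_mul, mul_inv_eq_iff_eq_mul] at hgw
    exact h.false_of_comm hg hgo hg1 (hW2 w hw) hwcl hw1 hgw
  have hstab : ∀ x : Additive Wb, x ≠ 0 →
      Clean π (Nat.card (orbit ρ.range x)) := by
    intro x hx
    obtain ⟨w, hw, hwx, hwc⟩ := hrep x hx
    refine (hclean w hw hwc).1.of_dvd ?_
    rw [card_orbit, ← Subgroup.index_comap_of_surjective _ ρ.rangeRestrict_surjective]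
    refine Subgroup.index_dvd_of_le fun c hc => ?_
    rw [Subgroup.mem_centralizer_singleton_iff] at hc
    show Additive.ofMul (ρ c (Additive.toMul x)) = x
    refine Additive.toMul.injective (Subtype.ext ?_)
    rw [toMul_ofMul]
    rw [hρ, ← hwx, ← map_mul, hc, map_mul, mul_inv_cancel_right]
  have hL : LinHyp ρ.range (Additive Wb) := by
    refine ⟨fun x => ?_, fun y hy r j hr hr2 ho hy1 => ?_, fun x hx => (hstab x hx).odd h.two⟩
    · obtain ⟨w, hw, hwx⟩ := (Additive.toMul x).2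
      refine Additive.toMul.injective (Subtype.ext ?_)
      show ((Additive.toMul x * Additive.toMul x : Wb) : G ⧸ Subgroup.center G) = 1
      rw [Subgroup.coe_mul, ← hwx, ← map_mul, hW2 w hw, map_one]
    · obtain ⟨g, rfl, hg, hgo⟩ := lift_primePow ρ.rangeRestrict ρ.rangeRestrict_surjective hr hr2 ho hy
      have hg1 : g ≠ 1 := fun e => hy1 (by rw [e, map_one])
      refine ⟨fun x hx => hkey g hg hgo hg1 x (congrArg Additive.toMul hx), fun x hx => ?_⟩
      refine ((hstab x hx).coprime ?_).symm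
      exact (h.real g hg (mul_self_ne_one_of_odd hgo hg1)).of_dvd
        (classSize_map_dvd ρ.rangeRestrict_surjective g)
  have hker : Group.IsSolvable ρ.ker := by
    refine solvable_of_no_real_odd hFT fun g hg hgo => ?_
    by_contra hg1
    have htW : t ∈ W := Subgroup.subset_closure ⟨1, by simp⟩
    have := hkey g (hg.map ρ.ker.subtype) (by rwa [Subgroup.orderOf_coe])
      (fun e => hg1 (Subtype.ext e)) (Additive.ofMul ⟨q t, t, htW, rfl⟩)
      (by rw [show ρ g = 1 from g.2]; rfl)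
    have h1 : q t = 1 := congrArg (fun x : Additive Wb => ((Additive.toMul x : Wb) : G ⧸ Subgroup.center G)) this
    refine ht1 ?_
    rw [classSize, Subgroup.index_eq_one, Subgroup.centralizer_eq_top_iff_subset]
    simpa using (QuotientGroup.eq_one_iff t).1 h1
  exact Group.isSolvable_of_ker_le_range ρ.ker.subtype ρ.rangeRestrict
    (hG' := hker) (hG'' := LinHyp.solvable hFT _ ρ.range rfl hL)
    (by rw [MonoidHom.ker_rangeRestrict, Subgroup.range_subtype])

/-- The hypotheses on class sizes imply solvability. -/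
theorem GHyp.solvable (hFT : CfsgLib.FTCons.OddSolvable.{u}) {π : Set ℕ} :
    ∀ (n : ℕ) (G : Type u) [Group G] [Finite G], Nat.card G = n → GHyp G π → ∀ t : G, t * t = 1 →
      Clean π (classSize t) → classSize t ≠ 1 → Group.IsSolvable G := by
  intro n
  induction n using Nat.strong_induction_on with
  | _ n ih =>
  intro G _ _ hn h t ht htc ht1
  by_cases hodd : ∀ N : Subgroup G, N.Normal → Odd (Nat.card N) → N = ⊥
  · exact h.solvable_of_no_odd hFT hodd ht htc ht1
  push Not at hodd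
  obtain ⟨N, hNn, hNo, hN1⟩ := hodd
  have := hNn
  by_cases ht' : classSize (QuotientGroup.mk' N t) = 1
  · refine h.solvable_of_quotient_central hFT ht htc ht1 N hNo fun g => ?_
    have hc := Subgroup.mem_center_iff.1 (mem_center_of_classSize_eq_one ht') (QuotientGroup.mk' N g)
    refine (QuotientGroup.eq_one_iff _).1 ?_
    show QuotientGroup.mk' N (g * t * g⁻¹ * t) = 1
    rw [map_mul, map_mul, map_mul, map_inv, hc, mul_inv_cancel_right, ← map_mul, ht, map_one]
  · have hlt : Nat.card (G ⧸ N) < n := by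
      rw [← hn, Subgroup.card_eq_card_quotient_mul_card_subgroup N]
      exact lt_mul_of_one_lt_right Nat.card_pos ((Subgroup.one_lt_card_iff_ne_bot N).2 hN1)
    exact solvable_of_normal N (hFT N hNo)
      (ih _ hlt _ rfl (h.quotient N hNo) _ (by rw [← map_mul, ht, map_one])
        (htc.of_dvd (classSize_map_dvd (QuotientGroup.mk'_surjective N) t)) ht')

/-- The class of a real element that is not an involution has even size. -/
theorem IsReal.two_dvd_classSize [Finite G] {x : G} (hx : IsReal x) (hx2 : x * x ≠ 1) :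
    2 ∣ classSize x := by
  obtain ⟨s, hs⟩ := hx
  have hx' : x⁻¹ ≠ x := fun e => hx2 (by
    conv_lhs => arg 1; rw [← e]
    rw [inv_mul_cancel])
  let E : Subgroup G :=
    { carrier := {g | g * x * g⁻¹ = x ∨ g * x * g⁻¹ = x⁻¹}
      one_mem' := Or.inl (by group)
      mul_mem' := fun {a b} ha hb => by
        have e : a * b * x * (a * b)⁻¹ = a * (b * x * b⁻¹) * a⁻¹ := by group
        show _ ∨ _
        rw [e]
        rcases hb with hb | hb <;> rw [hb]
        · exact ha
        · rcases ha with ha | ha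
          · exact Or.inr (by rw [show a * x⁻¹ * a⁻¹ = (a * x * a⁻¹)⁻¹ by group, ha])
          · exact Or.inl (by rw [show a * x⁻¹ * a⁻¹ = (a * x * a⁻¹)⁻¹ by group, ha, inv_inv])
      inv_mem' := fun {a} ha => by
        rcases ha with ha | ha
        · exact Or.inl (by
            calc a⁻¹ * x * a⁻¹⁻¹ = a⁻¹ * (a * x * a⁻¹) * a⁻¹⁻¹ := by rw [ha]
              _ = x := by group)
        · exact Or.inr (by
            calc a⁻¹ * x * a⁻¹⁻¹ = a⁻¹ * (x⁻¹)⁻¹ * a := by group
              _ = a⁻¹ * (a * x * a⁻¹)⁻¹ * a := by rw [ha]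
              _ = x⁻¹ := by group) }
  have hCE : Subgroup.centralizer ({x} : Set G) ≤ E := fun c hc => Or.inl (by
    rw [Subgroup.mem_centralizer_singleton_iff.1 hc, mul_inv_cancel_right])
  have hC : ∀ c : G, c ∈ Subgroup.centralizer ({x} : Set G) ↔ c * x * c⁻¹ = x := fun c => by
    rw [Subgroup.mem_centralizer_singleton_iff, mul_inv_eq_iff_eq_mul]
  have h2 : (Subgroup.centralizer ({x} : Set G)).relIndex E = 2 := by
    rw [Subgroup.relIndex, Subgroup.index_eq_two_iff]
    refine ⟨⟨s, Or.inr hs⟩, fun ⟨b, hb⟩ => ?_⟩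
    rw [Subgroup.mem_subgroupOf, Subgroup.mem_subgroupOf, hC, hC]
    have e : b * s * x * (b * s)⁻¹ = b * x⁻¹ * b⁻¹ := by
      rw [show b * s * x * (b * s)⁻¹ = b * (s * x * s⁻¹) * b⁻¹ by group, hs]
    rcases hb with hb | hb
    · exact Or.inr ⟨hb, fun h1 => hx' (by
        change b * s * x * (b * s)⁻¹ = x at h1
        rw [e, show b * x⁻¹ * b⁻¹ = (b * x * b⁻¹)⁻¹ by group, hb] at h1
        exact h1)⟩
    · refine Or.inl ⟨?_, fun h1 => hx' ?_⟩
      · show b * s * x * (b * s)⁻¹ = x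
        rw [e, show b * x⁻¹ * b⁻¹ = (b * x * b⁻¹)⁻¹ by group, hb, inv_inv]
      · change b * x * b⁻¹ = x at h1
        rw [hb] at h1
        exact h1
  exact ⟨E.index, by rw [classSize, ← Subgroup.relIndex_mul_index hCE, h2]⟩

/-- A disconnected real class size graph forces solvability, given the odd order theorem. -/
theorem solvable_of_disconnected [Finite G] (hFT : CfsgLib.FTCons.OddSolvable.{u}) (π₁ π₂ : Set ℕ)
    (h₁ : ∃ q ∈ π₁, q.Prime ∧ ∃ x : G, IsReal x ∧ q ∣ classSize x)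
    (h₂ : ∃ q ∈ π₂, q.Prime ∧ ∃ x : G, IsReal x ∧ q ∣ classSize x)
    (hcover : ∀ (x : G) (q : ℕ), IsReal x → q.Prime → q ∣ classSize x → q ∈ π₁ ∨ q ∈ π₂)
    (hdisj : Disjoint π₁ π₂)
    (hno : ∀ a ∈ π₁, ∀ b ∈ π₂, ∀ x : G, IsReal x → a ∣ classSize x → ¬ b ∣ classSize x) :
    Group.IsSolvable G := by
  suffices H : ∀ π₁ π₂ : Set ℕ, (∃ q ∈ π₂, q.Prime ∧ ∃ x : G, IsReal x ∧ q ∣ classSize x) →
      (∀ (x : G) (q : ℕ), IsReal x → q.Prime → q ∣ classSize x → q ∈ π₁ ∨ q ∈ π₂) → Disjoint π₁ π₂ →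
      (∀ a ∈ π₁, ∀ b ∈ π₂, ∀ x : G, IsReal x → a ∣ classSize x → ¬ b ∣ classSize x) → 2 ∈ π₁ →
      Group.IsSolvable G by
    by_cases h2a : 2 ∈ π₁
    · exact H π₁ π₂ h₂ hcover hdisj hno h2a
    by_cases h2b : 2 ∈ π₂
    · exact H π₂ π₁ h₁ (fun x q hx hq hd => (hcover x q hx hq hd).symm) hdisj.symm
        (fun a ha b hb x hx hax hbx => hno b hb a ha x hx hbx hax) h2b
    refine solvable_of_no_real_odd hFT fun x hx hxo => ?_
    by_contra hx1
    exact (hcover x 2 hx Nat.prime_two (hx.two_dvd_classSize (mul_self_ne_one_of_odd hxo hx1))).elim h2a h2b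
  clear h₁ h₂ hcover hdisj hno π₁ π₂
  intro π₁ π₂ h₂ hcover hdisj hno h2
  have hreal : ∀ w : G, IsReal w → w * w ≠ 1 → CoClean π₂ (classSize w) := fun w hw hw2 q hq hqd hq2 =>
    hno 2 h2 q hq2 w hw (hw.two_dvd_classSize hw2) hqd
  have hG : GHyp G π₂ := by
    refine ⟨fun e => Set.disjoint_left.1 hdisj h2 e, hreal, fun t ht => ?_⟩
    have htr : IsReal t := ⟨1, by rw [one_mul, inv_one, mul_one, inv_eq_of_mul_eq_one_right ht]⟩
    by_cases hc : CoClean π₂ (classSize t)
    · exact Or.inr hc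
    · refine Or.inl fun r hr hrd => ?_
      simp only [CoClean, not_forall, not_not] at hc
      obtain ⟨b, -, hbd, hb2⟩ := hc
      exact (hcover t r htr hr hrd).resolve_left fun hr1 => hno r hr1 b hb2 t htr hrd hbd
  obtain ⟨b, hb2, hb, x, hx, hbd⟩ := h₂
  have hx2 : x * x = 1 := by
    by_contra hne
    exact hreal x hx hne b hb hbd hb2
  refine GHyp.solvable hFT _ G rfl hG x hx2 ((hG.inv x hx2).resolve_right fun hc => hc b hb hbd hb2) fun e => ?_
  rw [e] at hbd
  exact hb.not_dvd_one hbd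

end CfsgLib.RealGraph81
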