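import Mathlib
import Cfsg.Agent.Lib.RealGraph81.Main

/-!
The subgroup generated by the 2-elements, and real class sizes in it when the real class size graph
is disconnected.
-/

set_option autoImplicit false

namespace CfsgLib.RealGraph81

universe u v

variable {G : Type u} [Group G]

/-- The subgroup generated by the elements of 2-power order. -/
def twoGen (G : Type u) [Group G] : Subgroup G :=
  Subgroup.closure {g : G | ∃ k : ℕ, orderOf g = 2 ^ k}

theorem mem_twoGen_of_pow {g : G} {k : ℕ} (h : g ^ 2 ^ k = 1) : g ∈ twoGen G := by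
  obtain ⟨j, -, hj⟩ := (Nat.dvd_prime_pow Nat.prime_two).1 (orderOf_dvd_of_pow_eq_one h)
  exact Subgroup.subset_closure ⟨j, hj⟩

theorem twoGen_map_le {Q : Type v} [Group Q] (f : G →* Q) : (twoGen G).map f ≤ twoGen Q := by
  rw [Subgroup.map_le_iff_le_comap]
  refine (Subgroup.closure_le _).2 ?_
  rintro g ⟨k, hk⟩
  exact mem_twoGen_of_pow (k := k) (by rw [← map_pow, ← hk, pow_orderOf_eq_one, map_one])

instance twoGen_normal : (twoGen G).Normal := ⟨fun g hg x =>
  twoGen_map_le (MulAut.conj x).toMonoidHom ⟨g, hg, rfl⟩⟩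

/-- Real elements lie in the subgroup generated by the 2-elements, and are real there. -/
theorem IsReal.mem_twoGen [Finite G] {x : G} (hx : IsReal x) :
    ∃ h : x ∈ twoGen G, IsReal (⟨x, h⟩ : twoGen G) := by
  obtain ⟨s, k, hs, hsx⟩ := hx.two_inverter
  have hsK := mem_twoGen_of_pow hs
  have hsq : x * x ∈ twoGen G := by
    have h1 := (twoGen G).mul_mem (twoGen_normal.conj_mem s hsK x) ((twoGen G).inv_mem hsK)
    have e : x * s * x⁻¹ * s⁻¹ = x * x := by
      calc x * s * x⁻¹ * s⁻¹ = x * (s * x * s⁻¹)⁻¹ := by group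
        _ = x * x := by rw [hsx, inv_inv]
    rwa [e] at h1
  obtain ⟨m, j, ⟨l, rfl⟩, hj⟩ := exists_odd_pow_two x
  have h2 := mem_twoGen_of_pow hj
  have hxK : x ∈ twoGen G := by
    have h3 := (twoGen G).mul_mem ((twoGen G).inv_mem ((twoGen G).pow_mem hsq l)) h2
    rwa [pow_succ x (2 * l), pow_mul, pow_two, inv_mul_cancel_left] at h3
  exact ⟨hxK, ⟨s, hsK⟩, Subtype.ext hsx⟩

/-- Without real elements of odd order the Sylow 2-subgroups are normal. -/
theorem sylow_two_normal [Finite G] (h : ∀ x : G, IsReal x → Odd (orderOf x) → x = 1)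
    (P : Sylow 2 G) : (P : Subgroup G).Normal := by
  have : Fact (Nat.Prime 2) := ⟨Nat.prime_two⟩
  obtain ⟨N, -, ⟨hNn, hNp⟩, hNmax⟩ := Finite.exists_le_maximal
    (p := fun N : Subgroup G => N.Normal ∧ IsPGroup 2 N) (a := (⊥ : Subgroup G))
    ⟨inferInstance, IsPGroup.of_bot⟩
  have hNP : N ≤ (P : Subgroup G) := by
    obtain ⟨Q, hQ⟩ := hNp.exists_le_sylow
    obtain ⟨g, hg⟩ := MulAction.exists_smul_eq G Q P
    intro x hx
    rw [← hg]
    exact ⟨g⁻¹ * x * g, hQ (by simpa using hNn.conj_mem x hx g⁻¹), by simp [mul_assoc]⟩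
  suffices hidx : ¬ 2 ∣ N.index by
    obtain ⟨i, hi⟩ := IsPGroup.iff_card.1 hNp
    have hcard : Nat.card (P : Subgroup G) ∣ Nat.card N := by
      have h1 : Nat.card (P : Subgroup G) ∣ Nat.card N * N.index := by
        rw [N.card_mul_index]; exact Subgroup.card_subgroup_dvd_card _
      obtain ⟨j, hj⟩ := IsPGroup.iff_card.1 P.2
      rw [hj] at h1 ⊢
      exact (Nat.Coprime.pow_left j (Nat.prime_two.coprime_iff_not_dvd.2 hidx)).dvd_of_dvd_mul_right h1
    rw [← Subgroup.eq_of_le_of_card_ge hNP (Nat.le_of_dvd Nat.card_pos hcard)]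
    exact hNn
  intro h2
  have := hNn
  obtain ⟨a, ha⟩ := exists_prime_orderOf_dvd_card' 2 (G := G ⧸ N) (by rwa [← Subgroup.index_eq_card])
  have ha' : a * a = 1 := by rw [← pow_two, ← ha, pow_orderOf_eq_one]
  obtain ⟨y, r, hr, hr2, ho, hi⟩ := exists_inverted_prime ha' fun M hMn hMp haM => by
    have hker : (QuotientGroup.mk' N).ker = N := QuotientGroup.ker_mk' N
    have hM' : IsPGroup 2 (M.comap (QuotientGroup.mk' N)) :=
      hMp.comap_of_ker_isPGroup _ (by rw [hker]; exact hNp)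
    have hle : M.comap (QuotientGroup.mk' N) ≤ N :=
      hNmax ⟨hMn.comap _, hM'⟩ (fun n hn => by
        rw [Subgroup.mem_comap, show QuotientGroup.mk' N n = 1 from (QuotientGroup.eq_one_iff n).2 hn]
        exact M.one_mem)
    obtain ⟨g, rfl⟩ := QuotientGroup.mk'_surjective N a
    rw [show QuotientGroup.mk' N g = 1 from (QuotientGroup.eq_one_iff g).2 (hle haM), orderOf_one] at ha
    exact absurd ha (by decide)
  obtain ⟨g, hg, hgr, hgo⟩ := lift_primePow (QuotientGroup.mk' N) (QuotientGroup.mk'_surjective N)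
    hr hr2 (j := 1) (by rw [pow_one]; exact ho) ⟨a, hi⟩
  rw [h g hgr hgo, map_one] at hg
  rw [← hg, orderOf_one] at ho
  exact hr.one_lt.ne ho

/-- An odd prime dividing no order of a real element of odd order does not divide the order of the
subgroup generated by the 2-elements of a solvable group. -/
theorem not_dvd_card_twoGen {q : ℕ} (hq : q.Prime) (hq2 : q ≠ 2) :
    ∀ (n : ℕ) (G : Type u) [Group G] [Finite G], Nat.card G = n → Group.IsSolvable G →
      (∀ x : G, IsReal x → Odd (orderOf x) → ¬ q ∣ orderOf x) → ¬ q ∣ Nat.card (twoGen G) := by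
  intro n
  induction n using Nat.strong_induction_on with
  | _ n ih =>
  intro G _ _ hn hsolv h hqK
  have := hsolv
  have := Fact.mk hq
  set K := twoGen G with hK
  have hKn : K.Normal := twoGen_normal
  -- the last non-trivial derived subgroup of `K`
  obtain ⟨D, hDn, hDK, hDc, hD1⟩ : ∃ D : Subgroup G,
      D.Normal ∧ D ≤ K ∧ (∀ a ∈ D, ∀ b ∈ D, a * b = b * a) ∧ D ≠ ⊥ := by
    classical
    obtain ⟨m, hm⟩ := (Group.isSolvable_def K).1 inferInstance
    let D : ℕ → Subgroup G := fun i => (derivedSeries K i).map K.subtype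
    have hDsucc : ∀ i, D (i + 1) = ⁅D i, D i⁆ := fun i => by
      show (derivedSeries K (i + 1)).map K.subtype = _
      rw [derivedSeries_succ, Subgroup.map_commutator]
    have hD0 : D 0 = K := by
      show (derivedSeries K 0).map K.subtype = K
      rw [derivedSeries_zero, ← MonoidHom.range_eq_map, Subgroup.range_subtype]
    have hDn : ∀ i, (D i).Normal := by
      intro i
      induction i with
      | zero => rw [hD0]; exact hKn
      | succ i ih => rw [hDsucc]; infer_instance
    have hex : ∃ i, D i = ⊥ :=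
      ⟨m, by show (derivedSeries K m).map K.subtype = ⊥; rw [hm, Subgroup.map_bot]⟩
    have hm0 : Nat.find hex ≠ 0 := fun e => by
      have h0 := Nat.find_spec hex
      rw [e, hD0] at h0
      rw [h0, Subgroup.card_bot] at hqK
      exact hq.not_dvd_one hqK
    refine ⟨D (Nat.find hex - 1), hDn _, Subgroup.map_subtype_le _, fun a ha b hb => ?_,
      Nat.find_min hex (by omega)⟩
    have h0 := Nat.find_spec hex
    rw [show Nat.find hex = Nat.find hex - 1 + 1 by omega, hDsucc] at h0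
    exact commutatorElement_eq_one_iff_mul_comm.1
      (Subgroup.mem_bot.1 (h0 ▸ Subgroup.commutator_mem_commutator ha hb))
  obtain ⟨r, hr, hrD⟩ := Nat.exists_prime_and_dvd (show Nat.card D ≠ 1 from fun e => hD1 (D.card_eq_one.1 e))
  have := Fact.mk hr
  let N : Subgroup G :=
    { carrier := {a | a ∈ D ∧ a ^ r = 1}
      one_mem' := ⟨D.one_mem, one_pow r⟩
      mul_mem' := fun {a b} ha hb => ⟨D.mul_mem ha.1 hb.1, by
        rw [(show Commute a b from hDc a ha.1 b hb.1).mul_pow, ha.2, hb.2, one_mul]⟩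
      inv_mem' := fun {a} ha => ⟨D.inv_mem ha.1, by rw [inv_pow, ha.2, inv_one]⟩ }
  have hNn : N.Normal :=
    ⟨fun a ha x => ⟨hDn.conj_mem a ha.1 x, by rw [conj_pow, ha.2, mul_one, mul_inv_cancel]⟩⟩
  have hNK : N ≤ K := fun a ha => hDK ha.1
  have hN1 : N ≠ ⊥ := by
    obtain ⟨c, hc⟩ := exists_prime_orderOf_dvd_card' r hrD
    intro e
    have : (c : G) ∈ N := ⟨c.2, by
      have h0 := congrArg Subtype.val (pow_orderOf_eq_one c)
      rwa [hc] at h0⟩
    rw [e, Subgroup.mem_bot] at this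
    rw [show c = 1 from Subtype.ext this, orderOf_one] at hc
    exact hr.one_lt.ne hc
  obtain ⟨i, hi⟩ := IsPGroup.iff_card.1 (show IsPGroup r N from fun a => ⟨1, Subtype.ext (by
    rw [pow_one]; exact a.2.2)⟩)
  let f := QuotientGroup.mk' N
  have hKmap : ¬ q ∣ Nat.card (K.map f) := by
    have hlt : Nat.card (G ⧸ N) < n := by
      rw [← hn, Subgroup.card_eq_card_quotient_mul_card_subgroup N]
      exact lt_mul_of_one_lt_right Nat.card_pos ((Subgroup.one_lt_card_iff_ne_bot N).2 hN1)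
    refine fun hd => ih _ hlt _ rfl inferInstance (fun y hy hyo hqy => ?_)
      (hd.trans (Subgroup.card_dvd_of_le (twoGen_map_le f)))
    have ho := orderOf_pow_orderOf_div (orderOf_pos y).ne' hqy
    obtain ⟨g, hg, hgr, hgo⟩ := lift_primePow f (QuotientGroup.mk'_surjective N) hq hq2 (j := 1)
      (by rw [pow_one]; exact ho) (hy.pow (orderOf y / q))
    exact h g hgr hgo (ho ▸ hg ▸ orderOf_map_dvd f g)
  -- the image of `K` has the index of `N`
  have hidx : Nat.card (K.map f) = N.relIndex K := by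
    have h1 := Subgroup.relIndex_ker f (K := K)
    rw [QuotientGroup.ker_mk'] at h1
    rw [h1]
  have hcard : Nat.card K = Nat.card N * N.relIndex K := by
    rw [← Subgroup.card_mul_index (N.subgroupOf K),
      Nat.card_congr (Subgroup.subgroupOfEquivOfLe hNK).toEquiv]
    rfl
  rw [hidx] at hKmap
  rw [hcard, hi] at hqK
  have hrq : r = q := by
    rcases (Nat.Prime.dvd_mul hq).1 hqK with hd | hd
    · exact ((Nat.prime_dvd_prime_iff_eq hq hr).1 (hq.dvd_of_dvd_pow hd)).symm
    · exact absurd hd hKmap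
  subst hrq
  -- `N` is centralised by the 2-elements
  have hcent : ∀ a ∈ N, K ≤ Subgroup.centralizer ({a} : Set G) := by
    intro a ha
    refine (Subgroup.closure_le _).2 fun s ⟨k, hk⟩ => ?_
    suffices H : ∀ j : ℕ, ∀ s : G, s ^ 2 ^ j = 1 → ∀ a ∈ N, s * a = a * s from
      Subgroup.mem_centralizer_singleton_iff.2 (H k s (by rw [← hk, pow_orderOf_eq_one]) a ha)
    intro j
    induction j with
    | zero => intro s hs a _; rw [pow_zero, pow_one] at hs; rw [hs, one_mul, mul_one]
    | succ j ihj =>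
      intro s hs a ha
      have hs2 : s * s * a = a * (s * s) := ihj (s * s) (by rwa [← pow_two, ← pow_mul, ← pow_succ']) a ha
      set b := s * a * s⁻¹ * a⁻¹ with hb_def
      have hbN : b ∈ N := N.mul_mem (hNn.conj_mem a ha s) (N.inv_mem ha)
      have hcomm : a * (s * a * s⁻¹) = s * a * s⁻¹ * a :=
        hDc a ha.1 _ (hDn.conj_mem a ha.1 s)
      have hsb : s * b * s⁻¹ = b⁻¹ := by
        calc s * b * s⁻¹ = (s * s * a) * (s * s)⁻¹ * (s * a * s⁻¹)⁻¹ := by rw [hb_def]; group
          _ = a * (s * a * s⁻¹)⁻¹ := by rw [hs2, mul_inv_cancel_right]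
          _ = b⁻¹ := by rw [hb_def, mul_inv_rev (s * a * s⁻¹), inv_inv]
      by_cases hb1 : b = 1
      · rw [hb_def, mul_inv_eq_one] at hb1
        exact mul_inv_eq_iff_eq_mul.1 hb1
      · exfalso
        have hbo := orderOf_eq_prime hbN.2 hb1
        exact h b ⟨s, hsb⟩ (hbo ▸ hr.odd_of_ne_two hq2) (hbo ▸ dvd_refl _)
  -- a complement contains all 2-elements
  have : (N.subgroupOf K).Normal := hNn.subgroupOf K
  have hcop : (Nat.card (N.subgroupOf K)).Coprime (N.subgroupOf K).index := by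
    rw [Nat.card_congr (Subgroup.subgroupOfEquivOfLe hNK).toEquiv, hi]
    exact Nat.Coprime.pow_left _ (hr.coprime_iff_not_dvd.2 hKmap)
  obtain ⟨R, hR⟩ := Subgroup.exists_right_complement'_of_coprime hcop
  have hRn : R.Normal := ⟨fun x hx g => by
    obtain ⟨⟨⟨a, ha⟩, ⟨c, hc⟩⟩, e⟩ := (Subgroup.isComplement'_def.1 hR).surjective g
    change a * c = g at e
    have hcom : ∀ y : K, a * y = y * a := fun y => Subtype.ext
      (Subgroup.mem_centralizer_singleton_iff.1 (hcent (a : G) ha y.2)).symm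
    have : g * x * g⁻¹ = c * x * c⁻¹ := by
      rw [← e, show a * c * x * (a * c)⁻¹ = a * (c * x * c⁻¹) * a⁻¹ by group, hcom, mul_inv_cancel_right]
    rw [this]
    exact R.mul_mem (R.mul_mem hc hx) (R.inv_mem hc)⟩
  have hRidx : Odd R.index := by
    rw [hR.index_eq_card, Nat.card_congr (Subgroup.subgroupOfEquivOfLe hNK).toEquiv, hi]
    exact (hr.odd_of_ne_two hq2).pow
  have hle : K ≤ R.map K.subtype := by
    refine (Subgroup.closure_le _).2 fun s ⟨k, hk⟩ => ?_
    have hsK : s ∈ K := Subgroup.subset_closure ⟨k, hk⟩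
    refine ⟨⟨s, hsK⟩, ?_, rfl⟩
    have hu1 : (QuotientGroup.mk' R ⟨s, hsK⟩) ^ 2 ^ k = 1 := by
      rw [← map_pow, ← map_one (QuotientGroup.mk' R)]
      congr 1
      refine Subtype.ext ?_
      rw [SubmonoidClass.coe_pow, ← hk]
      exact pow_orderOf_eq_one s
    obtain ⟨l, -, hl⟩ := (Nat.dvd_prime_pow Nat.prime_two).1 (orderOf_dvd_of_pow_eq_one hu1)
    have hodd : Odd (orderOf (QuotientGroup.mk' R ⟨s, hsK⟩)) :=
      hRidx.of_dvd_nat (Subgroup.index_eq_card R ▸ orderOf_dvd_natCard _)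
    rw [hl] at hodd
    rcases Nat.eq_zero_or_pos l with rfl | hl0
    · rw [pow_zero, orderOf_eq_one_iff] at hl
      exact (QuotientGroup.eq_one_iff _).1 hl
    · exact absurd hodd (Nat.not_odd_iff_even.2 ((Nat.even_pow).2 ⟨even_two, hl0.ne'⟩))
  have hRtop : R = ⊤ := eq_top_iff.2 fun y _ => by
    obtain ⟨z, hz, e⟩ := hle y.2
    exact Subtype.ext e ▸ hz
  have h1 := hR.index_eq_card
  rw [hRtop, Subgroup.index_top, Nat.card_congr (Subgroup.subgroupOfEquivOfLe hNK).toEquiv] at h1
  exact hN1 (N.card_eq_one.1 h1.symm)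

/-- Two non-central involutions of coprime class sizes are incompatible with having all products of
involutions involutions. -/
theorem false_of_involutions [Finite G] {a b : G} {π : Set ℕ} (hb : b * b = 1)
    (hinv : ∀ x y : G, x * x = 1 → y * y = 1 → x * y * (x * y) = 1) (h2 : 2 ∉ π)
    (hac : Clean π (classSize a)) (hb' : CoClean π (classSize b)) (hb1 : classSize b ≠ 1)
    (hy : Clean π (classSize (a * b))) : False := by
  classical
  refine hb1 ?_
  rw [classSize, Subgroup.index_eq_one, Subgroup.centralizer_eq_top_iff_subset, Set.singleton_subset_iff]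
  refine Subgroup.mem_center_iff.2 fun g => ?_
  obtain ⟨d, hd_def⟩ : ∃ d, d = g * b * g⁻¹ * b := ⟨_, rfl⟩
  have hd : d * d = 1 := hd_def ▸ hinv _ _ (conj_mul_self hb g) hb
  let T : Set G := Set.range fun x : G => x * a * x⁻¹
  have hT : ∀ z ∈ T, z * d ∈ T := by
    rintro _ ⟨x, rfl⟩
    obtain ⟨k, hk1, hk2⟩ := exists_simultaneous (hac.coprime hb') x g
    obtain ⟨c, hc, hce⟩ := exists_comm_conj (hy.coprime hb').symm k
    refine ⟨c, ?_⟩
    have hcv : c * b * c⁻¹ = b := by rw [hc, mul_inv_cancel_right]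
    show c * a * c⁻¹ = x * a * x⁻¹ * d
    calc c * a * c⁻¹ = c * a * c⁻¹ * (b * b) := by rw [hb, mul_one]
      _ = c * a * c⁻¹ * (c * b * c⁻¹) * b := by rw [hcv, mul_assoc _ b b]
      _ = c * (a * b) * c⁻¹ * b := by group
      _ = k * (a * b) * k⁻¹ * b := by rw [hce]
      _ = (k * a * k⁻¹) * (k * b * k⁻¹) * b := by group
      _ = x * a * x⁻¹ * d := by rw [hk1, hk2, hd_def, mul_assoc _ _ b]
  have : Fintype T := Fintype.ofFinite T
  let f : T → T := fun z => ⟨(z : G) * d, hT z z.2⟩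
  have hff : ∀ z, f (f z) = z := fun z => Subtype.ext (by
    show (z : G) * d * d = z
    rw [mul_assoc, hd, mul_one])
  let σ : Equiv.Perm T := ⟨f, f, hff, hff⟩
  have : Fact (Nat.Prime 2) := ⟨Nat.prime_two⟩
  have hnd : ¬ 2 ∣ Fintype.card T := by
    rw [← Nat.card_eq_fintype_card, Nat.card_coe_set_eq, ← even_iff_two_dvd, Nat.not_even_iff_odd,
      ncard_conj]
    exact hac.odd h2
  obtain ⟨z, hz⟩ := Equiv.Perm.exists_fixed_point_of_prime (n := 1) hnd
    (show σ ^ 2 ^ 1 = 1 from Equiv.ext fun z => hff z)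
  have hd1 : d = 1 := mul_eq_left.1 (congrArg Subtype.val hz : (z : G) * d = z)
  have : g * b * g⁻¹ = b := by
    rw [eq_inv_of_mul_eq_one_left (hd_def.symm.trans hd1), inv_eq_of_mul_eq_one_right hb]
  exact mul_inv_eq_iff_eq_mul.1 this

/-- The hypothesis: the primes of the real class sizes fall into two parts that never mix. -/
structure Split (G : Type u) [Group G] (π₁ π₂ : Set ℕ) : Prop where
  left : ∃ q ∈ π₁, q.Prime ∧ ∃ x : G, IsReal x ∧ q ∣ classSize x
  right : ∃ q ∈ π₂, q.Prime ∧ ∃ x : G, IsReal x ∧ q ∣ classSize x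
  cover : ∀ (x : G) (q : ℕ), IsReal x → q.Prime → q ∣ classSize x → q ∈ π₁ ∨ q ∈ π₂
  disj : Disjoint π₁ π₂
  edge : ∀ a ∈ π₁, ∀ b ∈ π₂, ∀ x : G, IsReal x → a ∣ classSize x → ¬ b ∣ classSize x

theorem Split.symm {π₁ π₂ : Set ℕ} (h : Split G π₁ π₂) : Split G π₂ π₁ :=
  ⟨h.right, h.left, fun x q hx hq hd => (h.cover x q hx hq hd).symm, h.disj.symm,
    fun a ha b hb x hx hax hbx => h.edge b hb a ha x hx hbx hax⟩

theorem Split.coclean_or {π₁ π₂ : Set ℕ} (h : Split G π₁ π₂) {x : G} (hx : IsReal x) :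
    Clean π₂ (classSize x) ∨ Clean π₁ (classSize x) ∧ CoClean π₂ (classSize x) := by
  by_cases hc : CoClean π₂ (classSize x)
  · exact Or.inr ⟨fun r hr hrd => (h.cover x r hx hr hrd).resolve_right (hc r hr hrd), hc⟩
  · refine Or.inl fun r hr hrd => ?_
    simp only [CoClean, not_forall, not_not] at hc
    obtain ⟨b, -, hbd, hb2⟩ := hc
    exact (h.cover x r hx hr hrd).resolve_left fun hr1 => h.edge r hr1 b hb2 x hx hrd hbd

theorem isReal_of_mul_self {t : G} (ht : t * t = 1) : IsReal t :=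
  ⟨1, by rw [one_mul, inv_one, mul_one, inv_eq_of_mul_eq_one_right ht]⟩

theorem Split.exists_two_dvd [Finite G] {π₁ π₂ : Set ℕ} (h : Split G π₁ π₂) :
    ∃ x : G, IsReal x ∧ 2 ∣ classSize x := by
  by_contra hno
  push Not at hno
  have hall : ∀ x : G, IsReal x → x * x = 1 := fun x hx => by
    by_contra hne
    exact hno x hx (hx.two_dvd_classSize hne)
  have hinv : ∀ x y : G, x * x = 1 → y * y = 1 → x * y * (x * y) = 1 := fun x y hx hy =>
    hall _ ⟨x, by
      rw [mul_inv_rev, inv_eq_of_mul_eq_one_right hx, inv_eq_of_mul_eq_one_right hy, ← mul_assoc, hx,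
        one_mul]⟩
  -- pick classes with primes in either part
  obtain ⟨p₁, hp₁, hp₁p, a, har, had⟩ := h.left
  obtain ⟨p₂, hp₂, hp₂p, b, hbr, hbd⟩ := h.right
  have ha := hall a har
  have hb := hall b hbr
  have key : ∀ (π₁ π₂ : Set ℕ), Split G π₁ π₂ → ∀ (x y : G), x * x = 1 → y * y = 1 →
      ∀ p q : ℕ, p ∈ π₁ → p.Prime → p ∣ classSize x → q ∈ π₂ → q.Prime → q ∣ classSize y →
      Clean π₁ (classSize (x * y)) → False := by
    intro π₁ π₂ h x y hx hy p q hp hpp hpd hq hqq hqd hxy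
    have hxc : Clean π₁ (classSize x) ∧ CoClean π₂ (classSize x) :=
      (h.coclean_or (isReal_of_mul_self hx)).resolve_left fun hc =>
        Set.disjoint_left.1 h.disj hp (hc p hpp hpd)
    have hyc : Clean π₂ (classSize y) := (h.coclean_or (isReal_of_mul_self hy)).resolve_right fun hc =>
      hc.2 q hqq hqd hq
    have hyco : CoClean π₁ (classSize y) := fun r hr hrd hr1 =>
      Set.disjoint_left.1 h.disj hr1 (hyc r hr hrd)
    by_cases h2 : 2 ∈ π₁
    · refine hxc.1.coprime hyco |> fun hcop => ?_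
      refine false_of_involutions (π := π₁ \ {2}) hy hinv (fun e => e.2 rfl)
        (fun r hr hrd => ⟨hxc.1 r hr hrd, fun e => hno x (isReal_of_mul_self hx) (by
          rw [Set.mem_singleton_iff] at e; rwa [e] at hrd)⟩)
        (fun r hr hrd hmem => hyco r hr hrd hmem.1) (fun e => by rw [e] at hqd; exact hqq.not_dvd_one hqd)
        (fun r hr hrd => ⟨hxy r hr hrd, fun e => hno (x * y) (isReal_of_mul_self (hinv x y hx hy)) (by
          rw [Set.mem_singleton_iff] at e; rwa [e] at hrd)⟩)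
    · exact false_of_involutions hy hinv h2 hxc.1 hyco
        (fun e => by rw [e] at hqd; exact hqq.not_dvd_one hqd) hxy
  rcases h.coclean_or (isReal_of_mul_self (hinv a b ha hb)) with hc | hc
  · refine key π₂ π₁ h.symm b a hb ha p₂ p₁ hp₂ hp₂p hbd hp₁ hp₁p had ?_
    have : b * a = a * b := by
      calc b * a = (a * b)⁻¹ := by
            rw [mul_inv_rev, inv_eq_of_mul_eq_one_right ha, inv_eq_of_mul_eq_one_right hb]
        _ = a * b := inv_eq_of_mul_eq_one_right (hinv a b ha hb)
    rwa [this]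
  · exact key π₁ π₂ h a b ha hb p₁ p₂ hp₁ hp₁p had hp₂ hp₂p hbd hc.1

theorem classSize_subgroup_dvd [Finite G] (K : Subgroup G) [K.Normal] (x : K) :
    classSize x ∣ classSize (x : G) := by
  have e : Subgroup.centralizer ({x} : Set K) =
      (Subgroup.centralizer ({(x : G)} : Set G)).subgroupOf K := by
    ext z
    rw [Subgroup.mem_subgroupOf, Subgroup.mem_centralizer_singleton_iff,
      Subgroup.mem_centralizer_singleton_iff]
    exact ⟨fun hz => congrArg Subtype.val hz, fun hz => Subtype.ext hz⟩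
  rw [classSize, e]
  exact relIndex_dvd_index _ _

theorem Split.residual [Finite G] (hFT : CfsgLib.FTCons.OddSolvable.{u}) {π₁ π₂ : Set ℕ}
    (h : Split G π₁ π₂) (h2 : 2 ∈ π₁) {P : Sylow 2 G} (hP : ¬ (P : Subgroup G).Normal) :
    (∃ x : twoGen G, IsReal x ∧ 2 ∣ classSize x) ∧
      (∃ x : twoGen G, IsReal x ∧ Odd (classSize x) ∧ classSize x ≠ 1) ∧
      ∀ x : twoGen G, IsReal x → Odd (classSize x) ∨ ∃ j : ℕ, classSize x = 2 ^ j := by
  have hreal : ∀ w : G, IsReal w → w * w ≠ 1 → CoClean π₂ (classSize w) := fun w hw hw2 q hq hqd hq2 =>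
    h.edge 2 h2 q hq2 w hw (hw.two_dvd_classSize hw2) hqd
  have hG : GHyp G π₂ := ⟨fun e => Set.disjoint_left.1 h.disj h2 e, hreal, fun t ht =>
    (h.coclean_or (isReal_of_mul_self ht)).imp_right And.right⟩
  obtain ⟨b, hb2, hb, t, htr, hbd⟩ := h.right
  have ht : t * t = 1 := by
    by_contra hne
    exact hreal t htr hne b hb hbd hb2
  have htc : Clean π₂ (classSize t) := (hG.inv t ht).resolve_right fun hc => hc b hb hbd hb2
  have ht1 : classSize t ≠ 1 := fun e => by rw [e] at hbd; exact hb.not_dvd_one hbd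
  have hsolv : Group.IsSolvable G := GHyp.solvable hFT _ G rfl hG t ht htc ht1
  -- real elements of odd order are `π₂`-elements
  have hpi : ∀ r : ℕ, r.Prime → r ≠ 2 → r ∉ π₂ → ∀ x : G, IsReal x → Odd (orderOf x) → ¬ r ∣ orderOf x := by
    intro r hr hr2 hrπ x hx hxo hrx
    have := Fact.mk hr
    have ho := orderOf_pow_orderOf_div (orderOf_pos x).ne' hrx
    set y := x ^ (orderOf x / r) with hy
    have hy1 : y ≠ 1 := fun e => hr.one_lt.ne (by rw [← ho, e, orderOf_one])
    let C := Subgroup.centralizer ({t} : Set G)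
    obtain ⟨R⟩ := (inferInstance : Nonempty (Sylow r C))
    obtain ⟨S, hS⟩ := ((R.2).map C.subtype).exists_le_sylow
    have hcard : Nat.card (S : Subgroup G) ≤ Nat.card ((R : Subgroup C).map C.subtype) := by
      rw [Subgroup.card_map_of_injective C.subtype_injective, S.card_eq_multiplicity, R.card_eq_multiplicity]
      refine Nat.pow_le_pow_right hr.pos ?_
      rw [← C.card_mul_index, Nat.factorization_mul Nat.card_pos.ne' Subgroup.FiniteIndex.index_ne_zero,
        Finsupp.add_apply, Nat.factorization_eq_zero_of_not_dvd (n := C.index) fun hd => hrπ (htc r hr hd),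
        add_zero]
    have heq := Subgroup.eq_of_le_of_card_ge hS hcard
    obtain ⟨S', hS'⟩ := (show IsPGroup r (Subgroup.zpowers y) from IsPGroup.of_card (n := 1) (by
      rw [Nat.card_zpowers, ho, pow_one])).exists_le_sylow
    obtain ⟨g, hg⟩ := MulAction.exists_smul_eq G S' S
    have hmem : g * y * g⁻¹ ∈ C := by
      refine Subgroup.map_subtype_le (R : Subgroup C) ?_
      rw [heq, ← hg]
      exact ⟨y, hS' (Subgroup.mem_zpowers y), rfl⟩
    refine hG.false_of_comm (x := g * y * g⁻¹) ((hx.pow _).map (MulAut.conj g).toMonoidHom) ?_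
      (fun e => hy1 (conj_eq_one_iff.1 e)) ht htc ht1 (Subgroup.mem_centralizer_singleton_iff.1 hmem)
    show Odd (orderOf (MulAut.conj g y))
    rw [MulEquiv.orderOf_eq, ho]
    exact hr.odd_of_ne_two hr2
  have hprimes : ∀ r : ℕ, r.Prime → r ∣ Nat.card (twoGen G) → r = 2 ∨ r ∈ π₂ := by
    intro r hr hd
    by_contra hne
    push Not at hne
    exact not_dvd_card_twoGen hr hne.1 _ G rfl hsolv (hpi r hr hne.1 hne.2) hd
  obtain ⟨x, hx, hxo, hx1⟩ : ∃ x : G, IsReal x ∧ Odd (orderOf x) ∧ x ≠ 1 := by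
    by_contra hno
    push Not at hno
    exact hP (sylow_two_normal hno P)
  refine ⟨?_, ?_, fun z hz => ?_⟩
  · obtain ⟨hxK, hxr⟩ := hx.mem_twoGen
    exact ⟨_, hxr, hxr.two_dvd_classSize fun e => mul_self_ne_one_of_odd hxo hx1 (congrArg Subtype.val e)⟩
  · obtain ⟨htK, htr'⟩ := (isReal_of_mul_self ht).mem_twoGen
    refine ⟨_, htr', (htc.odd hG.two).of_dvd_nat (classSize_subgroup_dvd _ _), fun e => ?_⟩
    have hc := mem_center_of_classSize_eq_one e
    obtain ⟨hxK, -⟩ := hx.mem_twoGen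
    exact hG.false_of_comm hx hxo hx1 ht htc ht1
      (congrArg Subtype.val (Subgroup.mem_center_iff.1 hc ⟨x, hxK⟩))
  · have hd := classSize_subgroup_dvd _ z
    rcases h.coclean_or (hz.map (twoGen G).subtype) with hc | ⟨-, hc⟩
    · exact Or.inl ((hc.odd hG.two).of_dvd_nat hd)
    · refine Or.inr ⟨(classSize z).primeFactorsList.length, ?_⟩
      refine Nat.eq_prime_pow_of_unique_prime_dvd Subgroup.FiniteIndex.index_ne_zero fun {r} hr hrd => ?_
      exact (hprimes r hr (hrd.trans (Subgroup.index_dvd_card _))).resolve_right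
        fun hmem => hc r hr (hrd.trans hd) hmem

end CfsgLib.RealGraph81
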